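import Cfsg.Agent.D4SubMax.Cells
import Cfsg.Agent.Lib.ChevCore.RankOneHom

/-!
The context of `³D₄` with its representatives and torus made explicit (helper97, after helper's construction in
`D4SubMax.Base`).
-/

set_option autoImplicit false

namespace Cfsg.Agent.Cover3D4

open Cfsg.Lie Cfsg.Agent.ChevCore Cfsg.Agent.ChevGroup Cfsg.Agent.D4SubMax

variable {F : Type*} [Field F]

open Twisted in
/-- The context exists. -/
theorem exists_ctx_explicit [Fintype F] {q : ℕ} (hq : IsPrimePow q) (hK : Fintype.card F = q ^ 3) :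
    ∃ C : Ctx F q,
      C.n 0 = ng chevD4 F 14 1 ∧
      C.n 1 = xg chevD4 F 12 1 * (xg chevD4 F 13 1 * xg chevD4 F 18 1) *
        (xg chevD4 F 11 (-1) * (xg chevD4 F 10 (-1) * xg chevD4 F 5 (-1))) *
        (xg chevD4 F 12 1 * (xg chevD4 F 13 1 * xg chevD4 F 18 1)) ∧
      (∀ h ∈ C.Hd, ∃ a b : F, a ≠ 0 ∧ b ≠ 0 ∧ b ^ q = b ∧ h = hg chevD4 F 14 b *
        (hg chevD4 F 18 a * (hg chevD4 F 13 (a ^ q) * hg chevD4 F 12 (a ^ (q ^ 2))))) := by
  classical
  obtain ⟨hadd, -, hper⟩ := qpow_hom hq hK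
  have hU := uGoodD4
  have hG := hU.toCommGood.toGood
  have hC := ChevCore.commGoodD4
  have Z := TypeD4.frame₀ (F := F) hq hK
  have X := TypeD4.gens Z hq hK
  set K := relsOfCommGood ChevCore.commGoodD4 F
  have hS : twistedD4 F q = (genG TypeD4.MT K (d4Words F q)).map (chevD4.group F).subtype :=
    (genG_map (T := TypeD4.MT) (K := K) _).symm
  have hx : ∀ (r : Fin TypeD4.MT.tab.n) (t : F),
      (((TypeD4.MT.rel K).x r t : ↥(chevD4.group F)) : GL chevD4.Idx F) = xg chevD4 F r.val t :=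
    fun r t => Units.ext (by rw [hG.val_xg]; rfl)
  have hmem : ∀ g : ↥(chevD4.group F), g ∈ genG TypeD4.MT K (d4Words F q) →
      (g : GL chevD4.Idx F) ∈ twistedD4 F q := fun g hg => hS ▸ ⟨g, hg, rfl⟩
  have hUmap : (TypeD4.MT.rel K).U.map (chevD4.group F).subtype = XS chevD4 F (htGe chevD4 1) := by
    rw [Model.U_map, hG.posUnipotent_eq]
  have hUmem : ∀ g : ↥(chevD4.group F), g ∈ (TypeD4.MT.rel K).U →
      (g : GL chevD4.Idx F) ∈ XS chevD4 F (htGe chevD4 1) := fun g hg => hUmap ▸ ⟨g, hg, rfl⟩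
  let φ : F →+* F := qHom F hq.pos.ne' hadd
  have hphi : ∀ g : GL chevD4.Idx F, Matrix.GeneralLinearGroup.map φ g = g ↔
      ∀ i j, ((g : Matrix chevD4.Idx chevD4.Idx F) i j) ^ q =
        (g : Matrix chevD4.Idx chevD4.Idx F) i j := by
    intro g
    constructor
    · intro h i j
      have h' := congrArg (fun A : GL chevD4.Idx F => (A : Matrix chevD4.Idx chevD4.Idx F)) h
      exact congrFun (congrFun h' i) j
    · intro h
      exact Units.ext (Matrix.ext h)
  have hfrob : ∀ g : ↥(chevD4.group F),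
      Chev54.frobG hC φ g = g → Matrix.GeneralLinearGroup.map φ (g : GL chevD4.Idx F) = g :=
    fun g h => congrArg Subtype.val h
  have hφeq : ∀ x : F, φ x = x ^ q := fun _ => rfl
  have hfix1 : φ (1 : F) = 1 := map_one φ
  have hfixm : φ (-1 : F) = -1 := by rw [map_neg, map_one]
  have hnfix : ∀ k, Chev54.frobG hC φ (TypeD4.nj Z k) = TypeD4.nj Z k := by
    intro k
    show Chev54.frobG hC φ (Z.og k 1 * Z.ogn k (-1) * Z.og k 1) = _
    have h1 : ∀ (L : List (Fin TypeD4.MT.tab.n)) (f : Fin TypeD4.MT.tab.n → Fin TypeD4.MT.tab.n) (c : F),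
        φ c = c → Chev54.frobG hC φ ((L.map fun r => (TypeD4.MT.rel K).x (f r) c).prod) =
          (L.map fun r => (TypeD4.MT.rel K).x (f r) c).prod := by
      intro L f c hc
      rw [map_list_prod, List.map_map]
      refine congrArg List.prod (List.map_congr_left fun r _ => ?_)
      show Chev54.frobG hC φ ((TypeD4.MT.rel K).x (f r) c) = _
      rw [Chev54.frobG_x, hc]
    rw [map_mul, map_mul]
    congr 1
    · congr 1
      · exact h1 _ id 1 hfix1
      · exact h1 _ (TypeD4.MT.S).neg (-1) hfixm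
    · exact h1 _ id 1 hfix1
  let n : Fin 2 → GL chevD4.Idx F := fun k => (TypeD4.nj Z k : GL chevD4.Idx F)
  have hwref : ∀ (k : Fin 2) (r : Fin 24),
      ((TypeD4.MT.S).actw (TypeD4.fd.O.wd k) r).val = wref k r.val := by decide +kernel
  have hnW : ∀ W : List (Fin 2), nWord F n W = ((X.data.nW W : ↥(chevD4.group F)) : GL chevD4.Idx F) := by
    intro W
    induction W with
    | nil => rfl
    | cons k W ih =>
      show (n k) * nWord F n W = _
      rw [ih, X.data.nW_cons]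
      rfl
  have hwact : ∀ (W : List (Fin 2)) (r : Fin TypeD4.MT.tab.n),
      ((TypeD4.MT.S).actw (X.data.aw W) r).val = wact W r.val := by
    intro W
    induction W with
    | nil => intro r; rfl
    | cons k W ih =>
      intro r
      rw [X.data.aw_cons, (TypeD4.MT.S).actw_append, wact_cons, ← ih r]
      exact hwref k _
  have hHscale : ∀ h : ↥(chevD4.group F), h ∈ (TypeD4.MT.rel K).H → ∀ r < 24, ∃ e : F, e ≠ 0 ∧
      ∀ t : F, (h : GL chevD4.Idx F) * xg chevD4 F r t * (h : GL chevD4.Idx F)⁻¹ =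
        xg chevD4 F r (e * t) := by
    intro h hh r hr
    obtain ⟨c, rfl⟩ := Z.exists_tor TypeD4.torOk hh
    refine ⟨_, (chi TypeD4.MT c ⟨r, hr⟩).ne_zero, fun t => ?_⟩
    rw [← hx ⟨r, hr⟩ t, ← hx ⟨r, hr⟩, ← Subgroup.coe_inv, ← Subgroup.coe_mul, ← Subgroup.coe_mul,
      Z.tor_conj]
  have htor : ∀ a b : Fˣ,
      (∀ t : F, ((tor TypeD4.MT K (TypeD4.cvec q a b) : ↥(chevD4.group F)) : GL chevD4.Idx F) *
          xg chevD4 F 18 t *
          ((tor TypeD4.MT K (TypeD4.cvec q a b) : ↥(chevD4.group F)) : GL chevD4.Idx F)⁻¹ =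
        xg chevD4 F 18 ((a : F) ^ 2 * ((b : F))⁻¹ * t)) ∧
      (b ^ q = b → a ^ q = a → Matrix.GeneralLinearGroup.map φ
          ((tor TypeD4.MT K (TypeD4.cvec q a b) : ↥(chevD4.group F)) : GL chevD4.Idx F) =
        ((tor TypeD4.MT K (TypeD4.cvec q a b) : ↥(chevD4.group F)) : GL chevD4.Idx F)) := by
    intro a b
    obtain ⟨v18, -, -, -⟩ := TypeD4.chi_val (F := F) (TypeD4.cvec q a b)
    obtain ⟨e0, e1, e2, e3⟩ := TypeD4.cvec_val q a b
    refine ⟨fun t => ?_, fun hb ha => hfrob _ ?_⟩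
    · rw [show xg chevD4 F 18 t =
          (((TypeD4.MT.rel K).x (18 : Fin TypeD4.MT.tab.n) t : ↥(chevD4.group F)) : GL chevD4.Idx F)
        from (hx 18 t).symm, ← Subgroup.coe_inv, ← Subgroup.coe_mul, ← Subgroup.coe_mul, Z.tor_conj, hx]
      refine congrArg₂ (xg chevD4 F) rfl (congrArg (· * t) ?_)
      rw [v18]; simp only [e0, e1]; simp [zpow_ofNat]
    · have hc : ∀ j, φ (TypeD4.cvec q a b j : F) = (TypeD4.cvec q a b j : F) := by
        have ha' : (a : F) ^ q = a := by rw [← Units.val_pow_eq_pow_val, ha]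
        have ha2 : (a : F) ^ q ^ 2 = a := by rw [pow_two, pow_mul, ha', ha']
        have hb' : (b : F) ^ q = b := by rw [← Units.val_pow_eq_pow_val, hb]
        intro j
        match j with
        | 0 => rw [hφeq, e0, ha']
        | 1 => rw [hφeq, e1, hb']
        | 2 => rw [hφeq, e2, Units.val_pow_eq_pow_val, ha', ha']
        | 3 => rw [hφeq, e3, Units.val_pow_eq_pow_val, ha2, ha']
      rw [tor, map_list_prod, List.map_map]
      refine congrArg List.prod (List.map_congr_left fun i _ => ?_)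
      show Chev54.frobG hC φ (RootRel.nr (TypeD4.MT.rel K) _ _ * RootRel.nr (TypeD4.MT.rel K) _ _) = _
      rw [map_mul, Chev54.frobG_nr, Chev54.frobG_nr, hc, hfixm]
      rfl
  have hH1 : ∀ h : ↥(chevD4.group F), h ∈ genG TypeD4.MT K (d4Words F q) →
      h ∈ (TypeD4.MT.rel K).H →
      ∃ a b : Fˣ, b ^ q = b ∧
        (∀ t : F, (h : GL chevD4.Idx F) * xg chevD4 F 18 t * (h : GL chevD4.Idx F)⁻¹ =
          xg chevD4 F 18 ((a : F) ^ 2 * ((b : F))⁻¹ * t)) ∧
        (a ^ q = a → Matrix.GeneralLinearGroup.map φ (h : GL chevD4.Idx F) = h) := by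
    intro h hg hh
    obtain ⟨c, hc, rfl⟩ : ∃ c, Z.sig TypeD4.pre c = c ∧ tor TypeD4.MT K c = h := by
      let f : ↥(Z.fixedPar TypeD4.pre) → ↥X.data.H1 := fun c =>
        ⟨tor TypeD4.MT K c.1, Subgroup.mem_inf.2
          ⟨TypeD4.torus_mem Z hq hK c.1 ((Z.mem_fixedPar).1 c.2), Z.tor_mem_H c.1⟩⟩
      have hf : Function.Bijective f := by
        refine (Nat.bijective_iff_injective_and_card f).2 ⟨fun c c' e => Subtype.ext ?_,
          (TypeD4.card_fixedPar Z hq hK).trans (TypeD4.card_H1 Z hq hK).symm⟩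
        have e' : tor TypeD4.MT K c.1 = tor TypeD4.MT K c'.1 := congrArg Subtype.val e
        refine mul_inv_eq_one.1 (TypeD4.ker_fixed Z hq hK (c := c.1 * c'.1⁻¹) ?_ ?_)
        · rw [map_mul, map_inv, (Z.mem_fixedPar).1 c.2, (Z.mem_fixedPar).1 c'.2]
        · rw [← Z.torHom_apply, map_mul, map_inv, Z.torHom_apply, Z.torHom_apply, e', mul_inv_cancel]
      obtain ⟨c, hc⟩ := hf.2 ⟨h, Subgroup.mem_inf.2 ⟨hg, hh⟩⟩
      exact ⟨c.1, (Z.mem_fixedPar).1 c.2, congrArg Subtype.val hc⟩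
    obtain ⟨e0, e1, e2, e3⟩ := TypeD4.cvec_val q (c 0) (c 1)
    have hs : ∀ j, c (TypeD4.pre j) ^ q = c j := fun j => by rw [← TypeD4.sig_apply Z, hc]
    have hcv : c = TypeD4.cvec q (c 0) (c 1) := by
      funext j
      match j with
      | 0 => exact e0.symm
      | 1 => exact e1.symm
      | 2 => rw [e2]; exact (hs 2).symm
      | 3 =>
        rw [e3, pow_two, pow_mul, show c 0 ^ q = c 2 from hs 2]
        exact (hs 3).symm
    have hb : c 1 ^ q = c 1 := hs 1
    refine ⟨c 0, c 1, hb, ?_, fun ha => ?_⟩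
    · have := (htor (c 0) (c 1)).1
      rwa [← hcv] at this
    · have := (htor (c 0) (c 1)).2 hb ha
      rwa [← hcv] at this
  refine ⟨{
    sg := fun g => if h : g ∈ chevD4.group F then ((Z.σ ⟨g, h⟩ : ↥(chevD4.group F)) : GL chevD4.Idx F) else 1
    phi := Matrix.GeneralLinearGroup.map φ
    n := n
    S := twistedD4 F q
    q_two := hq.two_le
    card := by rw [Nat.card_eq_fintype_card, hK]
    fin := inferInstance
    add := hadd
    per := hper
    S_eq := rfl
    S_le := ?_, sg_mul := ?_, sg_x := ?_, fixed := ?_, full := ?_, phi_eq := hphi, phi_x := ?_,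
    sep := fun r hr s hs a b ha e => congrArg Fin.val (Chev54.x_root_sep TypeD4.MT K
      (r := ⟨r, hr⟩) (s := ⟨s, hs⟩) (a := a) (b := b) (Subtype.ext (by rw [hx, hx]; exact e)) ha).symm,
    n_mem := fun k => hmem _ (X.nj_mem k), n_fix := fun k => hfrob _ (hnfix k), n_conj := ?_,
    torus := ?_, Hd := X.data.H1.map (chevD4.group F).subtype, Hd_data := ?_, bruhat := ?_, perm_eq := ?_ }, ?_, ?_, ?_⟩
  · rw [hS]
    rintro _ ⟨g, -, rfl⟩
    exact g.2
  · intro a ha b hb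
    rw [dif_pos (mul_mem ha hb), dif_pos ha, dif_pos hb, ← Subgroup.coe_mul, ← map_mul]
    rfl
  · intro r hr t
    rw [dif_pos (hG.xg_mem_group r t)]
    let r' : Fin TypeD4.MT.tab.n := ⟨r, hr⟩
    rw [show (⟨xg chevD4 F r t, hG.xg_mem_group r t⟩ : ↥(chevD4.group F)) = (TypeD4.MT.rel K).x r' t
      from Subtype.ext (hx r' t).symm, Z.σ_x, hx]
    have hdat : ∀ r : Fin 24, (TypeD4.fd.O.rho r).val = rho r.val ∧ TypeD4.PP.ef r.val = eps r.val ∧
        ChevIsogeny.IsoData.lf TypeD4.PP r.val = 1 := by decide +kernel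
    obtain ⟨h1, h2, h3⟩ := hdat r'
    have h1' : (TypeD4.fd.O.rho r').val = rho r := h1
    rw [h1', h2, show ChevIsogeny.IsoHyp.lam TypeD4.PP q r'.val =
      ChevIsogeny.IsoData.lf TypeD4.PP r'.val * q from rfl, h3, one_mul]
  · intro g hg
    rw [hS] at hg
    obtain ⟨g, hg, rfl⟩ := hg
    rw [dif_pos (show (chevD4.group F).subtype g ∈ chevD4.group F from g.2)]
    exact congrArg (fun y : ↥(chevD4.group F) => (y : GL chevD4.Idx F)) (X.fixed g hg)
  · intro g hg hfix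
    rw [← hUmap] at hg
    obtain ⟨g, hg, rfl⟩ := hg
    rw [dif_pos (show (chevD4.group F).subtype g ∈ chevD4.group F from g.2)] at hfix
    exact hmem g (X.data.mem_U1_of_fixed (TypeD4.MT.shapeR K) (X.longest TypeD4.long_ok) hg
      (Subtype.ext hfix)).1
  · intro r hr t
    rw [← hx ⟨r, hr⟩ t, ← hx ⟨r, hr⟩ (t ^ q)]
    exact congrArg Subtype.val (Chev54.frobG_x TypeD4.MT hC φ ⟨r, hr⟩ t)
  · intro k r hr
    obtain ⟨h, hh, e⟩ := X.nj_coset k
    obtain ⟨a, ha, h1⟩ := (TypeD4.MT.rel K).nw_conj (TypeD4.fd.O.wd k) ⟨r, hr⟩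
    obtain ⟨c, hc, h2⟩ : ∃ c : F, c ≠ 0 ∧ ∀ t : F, (h : GL chevD4.Idx F) *
        xg chevD4 F (wref k r) t * (h : GL chevD4.Idx F)⁻¹ = xg chevD4 F (wref k r) (c * t) :=
      hHscale h hh _ (wref_lt k hr)
    have hconj : ∀ t : F, n k * xg chevD4 F r t * (n k)⁻¹ = xg chevD4 F (wref k r) (c * a * t) := by
      intro t
      have h1' := congrArg Subtype.val (h1 t)
      simp only [Subgroup.coe_mul, Subgroup.coe_inv, hx] at h1'
      rw [show ((TypeD4.MT.S).actw (TypeD4.fd.O.wd k) ⟨r, hr⟩).val = wref k r from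
        hwref k ⟨r, hr⟩] at h1'
      rw [mul_assoc c a t, ← h2, ← h1']
      show (TypeD4.nj Z k : GL chevD4.Idx F) * _ * ((TypeD4.nj Z k : GL chevD4.Idx F))⁻¹ = _
      rw [e, Subgroup.coe_mul]
      simp only [K]
      group
    have hne : c * a ≠ 0 := by
      refine mul_ne_zero hc ?_
      rintro rfl
      simp at ha
    refine ⟨c * a, hne, ?_, hconj⟩
    have h3 := congrArg (Matrix.GeneralLinearGroup.map φ) (hconj 1)
    rw [map_mul, map_mul, map_inv, show Matrix.GeneralLinearGroup.map φ (n k) = n k from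
      hfrob _ (hnfix k)] at h3
    have hφx : ∀ (r : ℕ), r < 24 → ∀ t : F, Matrix.GeneralLinearGroup.map φ (xg chevD4 F r t) =
        xg chevD4 F r (t ^ q) := by
      intro r hr t
      rw [← hx ⟨r, hr⟩ t, ← hx ⟨r, hr⟩ (t ^ q)]
      exact congrArg Subtype.val (Chev54.frobG_x TypeD4.MT hC φ ⟨r, hr⟩ t)
    rw [hφx r hr, hφx _ (wref_lt k hr), one_pow, hconj, mul_one] at h3
    exact (hG.xg_injective (wref_lt k hr) h3).symm
  · intro a b hb
    have hc := TypeD4.sig_cvec Z hq hK a b hb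
    have hh := TypeD4.torus_mem Z hq hK _ hc
    exact ⟨_, hmem _ hh, (htor a b).1, hHscale _ (Z.tor_mem_H _), fun ha => (htor a b).2 hb ha⟩
  · rintro _ ⟨h, hh, rfl⟩
    exact ⟨hmem h hh.1, hHscale h hh.2, hH1 h hh.1 hh.2⟩
  · intro g hg
    rw [hS] at hg
    obtain ⟨g, hg, rfl⟩ := hg
    have M := TypeD4.MT.shapeR K
    have h0 := X.longest TypeD4.long_ok
    obtain ⟨W, hW⟩ := X.data.exists_bruhat M h0 X.split hg
    obtain ⟨b, hb, e⟩ := mem_cell.1 hW
    rw [QuotientGroup.eq] at e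
    obtain ⟨u, hu, h, hh, eb⟩ := X.data.exists_U1_H1 M h0 hb
    obtain ⟨v, hv, h', hh', ev⟩ := X.data.exists_U1_H1 M h0 e
    obtain ⟨v2, hv2, h2, hh2, e2⟩ : ∃ v2 ∈ X.data.U1, ∃ h2 ∈ X.data.H1,
        h * X.data.nW W * (v * h') = X.data.nW W * (v2 * h2) := by
      have hmv : (X.data.nW W)⁻¹ * h * X.data.nW W ∈ X.data.H1 := by
        clear hW e ev eb
        induction W generalizing h with
        | nil => simpa using hh
        | cons k W ih =>
          have := ih _ (X.data.nJ_inv_conj_H1 k hh)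
          simpa [mul_assoc] using this
      obtain ⟨v2, hv2, h2, hh2, e2⟩ := X.data.exists_U1_H1 M h0
        (mul_mem (X.data.H1_le_B1 hmv) (mul_mem (X.data.U1_le_B1 hv) (X.data.H1_le_B1 hh')))
      exact ⟨v2, hv2, h2, hh2, by rw [e2]; group⟩
    have hg' : g = u * X.data.nW W * (v2 * h2) := by
      rw [mul_assoc u, ← e2, ev, ← eb]
      group
    refine ⟨_, hmem u hu.1, hUmem u hu.2, W, _, hmem v2 hv2.1, hUmem v2 hv2.2,
      (h2 : GL chevD4.Idx F), ⟨h2, hh2, rfl⟩, ?_⟩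
    rw [hnW, ← Subgroup.coe_mul, ← Subgroup.coe_mul, ← Subgroup.coe_mul]
    exact congrArg Subtype.val hg'
  · intro W W' hW
    have hh := X.data.mem_H1_of_perm (A := W) (B := W') fun r => Fin.ext (by
      exact (hwact W r).trans ((hW r.val r.isLt).trans (hwact W' r).symm))
    refine ⟨_, ⟨_, hh, rfl⟩, ?_⟩
    rw [hnW, hnW, Subgroup.subtype_apply, ← Subgroup.coe_mul, mul_inv_cancel_left]
  · -- the first representative
    show (TypeD4.nj Z 0 : GL chevD4.Idx F) = _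
    have e : TypeD4.nj Z 0 = (TypeD4.MT.rel K).x 14 1 * 1 *
        ((TypeD4.MT.rel K).x ((TypeD4.MT.S).neg 14) (-1) * 1) * ((TypeD4.MT.rel K).x 14 1 * 1) := rfl
    simp only [e, mul_one, Subgroup.coe_mul, hx]
    rw [ng, inv_one]
    rfl
  · show (TypeD4.nj Z 1 : GL chevD4.Idx F) = _
    have e : TypeD4.nj Z 1 =
        (TypeD4.MT.rel K).x 12 1 * ((TypeD4.MT.rel K).x 13 1 * ((TypeD4.MT.rel K).x 18 1 * 1)) *
        ((TypeD4.MT.rel K).x ((TypeD4.MT.S).neg 12) (-1) * ((TypeD4.MT.rel K).x ((TypeD4.MT.S).neg 13) (-1) *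
          ((TypeD4.MT.rel K).x ((TypeD4.MT.S).neg 18) (-1) * 1))) *
        ((TypeD4.MT.rel K).x 12 1 * ((TypeD4.MT.rel K).x 13 1 * ((TypeD4.MT.rel K).x 18 1 * 1))) := rfl
    simp only [e, mul_one, Subgroup.coe_mul, hx]
    rfl
  · rintro _ ⟨h, hh, rfl⟩
    obtain ⟨c, hc, rfl⟩ : ∃ c, Z.sig TypeD4.pre c = c ∧ tor TypeD4.MT K c = h := by
      let f : ↥(Z.fixedPar TypeD4.pre) → ↥X.data.H1 := fun c =>
        ⟨tor TypeD4.MT K c.1, Subgroup.mem_inf.2
          ⟨TypeD4.torus_mem Z hq hK c.1 ((Z.mem_fixedPar).1 c.2), Z.tor_mem_H c.1⟩⟩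
      have hf : Function.Bijective f := by
        refine (Nat.bijective_iff_injective_and_card f).2 ⟨fun c c' e => Subtype.ext ?_,
          (TypeD4.card_fixedPar Z hq hK).trans (TypeD4.card_H1 Z hq hK).symm⟩
        have e' : tor TypeD4.MT K c.1 = tor TypeD4.MT K c'.1 := congrArg Subtype.val e
        refine mul_inv_eq_one.1 (TypeD4.ker_fixed Z hq hK (c := c.1 * c'.1⁻¹) ?_ ?_)
        · rw [map_mul, map_inv, (Z.mem_fixedPar).1 c.2, (Z.mem_fixedPar).1 c'.2]
        · rw [← Z.torHom_apply, map_mul, map_inv, Z.torHom_apply, Z.torHom_apply, e', mul_inv_cancel]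
      obtain ⟨c, hc⟩ := hf.2 ⟨h, hh⟩
      exact ⟨c.1, (Z.mem_fixedPar).1 c.2, congrArg Subtype.val hc⟩
    have hs : ∀ j, c (TypeD4.pre j) ^ q = c j := fun j => by rw [← TypeD4.sig_apply Z, hc]
    have h2 : (c 2 : F) = (c 0 : F) ^ q := by
      rw [← Units.val_pow_eq_pow_val]; exact (congrArg Units.val (hs 2)).symm
    have h3 : (c 3 : F) = (c 0 : F) ^ (q ^ 2) := by
      have : c 2 ^ q = c 3 := hs 3
      rw [pow_two, pow_mul, ← h2, ← Units.val_pow_eq_pow_val, this]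
    refine ⟨c 0, c 1, (c 0).ne_zero, (c 1).ne_zero,
      by rw [← Units.val_pow_eq_pow_val]; exact congrArg Units.val (hs 1), ?_⟩
    have hhr : ∀ (r : Fin TypeD4.MT.tab.n) (a : F),
        (((TypeD4.MT.rel K).hr r a : ↥(chevD4.group F)) : GL chevD4.Idx F) = hg chevD4 F r.val a := by
      intro r a
      have hneg : ∀ r : Fin TypeD4.MT.tab.n,
          ((TypeD4.MT.S).neg r).val = chevD4.neg r.val := by decide +kernel
      simp only [RootRel.hr, hOf, nOf, Subgroup.coe_mul, hx, hg, ng, hneg]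
    rw [Subgroup.subtype_apply, Z.tor_eq_prod (L := [1, 0, 2, 3]) (by decide)]
    simp only [List.map_cons, List.map_nil, List.prod_cons, List.prod_nil, mul_one, Subgroup.coe_mul,
      hhr, h2, h3]
    rfl

end Cfsg.Agent.Cover3D4
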