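/-
Two by two matrices over a finite field: products of two members of an elliptic class (helper97).
-/
import Mathlib.LinearAlgebra.Matrix.SpecialLinearGroup
import Mathlib.LinearAlgebra.Matrix.GeneralLinearGroup.Defs
import Mathlib.FieldTheory.Finite.Basic

set_option autoImplicit false

namespace Cfsg.Agent.Cover3D4

open Matrix

variable {F : Type*} [Field F]

/-- the matrices with trace `t` and determinant `d` -/
def InCls (t d : F) (A : Matrix (Fin 2) (Fin 2) F) : Prop := A.trace = t ∧ A.det = d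

/-- the companion matrix -/
def compM (t d : F) : Matrix (Fin 2) (Fin 2) F := !![0, -d; 1, t]

theorem inCls_compM (t d : F) : InCls t d (compM t d) := by
  constructor <;> simp [compM, Matrix.trace_fin_two, Matrix.det_fin_two]

/-- the square identity of a two by two matrix -/
theorem sq_eq {A : Matrix (Fin 2) (Fin 2) F} {t d : F} (h : InCls t d A) :
    A * A = t • A - d • (1 : Matrix (Fin 2) (Fin 2) F) := by
  obtain ⟨h1, h2⟩ := h
  rw [Matrix.trace_fin_two] at h1
  rw [Matrix.det_fin_two] at h2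
  subst h1 h2
  ext i j
  fin_cases i <;> fin_cases j <;>
    simp [Matrix.mul_apply, Fin.sum_univ_two] <;> ring

theorem exists_quad_root [Finite F] (h2 : (2 : F) ≠ 0) (A B C : F) (hA : A ≠ 0) :
    ∃ a c : F, a ^ 2 = A * c ^ 2 + B * c + C := by
  classical
  haveI : Fintype F := Fintype.ofFinite F
  have hodd : Fintype.card F % 2 = 1 := by
    refine FiniteField.odd_card_of_char_ne_two ?_
    intro h
    haveI : CharP F 2 := by rw [← h]; exact ringChar.charP F
    exact h2 (CharP.cast_eq_zero F 2)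
  obtain ⟨a, c, hac⟩ := FiniteField.exists_root_sum_quadratic
    (f := (Polynomial.X ^ 2 : Polynomial F))
    (g := Polynomial.C (-A) * Polynomial.X ^ 2 + Polynomial.C (-B) * Polynomial.X + Polynomial.C (-C))
    (by simp) (Polynomial.degree_quadratic (neg_ne_zero.2 hA)) hodd
  refine ⟨a, c, ?_⟩
  simp at hac
  linear_combination hac

theorem sqrt_exists [Finite F] (h2 : (2 : F) = 0) (e : F) : ∃ a : F, a ^ 2 = e := by
  haveI : Fintype F := Fintype.ofFinite F
  have hc : ringChar F = 2 := by
    by_contra hne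
    exact (Ring.two_ne_zero hne) h2
  obtain ⟨r, hr⟩ := FiniteField.isSquare_of_char_two hc e
  exact ⟨r, by rw [hr, pow_two]⟩

/-- every value is represented by the norm form of an irreducible quadratic -/
theorem exists_norm [Finite F] {t d : F} (hirr : ∀ r : F, r ^ 2 - t * r + d ≠ 0) (e : F) :
    ∃ u v : F, u ^ 2 + t * u * v + d * v ^ 2 = e := by
  by_cases h2 : (2 : F) = 0
  · obtain ⟨a, ha⟩ := sqrt_exists h2 e
    exact ⟨a, 0, by rw [← ha]; ring⟩
  · have hΔ : t ^ 2 / 4 - d ≠ 0 := by
      intro h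
      refine hirr (t / 2) ?_
      have h4 : (4 : F) ≠ 0 := by
        have : (4 : F) = 2 * 2 := by norm_num
        rw [this]; exact mul_ne_zero h2 h2
      field_simp at h ⊢
      linear_combination (-1 : F) * h
    obtain ⟨a, c, h⟩ := exists_quad_root h2 (t ^ 2 / 4 - d) 0 e hΔ
    refine ⟨a - t / 2 * c, c, ?_⟩
    have h4 : (4 : F) ≠ 0 := by
      have : (4 : F) = 2 * 2 := by norm_num
      rw [this]; exact mul_ne_zero h2 h2
    field_simp at h ⊢
    linear_combination h

/-- the class is one class under determinant one matrices -/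
theorem exists_sl_conj [Finite F] {t d : F} (hirr : ∀ r : F, r ^ 2 - t * r + d ≠ 0)
    {A : Matrix (Fin 2) (Fin 2) F} (hA : InCls t d A) :
    ∃ P : Matrix.SpecialLinearGroup (Fin 2) F,
      (P : Matrix (Fin 2) (Fin 2) F) * compM t d = A * (P : Matrix (Fin 2) (Fin 2) F) := by
  have hsq := sq_eq hA
  obtain ⟨h1, h2⟩ := hA
  rw [Matrix.trace_fin_two] at h1
  rw [Matrix.det_fin_two] at h2
  have hc : A 1 0 ≠ 0 := by
    intro hc
    rw [hc, mul_zero, sub_zero] at h2
    exact hirr (A 0 0) (by rw [← h1, ← h2]; ring)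
  obtain ⟨u, v, huv⟩ := exists_norm hirr (A 1 0)⁻¹
  set P : Matrix (Fin 2) (Fin 2) F :=
    !![u + A 0 0 * v, u * A 0 0 + v * (t * A 0 0 - d); v * A 1 0, u * A 1 0 + v * t * A 1 0]
  have hdet : P.det = 1 := by
    have : P.det = A 1 0 * (u ^ 2 + t * u * v + d * v ^ 2) := by
      simp only [P, Matrix.det_fin_two, Matrix.cons_val', Matrix.cons_val_zero, Matrix.cons_val_one,
        Matrix.of_apply, Matrix.empty_val', Matrix.cons_val_fin_one]
      ring
    rw [this, huv, mul_inv_cancel₀ hc]
  refine ⟨⟨P, hdet⟩, ?_⟩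
  ext i j
  fin_cases i <;> fin_cases j <;>
    simp [P, compM, Matrix.mul_apply, Fin.sum_univ_two] <;> subst h1 h2 <;> ring

/-- the good matrices of determinant `d ^ 2` -/
def Good2 (d : F) (M : Matrix (Fin 2) (Fin 2) F) : Prop :=
  M.det = d ^ 2 ∧ (M = d • (1 : Matrix (Fin 2) (Fin 2) F) ∨
    (M.trace ≠ 2 * d ∧ ¬ (M 0 1 = 0 ∧ M 1 0 = 0 ∧ M 0 0 = M 1 1)))

/-- a matrix which is not scalar is similar to a companion matrix -/
theorem exists_similar {M : Matrix (Fin 2) (Fin 2) F}
    (hM : ¬ (M 0 1 = 0 ∧ M 1 0 = 0 ∧ M 0 0 = M 1 1)) :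
    ∃ P : GL (Fin 2) F, M * (P : Matrix (Fin 2) (Fin 2) F) = (P : Matrix (Fin 2) (Fin 2) F) * compM M.trace M.det := by
  obtain ⟨x, y, hxy⟩ : ∃ x y : F, x * (M 1 0 * x + M 1 1 * y) - y * (M 0 0 * x + M 0 1 * y) ≠ 0 := by
    by_cases hc : M 1 0 = 0
    · by_cases hb : M 0 1 = 0
      · refine ⟨1, 1, ?_⟩
        intro h
        refine hM ⟨hb, hc, ?_⟩
        rw [hb, hc] at h
        linear_combination (-1 : F) * h
      · exact ⟨0, 1, by simpa using hb⟩
    · exact ⟨1, 0, by simpa using hc⟩
  set P : Matrix (Fin 2) (Fin 2) F := !![x, M 0 0 * x + M 0 1 * y; y, M 1 0 * x + M 1 1 * y]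
  have hdet : P.det ≠ 0 := by
    simp only [P, Matrix.det_fin_two, Matrix.cons_val', Matrix.cons_val_zero, Matrix.cons_val_one,
      Matrix.of_apply, Matrix.empty_val', Matrix.cons_val_fin_one]
    intro h
    exact hxy (by linear_combination h)
  refine ⟨Matrix.GeneralLinearGroup.mkOfDetNeZero P hdet, ?_⟩
  show M * P = P * compM M.trace M.det
  ext i j
  fin_cases i <;> fin_cases j <;>
    simp [P, compM, Matrix.trace_fin_two, Matrix.det_fin_two, Matrix.mul_apply, Fin.sum_univ_two] <;> ring

/-- an entry solution of the two trace equations -/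
theorem exists_entries [Finite F] {t d T : F} (ht : t ≠ 0) (hd : d ≠ 0) (hT : T ≠ 2 * d) :
    ∃ a c : F, a * (t - a) - c * (c * d ^ 2 + a * T - t * d) = d := by
  by_cases h2 : (2 : F) = 0
  · have hT0 : T ≠ 0 := by rwa [h2, zero_mul] at hT
    set c := t / T
    obtain ⟨a, ha⟩ := sqrt_exists h2 (-(c ^ 2 * d ^ 2) + c * t * d - d)
    refine ⟨a, c, ?_⟩
    have hc : c * T = t := div_mul_cancel₀ t hT0
    linear_combination (-1 : F) * ha - a * hc
  · have h4 : (4 : F) ≠ 0 := by
      have : (4 : F) = 2 * 2 := by norm_num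
      rw [this]; exact mul_ne_zero h2 h2
    by_cases hz : T ^ 2 / 4 - d ^ 2 = 0
    · have hTm : T = -(2 * d) := by
        have : (T - 2 * d) * (T + 2 * d) = 0 := by
          field_simp at hz
          linear_combination hz
        rcases mul_eq_zero.1 this with h | h
        · exact absurd (sub_eq_zero.1 h) hT
        · exact eq_neg_of_add_eq_zero_left h
      subst hTm
      have hne : 2 * t * d ≠ 0 := mul_ne_zero (mul_ne_zero h2 ht) hd
      set c := (d - t ^ 2 / 4) / (2 * t * d)
      have hc : c * (2 * t * d) = d - t ^ 2 / 4 := div_mul_cancel₀ _ hne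
      refine ⟨t / 2 + c * d, c, ?_⟩
      field_simp at hc ⊢
      linear_combination hc
    · obtain ⟨a, c, h⟩ := exists_quad_root h2 (T ^ 2 / 4 - d ^ 2) (t * d - T * t / 2) (t ^ 2 / 4 - d) hz
      refine ⟨a - T * c / 2 + t / 2, c, ?_⟩
      field_simp at h ⊢
      apply mul_left_cancel₀ h2
      linear_combination (-1 : F) * h

/-- a good matrix is a product of two members of the class -/
theorem exists_product [Finite F] {t d : F} (ht : t ≠ 0) (hd : d ≠ 0) {M : Matrix (Fin 2) (Fin 2) F}
    (hM : Good2 d M) : ∃ A B, InCls t d A ∧ InCls t d B ∧ A * B = M := by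
  obtain ⟨hdet, h⟩ := hM
  rcases h with rfl | ⟨htr, hns⟩
  · refine ⟨compM t d, !![t, d; -1, 0], inCls_compM t d, ?_, ?_⟩
    · constructor <;> simp [Matrix.trace_fin_two, Matrix.det_fin_two]
    · ext i j
      fin_cases i <;> fin_cases j <;> simp [compM, Matrix.mul_apply, Fin.sum_univ_two] <;> ring
  · obtain ⟨P, hP⟩ := exists_similar hns
    set T := M.trace
    obtain ⟨a, c, hac⟩ := exists_entries (T := T) ht hd htr
    set b := c * d ^ 2 + a * T - t * d with hb
    let A : Matrix (Fin 2) (Fin 2) F := !![a, b; c, t - a]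
    let B : Matrix (Fin 2) (Fin 2) F :=
      d⁻¹ • (!![t - a, -b; -c, a] * compM T (d ^ 2))
    have hA : InCls t d A := by
      refine ⟨by simp [A, Matrix.trace_fin_two], ?_⟩
      simp [A, Matrix.det_fin_two]
      linear_combination hac
    have hB : InCls t d B := by
      constructor
      · simp [B, compM, Matrix.trace_fin_two, Matrix.mul_apply, Fin.sum_univ_two]
        field_simp
        rw [hb]; ring
      · simp only [B, Matrix.det_smul, Fintype.card_fin, Matrix.det_mul, (inCls_compM T (d ^ 2)).2]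
        simp [Matrix.det_fin_two]
        field_simp
        linear_combination hac
    have hAB : A * B = compM T (d ^ 2) := by
      rw [Matrix.mul_smul, ← Matrix.mul_assoc]
      have e : A * !![t - a, -b; -c, a] = d • (1 : Matrix (Fin 2) (Fin 2) F) := by
        ext i j
        fin_cases i <;> fin_cases j <;> simp [A, Matrix.mul_apply, Fin.sum_univ_two] <;>
          first | linear_combination hac | ring
      rw [e, smul_mul_assoc, Matrix.one_mul, smul_smul, inv_mul_cancel₀ hd, one_smul]
    rw [hdet] at hP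
    have hinv : ∀ X : Matrix (Fin 2) (Fin 2) F, InCls t d X →
        InCls t d ((P : Matrix (Fin 2) (Fin 2) F) * X * ((P⁻¹ : GL (Fin 2) F) : Matrix (Fin 2) (Fin 2) F)) := by
      intro X hX
      exact ⟨by rw [Matrix.trace_units_conj]; exact hX.1, by rw [Matrix.det_units_conj]; exact hX.2⟩
    refine ⟨_, _, hinv A hA, hinv B hB, ?_⟩
    calc _ = (P : Matrix (Fin 2) (Fin 2) F) * (A * B) *
        ((P⁻¹ : GL (Fin 2) F) : Matrix (Fin 2) (Fin 2) F) := by
          simp only [Matrix.mul_assoc, Units.inv_mul_cancel_left]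
      _ = M := by rw [hAB, ← hP, Units.mul_inv_cancel_right]

end Cfsg.Agent.Cover3D4
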