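/-
The Levi subgroup `GL₂` of the maximal parabolic of `³D₄(q)` fixing the highest root group (helper97).
-/
import Cfsg.Agent.Cover3D4.Ctx
import Cfsg.Agent.Cover3D4.GL2
import Mathlib.LinearAlgebra.Matrix.GeneralLinearGroup.Basic

set_option autoImplicit false

namespace Cfsg.Agent.Cover3D4

open Cfsg.Lie Cfsg.Agent.ChevCore Cfsg.Agent.D4SubMax Matrix

variable {F : Type*} [Field F] {q : ℕ}

local notation "x" => xg chevD4 F

/-- the roots of the unipotent radical -/
def radL : List ℕ := [14, 15, 16, 17, 19, 20, 21, 22, 23]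

/-- the roots of the opposite radical -/
def negL : List ℕ := [0, 1, 2, 3, 4, 6, 7, 8, 9]

/-- the set of radical roots -/
def Tp : Set ℕ := {r | r ∈ radL}

/-- the set of opposite radical roots -/
def Tn : Set ℕ := {r | r ∈ negL}

theorem lt_of_Tp {r : ℕ} (h : r ∈ Tp) : r < 24 := by
  have : ∀ r ∈ radL, r < 24 := by decide
  exact this r h

theorem lt_of_Tn {r : ℕ} (h : r ∈ Tn) : r < 24 := by
  have : ∀ r ∈ negL, r < 24 := by decide
  exact this r h

theorem conj_XS {T T' : Set ℕ} {g : GL chevD4.Idx F}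
    (h : ∀ r < 24, r ∈ T → ∀ t, g * x r t * g⁻¹ ∈ XS chevD4 F T')
    {y : GL chevD4.Idx F} (hy : y ∈ XS chevD4 F T) : g * y * g⁻¹ ∈ XS chevD4 F T' := by
  have : XS chevD4 F T ≤ (XS chevD4 F T').comap (MulAut.conj g).toMonoidHom := by
    refine (Subgroup.closure_le _).2 ?_
    rintro _ ⟨r, t, hr, hT, rfl⟩
    exact h r hr hT t
  exact this hy

/-- a root group outside the radical normalises it -/
theorem conj_root {T : Set ℕ} {s r : ℕ} (hs : s < 24) (hr : r < 24) (hne : r ≠ s) (hneg : r ≠ chevD4.neg s)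
    (hT : s ∈ T) (hterms : ∀ p ∈ chevD4.commTerms s r, p.1 < 24 ∧ p.1 ∈ T) (t u : F) :
    x r t * x s u * (x r t)⁻¹ ∈ XS chevD4 F T := by
  have h := good.toCommGood.xg_comm (F := F) hs hr hne hneg u (-t)
  have e : x r t * x s u * (x r t)⁻¹ = x s u * (wordG chevD4 F (chevD4.commWord F s r u (-t)))⁻¹ := by
    rw [goodG.xg_inv, eq_mul_inv_iff_mul_eq]
    calc x r t * x s u * x r (-t) * _ = x r t * (x s u * x r (-t) *
          wordG chevD4 F (chevD4.commWord F s r u (-t))) := by group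
      _ = x r t * (x r (-t) * x s u) := by rw [← h]
      _ = _ := by rw [← mul_assoc, ← goodG.xg_add, add_neg_cancel, goodG.xg_zero, one_mul]
  rw [e]
  refine mul_mem (xg_mem_XS hs hT u) (inv_mem ?_)
  simp only [ChevalleyDatum.commWord, wordG, List.map_map]
  refine list_prod_mem fun y hy => ?_
  obtain ⟨p, hp, rfl⟩ := List.mem_map.1 hy
  exact xg_mem_XS (hterms p hp).1 (hterms p hp).2 _

/-! ### the three rank one homomorphisms -/

/-- the rank one homomorphism of a root -/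
noncomputable def sl2 (r : Fin 24) : Matrix.SpecialLinearGroup (Fin 2) F →* GL chevD4.Idx F :=
  (exists_sl_hom (goodG.pairRel_root (F := F) (r := r.val) r.isLt)).choose

theorem sl2_U (r : Fin 24) (t : F) : sl2 r (slU t) = x r.val t :=
  (exists_sl_hom (goodG.pairRel_root (F := F) (r := r.val) r.isLt)).choose_spec.1 t

theorem sl2_L (r : Fin 24) (t : F) : sl2 r (slL t) = x (chevD4.neg r.val) t :=
  (exists_sl_hom (goodG.pairRel_root (F := F) (r := r.val) r.isLt)).choose_spec.2.1 t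

theorem sl_induction {P : Matrix.SpecialLinearGroup (Fin 2) F → Prop}
    (hU : ∀ t, P (slU t)) (hL : ∀ t, P (slL t)) (h1 : P 1) (hm : ∀ a b, P a → P b → P (a * b))
    (hi : ∀ a, P a → P a⁻¹) (g : Matrix.SpecialLinearGroup (Fin 2) F) : P g := by
  refine Subgroup.closure_induction (p := fun g _ => P g) ?_ h1 (fun a b _ _ => hm a b)
    (fun a _ => hi a) (sl_generated g)
  rintro _ (⟨t, rfl⟩ | ⟨t, rfl⟩)
  · exact hU t
  · exact hL t

theorem sl2_commute {r s : Fin 24} (hr : r.val = 18 ∨ r.val = 13 ∨ r.val = 12)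
    (hs : s.val = 18 ∨ s.val = 13 ∨ s.val = 12) (hrs : r ≠ s)
    (A B : Matrix.SpecialLinearGroup (Fin 2) F) : Commute (sl2 r A) (sl2 s B) := by
  have key : ∀ r s : Fin 24, (r.val = 18 ∨ r.val = 13 ∨ r.val = 12) → (s.val = 18 ∨ s.val = 13 ∨ s.val = 12) →
      r ≠ s → ∀ a ∈ [r.val, chevD4.neg r.val], ∀ b ∈ [s.val, chevD4.neg s.val],
        a < 24 ∧ b < 24 ∧ b ≠ a ∧ b ≠ chevD4.neg a ∧ chevD4.commTerms a b = [] := by decide +kernel
  have h := key r s hr hs hrs
  have h2 : ∀ a ∈ [r.val, chevD4.neg r.val], ∀ t, Commute (x a t) (sl2 s B) := by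
    intro a ha t
    refine sl_induction (P := fun B => Commute (x a t) (sl2 s B)) ?_ ?_ ?_ ?_ ?_ B
    · intro u; rw [sl2_U]; exact comm0 (h a ha _ (by simp)) t u
    · intro u; rw [sl2_L]; exact comm0 (h a ha _ (by simp)) t u
    · rw [map_one]; exact Commute.one_right _
    · intro u v hu hv; rw [map_mul]; exact hu.mul_right hv
    · intro u hu; rw [map_inv]; exact hu.inv_right
  refine sl_induction (P := fun A => Commute (sl2 r A) (sl2 s B)) ?_ ?_ ?_ ?_ ?_ A
  · intro t; rw [sl2_U]; exact h2 _ (by simp) t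
  · intro t; rw [sl2_L]; exact h2 _ (by simp) t
  · rw [map_one]; exact Commute.one_left _
  · intro u v hu hv; rw [map_mul]; exact hu.mul_left hv
  · intro u hu; rw [map_inv]; exact hu.inv_left

theorem slmap_U (φ : F →+* F) (t : F) : Matrix.SpecialLinearGroup.map φ (slU t) = slU (φ t) := by
  refine Subtype.ext ?_
  ext i j
  rw [Matrix.SpecialLinearGroup.map_apply_coe, coe_slU, coe_slU]
  fin_cases i <;> fin_cases j <;> simp

theorem slmap_L (φ : F →+* F) (t : F) : Matrix.SpecialLinearGroup.map φ (slL t) = slL (φ t) := by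
  refine Subtype.ext ?_
  ext i j
  rw [Matrix.SpecialLinearGroup.map_apply_coe, coe_slL, coe_slL]
  fin_cases i <;> fin_cases j <;> simp

/-- `Y_A(t)` -/
noncomputable def YA (q : ℕ) (t : F) : GL chevD4.Idx F := x 5 t * x 10 (t ^ q) * x 11 (t ^ (q ^ 2))

/-- determinant in the fixed field -/
def GA (F : Type*) [Field F] (q : ℕ) : Subgroup (GL (Fin 2) F) :=
  ((powMonoidHom q : Fˣ →* Fˣ).eqLocus (MonoidHom.id _)).comap Matrix.GeneralLinearGroup.det

theorem mem_GA {A : GL (Fin 2) F} : A ∈ GA F q ↔ ((A : Matrix (Fin 2) (Fin 2) F).det) ^ q =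
    (A : Matrix (Fin 2) (Fin 2) F).det := by
  show powMonoidHom q (Matrix.GeneralLinearGroup.det A) = Matrix.GeneralLinearGroup.det A ↔ _
  rw [Units.ext_iff]
  simp

/-- the diagonal normalisation of a matrix -/
noncomputable def slPart (A : GL (Fin 2) F) : Matrix.SpecialLinearGroup (Fin 2) F :=
  ⟨(A : Matrix (Fin 2) (Fin 2) F) * !![1, 0; 0, ((A : Matrix (Fin 2) (Fin 2) F).det)⁻¹], by
    rw [Matrix.det_mul]
    simp [Matrix.det_fin_two]
    exact mul_inv_cancel₀ (by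
      have := (Matrix.isUnit_iff_isUnit_det _).1 A.isUnit
      rw [Matrix.det_fin_two] at this
      exact this.ne_zero)⟩

namespace Ctx

variable (C : D4SubMax.Ctx F q)

/-- the `q`-power map -/
def frob : F →+* F := qHom F (by have := C.q_two; omega) C.add

theorem frob_apply (t : F) : frob C t = t ^ q := rfl

/-- `SL₂(q³)` inside the twisted group -/
noncomputable def phiA : Matrix.SpecialLinearGroup (Fin 2) F →* GL chevD4.Idx F :=
  MonoidHom.mk' (fun A => sl2 18 A * sl2 13 (Matrix.SpecialLinearGroup.map (frob C) A) *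
      sl2 12 (Matrix.SpecialLinearGroup.map ((frob C).comp (frob C)) A)) (by
    intro A B
    have c1 := sl2_commute (r := (18 : Fin 24)) (s := (13 : Fin 24)) (by decide) (by decide) (by decide)
      B (Matrix.SpecialLinearGroup.map (frob C) A)
    have c2 := sl2_commute (r := (18 : Fin 24)) (s := (12 : Fin 24)) (by decide) (by decide) (by decide)
      B (Matrix.SpecialLinearGroup.map ((frob C).comp (frob C)) A)
    have c3 := sl2_commute (r := (13 : Fin 24)) (s := (12 : Fin 24)) (by decide) (by decide) (by decide)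
      (Matrix.SpecialLinearGroup.map (frob C) B) (Matrix.SpecialLinearGroup.map ((frob C).comp (frob C)) A)
    simp only [map_mul]
    set a := sl2 18 A
    set b := sl2 13 (Matrix.SpecialLinearGroup.map (frob C) A)
    set c := sl2 12 (Matrix.SpecialLinearGroup.map ((frob C).comp (frob C)) A)
    set a' := sl2 18 B
    set b' := sl2 13 (Matrix.SpecialLinearGroup.map (frob C) B)
    set c' := sl2 12 (Matrix.SpecialLinearGroup.map ((frob C).comp (frob C)) B)
    calc a * a' * (b * b') * (c * c') = a * (a' * b) * b' * c * c' := by group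
      _ = a * b * a' * (b' * c) * c' := by rw [c1.eq]; group
      _ = a * b * (a' * c) * b' * c' := by rw [c3.eq]; group
      _ = a * b * c * (a' * b' * c') := by rw [c2.eq]; group)

theorem phiA_U (t : F) : phiA C (slU t) = XA q t := by
  show sl2 18 (slU t) * sl2 13 _ * sl2 12 _ = _
  rw [slmap_U, slmap_U, sl2_U, sl2_U, sl2_U]
  simp only [RingHom.comp_apply, frob_apply, XA, ← pow_mul, pow_two]
  rfl

theorem phiA_L (t : F) : phiA C (slL t) = YA q t := by
  show sl2 18 (slL t) * sl2 13 _ * sl2 12 _ = _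
  rw [slmap_L, slmap_L, sl2_L, sl2_L, sl2_L]
  simp only [RingHom.comp_apply, frob_apply, YA, ← pow_mul, pow_two,
    show chevD4.neg (18 : Fin 24).val = 5 from rfl, show chevD4.neg (13 : Fin 24).val = 10 from rfl,
    show chevD4.neg (12 : Fin 24).val = 11 from rfl]

theorem phiA_h {a : F} : phiA C (ph slU slL a) =
    hg chevD4 F 18 a * hg chevD4 F 13 (a ^ q) * hg chevD4 F 12 (a ^ (q ^ 2)) := by
  show sl2 18 (ph slU slL a) * sl2 13 _ * sl2 12 _ = _
  simp only [ph, pn, map_mul, slmap_U, slmap_L, sl2_U, sl2_L, map_neg, map_inv₀, map_one]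
  simp only [RingHom.comp_apply, frob_apply, hg, ng, ← pow_mul, pow_two]
  rfl

theorem phiA_w : phiA C (pn slU slL 1) =
    x 12 1 * (x 13 1 * x 18 1) * (x 11 (-1) * (x 10 (-1) * x 5 (-1))) * (x 12 1 * (x 13 1 * x 18 1)) := by
  simp only [pn, map_mul, phiA_U, phiA_L, XA, YA, inv_one, one_pow]
  rw [show (-1 : F) ^ q = -1 by rw [C.neg_pow', one_pow],
    show (-1 : F) ^ (q ^ 2) = -1 by rw [pow_two, pow_mul, C.neg_pow', one_pow, C.neg_pow', one_pow]]
  have e : ∀ (a b c : ℕ), (a < 24 ∧ b < 24 ∧ b ≠ a ∧ b ≠ chevD4.neg a ∧ chevD4.commTerms a b = []) →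
      (a < 24 ∧ c < 24 ∧ c ≠ a ∧ c ≠ chevD4.neg a ∧ chevD4.commTerms a c = []) →
      (b < 24 ∧ c < 24 ∧ c ≠ b ∧ c ≠ chevD4.neg b ∧ chevD4.commTerms b c = []) →
      ∀ t : F, x a t * x b t * x c t = x c t * (x b t * x a t) := by
    intro a b c h1 h2 h3 t
    rw [comm0 h1, mul_assoc, comm0 h2, ← mul_assoc, comm0 h3, mul_assoc]
  rw [e 18 13 12 (by decide +kernel) (by decide +kernel) (by decide +kernel),
    e 5 10 11 (by decide +kernel) (by decide +kernel) (by decide +kernel)]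

theorem h14_mul {a b : F} (ha : a ≠ 0) (hb : b ≠ 0) :
    hg chevD4 F 14 a * hg chevD4 F 14 b = hg chevD4 F 14 (a * b) :=
  goodG.hg_mul (by norm_num [nroots_eq]) ha hb

theorem h14_conj {δ : F} (hδ : δ ≠ 0) (hδq : δ ^ q = δ) (A : Matrix.SpecialLinearGroup (Fin 2) F)
    (A' : Matrix.SpecialLinearGroup (Fin 2) F)
    (h : (A' : Matrix (Fin 2) (Fin 2) F) * !![1, 0; 0, δ] = !![1, 0; 0, δ] * (A : Matrix (Fin 2) (Fin 2) F)) :
    hg chevD4 F 14 δ * phiA C A = phiA C A' * hg chevD4 F 14 δ := by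
  revert A'
  have hp : ∀ a ∈ ([18, 13, 12] : List ℕ), chevD4.pairing 14 a = -1 ∧
      chevD4.pairing 14 (chevD4.neg a) = 1 ∧ chevD4.neg a < 24 := by decide +kernel
  have hq2 : δ ^ (q ^ 2) = δ := by rw [pow_two, pow_mul, hδq, hδq]
  have sc : ∀ (r : ℕ), r < 24 → ∀ u, hg chevD4 F 14 δ * x r u =
      x r (δ ^ chevD4.pairing 14 r * u) * hg chevD4 F 14 δ := by
    intro r hr u
    rw [← mul_inv_eq_iff_eq_mul]
    exact goodG.hg_conj_x (by norm_num [nroots_eq]) hr hδ u
  refine sl_induction (P := fun A => ∀ A' : Matrix.SpecialLinearGroup (Fin 2) F,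
    (A' : Matrix (Fin 2) (Fin 2) F) * !![1, 0; 0, δ] = !![1, 0; 0, δ] * (A : Matrix (Fin 2) (Fin 2) F) →
      hg chevD4 F 14 δ * phiA C A = phiA C A' * hg chevD4 F 14 δ) ?_ ?_ ?_ ?_ ?_ A
  · intro t A' hA'
    obtain rfl : A' = slU (δ⁻¹ * t) := by
      refine Subtype.ext ?_
      have h2 := congrArg (· * !![1, 0; 0, δ⁻¹]) hA'
      simp only [Matrix.mul_assoc] at h2
      rw [show (!![1, 0; 0, δ] : Matrix (Fin 2) (Fin 2) F) * !![1, 0; 0, δ⁻¹] = 1 by
        ext i j; fin_cases i <;> fin_cases j <;> simp [Matrix.mul_apply, Fin.sum_univ_two, hδ],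
        Matrix.mul_one] at h2
      rw [h2]
      ext i j
      fin_cases i <;> fin_cases j <;> simp [slU, Matrix.mul_apply, Fin.sum_univ_two, hδ, mul_comm]
    rw [phiA_U, phiA_U, XA, XA, ← mul_assoc, ← mul_assoc, sc 18 (by norm_num), mul_assoc _ _ (x 13 _),
      sc 13 (by norm_num), ← mul_assoc, mul_assoc _ _ (x 12 _), sc 12 (by norm_num), ← mul_assoc,
      (hp 18 (by simp)).1, (hp 13 (by simp)).1, (hp 12 (by simp)).1, _root_.zpow_neg_one, mul_pow, mul_pow,
      inv_pow, inv_pow, hδq, hq2]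
  · intro t A' hA'
    obtain rfl : A' = slL (δ * t) := by
      refine Subtype.ext ?_
      have h2 := congrArg (· * !![1, 0; 0, δ⁻¹]) hA'
      simp only [Matrix.mul_assoc] at h2
      rw [show (!![1, 0; 0, δ] : Matrix (Fin 2) (Fin 2) F) * !![1, 0; 0, δ⁻¹] = 1 by
        ext i j; fin_cases i <;> fin_cases j <;> simp [Matrix.mul_apply, Fin.sum_univ_two, hδ],
        Matrix.mul_one] at h2
      rw [h2]
      ext i j
      fin_cases i <;> fin_cases j <;> simp [slL, Matrix.mul_apply, Fin.sum_univ_two, hδ, mul_comm]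
    rw [phiA_L, phiA_L, YA, YA, ← mul_assoc, ← mul_assoc, sc 5 (by norm_num), mul_assoc _ _ (x 10 _),
      sc 10 (by norm_num), ← mul_assoc, mul_assoc _ _ (x 11 _), sc 11 (by norm_num), ← mul_assoc]
    rw [show chevD4.pairing 14 5 = 1 from (hp 18 (by simp)).2.1,
      show chevD4.pairing 14 10 = 1 from (hp 13 (by simp)).2.1,
      show chevD4.pairing 14 11 = 1 from (hp 12 (by simp)).2.1,
      zpow_one, mul_pow, mul_pow, hδq, hq2]
  · intro A' hA'
    obtain rfl : A' = 1 := by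
      refine Subtype.ext ?_
      rw [Matrix.SpecialLinearGroup.coe_one, Matrix.mul_one] at hA'
      have h2 := congrArg (· * !![1, 0; 0, δ⁻¹]) hA'
      simp only [Matrix.mul_assoc] at h2
      rw [show (!![1, 0; 0, δ] : Matrix (Fin 2) (Fin 2) F) * !![1, 0; 0, δ⁻¹] = 1 by
        ext i j; fin_cases i <;> fin_cases j <;> simp [Matrix.mul_apply, Fin.sum_univ_two, hδ],
        Matrix.mul_one] at h2
      rw [Matrix.SpecialLinearGroup.coe_one]
      exact h2
    rw [map_one, mul_one, one_mul]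
  · intro a b ha hb A' hA'
    let dl : GL (Fin 2) F := Matrix.GeneralLinearGroup.mkOfDetNeZero !![1, 0; 0, δ]
      (by simp [Matrix.det_fin_two, hδ])
    let b' : Matrix.SpecialLinearGroup (Fin 2) F :=
      ⟨(dl : Matrix (Fin 2) (Fin 2) F) * b * ((dl⁻¹ : GL (Fin 2) F) : Matrix (Fin 2) (Fin 2) F), by
        rw [Matrix.det_units_conj]; exact b.2⟩
    have hb' : (b' : Matrix (Fin 2) (Fin 2) F) * !![1, 0; 0, δ] = !![1, 0; 0, δ] * b := by
      show _ * _ * _ * (dl : Matrix (Fin 2) (Fin 2) F) = _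
      rw [Units.inv_mul_cancel_right]
      rfl
    have ha' : ((A' * b'⁻¹ : Matrix.SpecialLinearGroup (Fin 2) F) : Matrix (Fin 2) (Fin 2) F) * !![1, 0; 0, δ] =
        !![1, 0; 0, δ] * a := by
      have e : ((b'⁻¹ : Matrix.SpecialLinearGroup (Fin 2) F) : Matrix (Fin 2) (Fin 2) F) * !![1, 0; 0, δ] =
          !![1, 0; 0, δ] * ((b⁻¹ : Matrix.SpecialLinearGroup (Fin 2) F) : Matrix (Fin 2) (Fin 2) F) := by
        calc _ = ((b'⁻¹ : Matrix.SpecialLinearGroup (Fin 2) F) : Matrix (Fin 2) (Fin 2) F) *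
            ((b' : Matrix (Fin 2) (Fin 2) F) * !![1, 0; 0, δ]) *
            ((b⁻¹ : Matrix.SpecialLinearGroup (Fin 2) F) : Matrix (Fin 2) (Fin 2) F) := by
              rw [hb', Matrix.mul_assoc _ _ ((b⁻¹ : Matrix.SpecialLinearGroup (Fin 2) F) :
                Matrix (Fin 2) (Fin 2) F), Matrix.mul_assoc !![1, 0; 0, δ],
                ← Matrix.SpecialLinearGroup.coe_mul b, mul_inv_cancel, Matrix.SpecialLinearGroup.coe_one,
                Matrix.mul_one]
          _ = _ := by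
              rw [← Matrix.mul_assoc, ← Matrix.SpecialLinearGroup.coe_mul, inv_mul_cancel,
                Matrix.SpecialLinearGroup.coe_one, Matrix.one_mul]
      rw [Matrix.SpecialLinearGroup.coe_mul, Matrix.mul_assoc, e, ← Matrix.mul_assoc, hA',
        Matrix.mul_assoc, ← Matrix.SpecialLinearGroup.coe_mul, mul_inv_cancel_right]
    rw [map_mul, ← mul_assoc, ha _ ha', mul_assoc, hb _ hb', ← mul_assoc, ← map_mul, inv_mul_cancel_right]
  · intro a ha A' hA'
    have h2 : ((A'⁻¹ : Matrix.SpecialLinearGroup (Fin 2) F) : Matrix (Fin 2) (Fin 2) F) * !![1, 0; 0, δ] =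
        !![1, 0; 0, δ] * a := by
      calc _ = ((A'⁻¹ : Matrix.SpecialLinearGroup (Fin 2) F) : Matrix (Fin 2) (Fin 2) F) *
          (!![1, 0; 0, δ] * ((a⁻¹ : Matrix.SpecialLinearGroup (Fin 2) F) : Matrix (Fin 2) (Fin 2) F)) * a := by
            rw [Matrix.mul_assoc _ _ (a : Matrix (Fin 2) (Fin 2) F), Matrix.mul_assoc !![1, 0; 0, δ],
              ← Matrix.SpecialLinearGroup.coe_mul, inv_mul_cancel, Matrix.SpecialLinearGroup.coe_one,
              Matrix.mul_one]
        _ = _ := by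
            rw [← hA', ← Matrix.mul_assoc, ← Matrix.SpecialLinearGroup.coe_mul, inv_mul_cancel,
              Matrix.SpecialLinearGroup.coe_one, Matrix.one_mul]
    have e := ha _ h2
    rw [map_inv] at e ⊢
    rw [mul_inv_eq_iff_eq_mul, mul_assoc, e, mul_inv_cancel_left]

theorem det_ne (A : GL (Fin 2) F) : (A : Matrix (Fin 2) (Fin 2) F).det ≠ 0 :=
  ((Matrix.isUnit_iff_isUnit_det _).1 A.isUnit).ne_zero

/-- `GL₂` with determinant in the fixed field, inside the twisted group -/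
noncomputable def psi : ↥(GA F q) →* GL chevD4.Idx F :=
  MonoidHom.mk' (fun A => phiA C (slPart A.1) * hg chevD4 F 14 ((A.1 : Matrix (Fin 2) (Fin 2) F).det)) (by
    intro A B
    set δ := (A.1 : Matrix (Fin 2) (Fin 2) F).det with hδdef
    set ε := (B.1 : Matrix (Fin 2) (Fin 2) F).det with hεdef
    have hδ : δ ≠ 0 := det_ne A.1
    have hε : ε ≠ 0 := det_ne B.1
    let s : Matrix.SpecialLinearGroup (Fin 2) F :=
      ⟨!![1, 0; 0, δ] * (slPart B.1 : Matrix (Fin 2) (Fin 2) F) * !![1, 0; 0, δ⁻¹], by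
        rw [Matrix.det_mul, Matrix.det_mul, (slPart B.1).2]; simp [Matrix.det_fin_two, hδ]⟩
    have hs : (s : Matrix (Fin 2) (Fin 2) F) * !![1, 0; 0, δ] = !![1, 0; 0, δ] * (slPart B.1 : Matrix (Fin 2) (Fin 2) F) := by
      show _ * _ * _ * _ = _
      rw [Matrix.mul_assoc, show (!![1, 0; 0, δ⁻¹] : Matrix (Fin 2) (Fin 2) F) * !![1, 0; 0, δ] = 1 by
        ext i j; fin_cases i <;> fin_cases j <;> simp [Matrix.mul_apply, Fin.sum_univ_two, hδ],
        Matrix.mul_one]
    have hdet : ((A * B).1 : Matrix (Fin 2) (Fin 2) F).det = δ * ε := by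
      rw [Subgroup.coe_mul, Units.val_mul, Matrix.det_mul]
    have hsl : slPart (A * B).1 = slPart A.1 * s := by
      refine Subtype.ext ?_
      show ((A * B).1 : Matrix (Fin 2) (Fin 2) F) * !![1, 0; 0, _⁻¹] =
        (A.1 : Matrix (Fin 2) (Fin 2) F) * !![1, 0; 0, δ⁻¹] *
          (!![1, 0; 0, δ] * ((B.1 : Matrix (Fin 2) (Fin 2) F) * !![1, 0; 0, ε⁻¹]) * !![1, 0; 0, δ⁻¹])
      rw [hdet, Subgroup.coe_mul, Units.val_mul]
      have e1 : (!![1, 0; 0, δ⁻¹] : Matrix (Fin 2) (Fin 2) F) * !![1, 0; 0, δ] = 1 := by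
        ext i j; fin_cases i <;> fin_cases j <;> simp [Matrix.mul_apply, Fin.sum_univ_two, hδ]
      have e2 : (!![1, 0; 0, ε⁻¹] : Matrix (Fin 2) (Fin 2) F) * !![1, 0; 0, δ⁻¹] = !![1, 0; 0, (δ * ε)⁻¹] := by
        ext i j; fin_cases i <;> fin_cases j <;> simp [Matrix.mul_apply, Fin.sum_univ_two, mul_inv, mul_comm]
      simp only [Matrix.mul_assoc]
      rw [← Matrix.mul_assoc !![1, 0; 0, δ⁻¹] !![1, 0; 0, δ], e1, Matrix.one_mul, e2]
    rw [hsl, hdet, map_mul, ← h14_mul hδ hε, mul_assoc (phiA C (slPart A.1)) (hg chevD4 F 14 δ),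
      ← mul_assoc (hg chevD4 F 14 δ), h14_conj C hδ (mem_GA.1 A.2) _ s hs]
    simp only [mul_assoc])

theorem psi_apply (A : ↥(GA F q)) :
    psi C A = phiA C (slPart A.1) * hg chevD4 F 14 ((A.1 : Matrix (Fin 2) (Fin 2) F).det) := rfl

/-- the element of `GA` of a matrix -/
noncomputable def ga (M : Matrix (Fin 2) (Fin 2) F) (h : M.det ≠ 0) (hf : M.det ^ q = M.det) : ↥(GA F q) :=
  ⟨Matrix.GeneralLinearGroup.mkOfDetNeZero M h, mem_GA.2 hf⟩

theorem ga_val (M : Matrix (Fin 2) (Fin 2) F) (h : M.det ≠ 0) (hf : M.det ^ q = M.det) :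
    ((ga M h hf).1 : Matrix (Fin 2) (Fin 2) F) = M := rfl

theorem ga_ext {A B : ↥(GA F q)}
    (h : (A.1 : Matrix (Fin 2) (Fin 2) F) = (B.1 : Matrix (Fin 2) (Fin 2) F)) : A = B :=
  Subtype.ext (Units.ext h)

/-- the matrices of determinant one in `GA` -/
def ofSL : Matrix.SpecialLinearGroup (Fin 2) F →* ↥(GA F q) :=
  Matrix.SpecialLinearGroup.toGL.codRestrict (GA F q) fun s => mem_GA.2 (by
    show (s : Matrix (Fin 2) (Fin 2) F).det ^ q = (s : Matrix (Fin 2) (Fin 2) F).det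
    rw [s.2, one_pow])

theorem ofSL_val (s : Matrix.SpecialLinearGroup (Fin 2) F) :
    ((ofSL (q := q) s).1 : Matrix (Fin 2) (Fin 2) F) = s := rfl

theorem h14_one : hg chevD4 F 14 1 = 1 := by
  have := h14_mul (F := F) (one_ne_zero) (one_ne_zero)
  rwa [one_mul, mul_eq_left] at this

theorem psi_ofSL (s : Matrix.SpecialLinearGroup (Fin 2) F) : psi C (ofSL s) = phiA C s := by
  rw [psi_apply, ofSL_val, s.2, h14_one, mul_one]
  congr 1
  refine Subtype.ext ?_
  show (s : Matrix (Fin 2) (Fin 2) F) * !![1, 0; 0, ((s : Matrix (Fin 2) (Fin 2) F).det)⁻¹] = s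
  rw [s.2, inv_one, show (!![1, 0; 0, 1] : Matrix (Fin 2) (Fin 2) F) = 1 from (Matrix.one_fin_two).symm,
    Matrix.mul_one]

theorem psi_diag1 {δ : F} (h : (!![1, 0; 0, δ] : Matrix (Fin 2) (Fin 2) F).det ≠ 0)
    (hf : (!![1, 0; 0, δ] : Matrix (Fin 2) (Fin 2) F).det ^ q = (!![1, 0; 0, δ] : Matrix (Fin 2) (Fin 2) F).det) :
    psi C (ga !![1, 0; 0, δ] h hf) = hg chevD4 F 14 δ := by
  have hd : (!![1, 0; 0, δ] : Matrix (Fin 2) (Fin 2) F).det = δ := by simp [Matrix.det_fin_two]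
  rw [psi_apply, ga_val, hd]
  have : slPart (ga !![1, 0; 0, δ] h hf).1 = 1 := by
    refine Subtype.ext ?_
    show (!![1, 0; 0, δ] : Matrix (Fin 2) (Fin 2) F) * !![1, 0; 0, ((!![1, 0; 0, δ] : Matrix (Fin 2) (Fin 2) F).det)⁻¹] = 1
    rw [hd]
    rw [hd] at h
    ext i j; fin_cases i <;> fin_cases j <;> simp [Matrix.mul_apply, Fin.sum_univ_two, h]
  rw [this, map_one, one_mul]

end Ctx

/-- the context with explicit representatives and torus -/
structure Setup (F : Type*) [Field F] (q : ℕ) where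
  C : D4SubMax.Ctx F q
  n0_eq : C.n 0 = ng chevD4 F 14 1
  n1_eq : C.n 1 = xg chevD4 F 12 1 * (xg chevD4 F 13 1 * xg chevD4 F 18 1) *
    (xg chevD4 F 11 (-1) * (xg chevD4 F 10 (-1) * xg chevD4 F 5 (-1))) *
    (xg chevD4 F 12 1 * (xg chevD4 F 13 1 * xg chevD4 F 18 1))
  Hd_eq : ∀ h ∈ C.Hd, ∃ a b : F, a ≠ 0 ∧ b ≠ 0 ∧ b ^ q = b ∧ h = hg chevD4 F 14 b *
    (hg chevD4 F 18 a * (hg chevD4 F 13 (a ^ q) * hg chevD4 F 12 (a ^ (q ^ 2))))

theorem exists_setup [Fintype F] (hq : IsPrimePow q) (hK : Fintype.card F = q ^ 3) :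
    Nonempty (Setup F q) := by
  obtain ⟨C, h0, h1, h2⟩ := exists_ctx_explicit (F := F) hq hK
  exact ⟨⟨C, h0, h1, h2⟩⟩

namespace Setup

variable (E : Setup F q)

theorem phiA_w_eq : Ctx.phiA E.C (pn slU slL 1) = E.C.n 1 := by rw [Ctx.phiA_w, E.n1_eq]

theorem psi_mem (A : ↥(GA F q)) : Ctx.psi E.C A ∈ E.C.S := by
  obtain ⟨e, he, heq, hn⟩ := E.C.n_conj 0 14 (by norm_num)
  have h9 : ∀ t : F, t ^ q = t → x 9 t ∈ E.C.S := by
    intro t ht
    have h := mul_mem (mul_mem (E.C.n_mem 0) (E.C.xg_mem 14 (by simp) (t := e⁻¹ * t)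
      (by rw [mul_pow, inv_pow, heq, ht]))) (inv_mem (E.C.n_mem 0))
    rwa [hn, ← mul_assoc, mul_inv_cancel₀ he, one_mul, show wref 0 14 = 9 from rfl] at h
  rw [Ctx.psi_apply]
  refine mul_mem ?_ ?_
  · have hU : ∀ t, Ctx.phiA E.C (slU t) ∈ E.C.S := fun t => by rw [Ctx.phiA_U]; exact E.C.XA_mem t
    refine sl_induction (P := fun A => Ctx.phiA E.C A ∈ E.C.S) hU ?_ (by rw [map_one]; exact one_mem _) ?_ ?_ _
    · intro t
      have hw : pn slU slL (1 : F) * slU (-t) * (pn slU slL (1 : F))⁻¹ = slL t := by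
        have := (pairRel_sl (F := F)).n_x (-t)
        rwa [neg_neg] at this
      have hnS : Ctx.phiA E.C (pn slU slL 1) ∈ E.C.S := by rw [E.phiA_w_eq]; exact E.C.n_mem 1
      rw [← hw, map_mul, map_mul, map_inv]
      exact mul_mem (mul_mem hnS (hU _)) (inv_mem hnS)
    · intro a b ha hb; rw [map_mul]; exact mul_mem ha hb
    · intro a ha; rw [map_inv]; exact inv_mem ha
  · set δ := (A.1 : Matrix (Fin 2) (Fin 2) F).det
    have hδq : δ ^ q = δ := mem_GA.1 A.2
    have hm : (-1 : F) ^ q = -1 := by rw [E.C.neg_pow', one_pow]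
    have hng : ∀ t : F, t ^ q = t → ng chevD4 F 14 t ∈ E.C.S := fun t ht =>
      mul_mem (mul_mem (E.C.xg_mem 14 (by simp) ht) (h9 _ (by rw [E.C.neg_pow', inv_pow, ht])))
        (E.C.xg_mem 14 (by simp) ht)
    exact mul_mem (hng δ hδq) (hng _ hm)

end Setup

end Cfsg.Agent.Cover3D4
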