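/-
The radical of the parabolic, its opposite, and elements acting on them without fixed points (helper97).
-/
import Cfsg.Agent.Cover3D4.Levi

set_option autoImplicit false

namespace Cfsg.Agent.Cover3D4

open Cfsg.Lie Cfsg.Agent.ChevCore Cfsg.Agent.D4SubMax Cfsg.Agent.Chev54 Matrix

variable {F : Type*} [Field F] {q : ℕ}

local notation "x" => xg chevD4 F

/-- `g` normalises both radicals -/
def NormB (g : GL chevD4.Idx F) : Prop :=
  (∀ y ∈ XS chevD4 F Tp, g * y * g⁻¹ ∈ XS chevD4 F Tp) ∧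
    ∀ y ∈ XS chevD4 F Tn, g * y * g⁻¹ ∈ XS chevD4 F Tn

theorem NormB.mul {g h : GL chevD4.Idx F} (hg : NormB g) (hh : NormB h) : NormB (g * h) := by
  constructor
  · intro y hy
    rw [show g * h * y * (g * h)⁻¹ = g * (h * y * h⁻¹) * g⁻¹ by group]
    exact hg.1 _ (hh.1 y hy)
  · intro y hy
    rw [show g * h * y * (g * h)⁻¹ = g * (h * y * h⁻¹) * g⁻¹ by group]
    exact hg.2 _ (hh.2 y hy)

theorem normB_root {r : ℕ} (hr : r ∈ ([18, 13, 12, 5, 10, 11] : List ℕ)) (t : F) : NormB (x r t) := by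
  have key : ∀ r ∈ ([18, 13, 12, 5, 10, 11] : List ℕ), r < 24 ∧
      (∀ s ∈ radL, r ≠ s ∧ r ≠ chevD4.neg s ∧ ∀ p ∈ chevD4.commTerms s r, p.1 < 24 ∧ p.1 ∈ radL) ∧
      (∀ s ∈ negL, r ≠ s ∧ r ≠ chevD4.neg s ∧ ∀ p ∈ chevD4.commTerms s r, p.1 < 24 ∧ p.1 ∈ negL) := by
    decide +kernel
  obtain ⟨h24, hp, hn⟩ := key r hr
  exact ⟨fun y hy => conj_XS (fun s hs hT u => conj_root hs h24 (hp s hT).1 (hp s hT).2.1 hT (hp s hT).2.2 t u) hy,
    fun y hy => conj_XS (fun s hs hT u => conj_root hs h24 (hn s hT).1 (hn s hT).2.1 hT (hn s hT).2.2 t u) hy⟩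

theorem normB_h14 {δ : F} (hδ : δ ≠ 0) : NormB (hg chevD4 F 14 δ) := by
  have h : ∀ s < 24, ∀ u, hg chevD4 F 14 δ * x s u * (hg chevD4 F 14 δ)⁻¹ =
      x s (δ ^ chevD4.pairing 14 s * u) := fun s hs u =>
    goodG.hg_conj_x (by norm_num [nroots_eq]) hs hδ u
  exact ⟨fun y hy => conj_XS (fun s hs hT u => by rw [h s hs]; exact xg_mem_XS hs hT _) hy,
    fun y hy => conj_XS (fun s hs hT u => by rw [h s hs]; exact xg_mem_XS hs hT _) hy⟩

namespace Ctx

variable (C : D4SubMax.Ctx F q)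

theorem normB_phiA (A : Matrix.SpecialLinearGroup (Fin 2) F) : NormB (phiA C A) := by
  have h : ∀ A : Matrix.SpecialLinearGroup (Fin 2) F, NormB (phiA C A) ∧ NormB (phiA C A⁻¹) := by
    intro A
    refine sl_induction (P := fun A => NormB (phiA C A) ∧ NormB (phiA C A⁻¹)) ?_ ?_ ?_ ?_ ?_ A
    · intro t
      have hU : ∀ t, NormB (phiA C (slU t)) := fun t => by
        rw [phiA_U]
        exact ((normB_root (by simp) _).mul (normB_root (by simp) _)).mul (normB_root (by simp) _)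
      exact ⟨hU t, by rw [← (pairRel_sl (F := F)).x_neg]; exact hU _⟩
    · intro t
      have hL : ∀ t, NormB (phiA C (slL t)) := fun t => by
        rw [phiA_L]
        exact ((normB_root (by simp) _).mul (normB_root (by simp) _)).mul (normB_root (by simp) _)
      exact ⟨hL t, by rw [← (pairRel_sl (F := F)).y_neg]; exact hL _⟩
    · rw [inv_one, map_one]
      have h1 : NormB (1 : GL chevD4.Idx F) := ⟨fun y hy => by simpa using hy, fun y hy => by simpa using hy⟩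
      exact ⟨h1, h1⟩
    · intro a b ha hb
      exact ⟨by rw [map_mul]; exact ha.1.mul hb.1, by rw [_root_.mul_inv_rev, map_mul]; exact hb.2.mul ha.2⟩
    · intro a ha
      exact ⟨ha.2, by rw [inv_inv]; exact ha.1⟩
  exact (h A).1

theorem normB_psi (A : ↥(GA F q)) : NormB (psi C A) := by
  rw [psi_apply]
  exact (normB_phiA C _).mul (normB_h14 (det_ne A.1))

theorem commute_phiA {r : ℕ} (hr : r = 23 ∨ r = 0) (t : F) (A : Matrix.SpecialLinearGroup (Fin 2) F) :
    Commute (phiA C A) (x r t) := by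
  have key : ∀ a ∈ ([18, 13, 12, 5, 10, 11] : List ℕ), ∀ b ∈ ([23, 0] : List ℕ),
      a < 24 ∧ b < 24 ∧ b ≠ a ∧ b ≠ chevD4.neg a ∧ chevD4.commTerms a b = [] := by decide +kernel
  have hc : ∀ a ∈ ([18, 13, 12, 5, 10, 11] : List ℕ), ∀ u, Commute (x a u) (x r t) := fun a ha u =>
    comm0 (key a ha r (by rcases hr with rfl | rfl <;> simp)) u t
  refine sl_induction (P := fun A => Commute (phiA C A) (x r t)) ?_ ?_ ?_ ?_ ?_ A
  · intro u
    rw [phiA_U]
    exact ((hc 18 (by simp) _).mul_left (hc 13 (by simp) _)).mul_left (hc 12 (by simp) _)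
  · intro u
    rw [phiA_L]
    exact ((hc 5 (by simp) _).mul_left (hc 10 (by simp) _)).mul_left (hc 11 (by simp) _)
  · rw [map_one]; exact Commute.one_left _
  · intro a b ha hb; rw [map_mul]; exact ha.mul_left hb
  · intro a ha; rw [map_inv]; exact ha.inv_left

theorem psi_x23 (A : ↥(GA F q)) (t : F) :
    psi C A * x 23 t * (psi C A)⁻¹ = x 23 ((A.1 : Matrix (Fin 2) (Fin 2) F).det * t) := by
  have hp : chevD4.pairing 14 23 = 1 := by decide +kernel
  rw [psi_apply, _root_.mul_inv_rev]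
  have h := goodG.hg_conj_x (F := F) (r := 14) (s := 23) (by norm_num [nroots_eq]) (by norm_num [nroots_eq])
    (det_ne A.1) t
  rw [hp, zpow_one] at h
  calc _ = phiA C (slPart A.1) * (hg chevD4 F 14 (A.1 : Matrix (Fin 2) (Fin 2) F).det * x 23 t *
        (hg chevD4 F 14 (A.1 : Matrix (Fin 2) (Fin 2) F).det)⁻¹) * (phiA C (slPart A.1))⁻¹ := by group
    _ = _ := by rw [h, (commute_phiA C (Or.inl rfl) _ _).eq, mul_inv_cancel_right]

theorem psi_x0 (A : ↥(GA F q)) (t : F) :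
    psi C A * x 0 t * (psi C A)⁻¹ = x 0 (((A.1 : Matrix (Fin 2) (Fin 2) F).det)⁻¹ * t) := by
  have hp : chevD4.pairing 14 0 = -1 := by decide +kernel
  rw [psi_apply, _root_.mul_inv_rev]
  have h := goodG.hg_conj_x (F := F) (r := 14) (s := 0) (by norm_num [nroots_eq]) (by norm_num [nroots_eq])
    (det_ne A.1) t
  rw [hp, _root_.zpow_neg_one] at h
  calc _ = phiA C (slPart A.1) * (hg chevD4 F 14 (A.1 : Matrix (Fin 2) (Fin 2) F).det * x 0 t *
        (hg chevD4 F 14 (A.1 : Matrix (Fin 2) (Fin 2) F).det)⁻¹) * (phiA C (slPart A.1))⁻¹ := by group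
    _ = _ := by rw [h, (commute_phiA C (Or.inr rfl) _ _).eq, mul_inv_cancel_right]

/-- a scalar matrix scales every root group -/
theorem psi_scalar {e : F} (he : e ≠ 0) (heq : e ^ q = e) (A : ↥(GA F q))
    (hA : (A.1 : Matrix (Fin 2) (Fin 2) F) = e • 1) {r : ℕ} (hr : r < 24) (t : F) :
    psi C A * x r t * (psi C A)⁻¹ = x r (e ^ (chevD4.pairing 18 r + chevD4.pairing 13 r +
      chevD4.pairing 12 r + 2 * chevD4.pairing 14 r) * t) := by
  have hd : (A.1 : Matrix (Fin 2) (Fin 2) F).det = e * e := by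
    rw [hA]; simp [pow_two]
  have hs : slPart A.1 = ph slU slL e := by
    refine Subtype.ext ?_
    show (A.1 : Matrix (Fin 2) (Fin 2) F) * !![1, 0; 0, ((A.1 : Matrix (Fin 2) (Fin 2) F).det)⁻¹] = _
    rw [hd, hA, ph_sl he]
    ext i j
    fin_cases i <;> fin_cases j <;> simp [Matrix.mul_apply, Fin.sum_univ_two, he]
  have heq2 : e ^ (q ^ 2) = e := by rw [pow_two, pow_mul, heq, heq]
  rw [psi_apply, hs, hd, phiA_h, heq, heq2]
  have s := fun (k : ℕ) (hk : k < 24) (a : F) (ha : a ≠ 0) (u : F) =>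
    goodG.hg_conj_x (F := F) (r := k) (s := r) hk hr ha u
  calc _ = hg chevD4 F 18 e * (hg chevD4 F 13 e * (hg chevD4 F 12 e *
      (hg chevD4 F 14 (e * e) * x r t * (hg chevD4 F 14 (e * e))⁻¹) * (hg chevD4 F 12 e)⁻¹) *
        (hg chevD4 F 13 e)⁻¹) * (hg chevD4 F 18 e)⁻¹ := by group
    _ = _ := by
      rw [s 14 (by norm_num) _ (mul_ne_zero he he), s 12 (by norm_num) _ he, s 13 (by norm_num) _ he,
        s 18 (by norm_num) _ he]
      congr 1
      rw [zpow_add₀ he, zpow_add₀ he, zpow_add₀ he, mul_zpow, two_mul (chevD4.pairing 14 r), zpow_add₀ he]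
      ring

end Ctx

/-! ### layers -/

theorem vec_scale {m : ℤ} (hm : 1 ≤ m) {g : GL chevD4.Idx F} (e : ℕ → F)
    (hg : ∀ r < 24, ∀ t, g * x r t * g⁻¹ = x r (e r * t)) {y : GL chevD4.Idx F} (hy : y ∈ Um F m) :
    ∀ d, Vec m y d → Vec m (g * y * g⁻¹) (fun r => e r * d r) := by
  induction hy using Subgroup.closure_induction with
  | mem y hy =>
    obtain ⟨r, t, hr, hS, rfl⟩ := hy
    have hS' : m ≤ ht chevD4 r := hS
    have hr' : r < 24 := hr
    intro d hd
    rw [hg r hr']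
    rcases hS'.lt_or_eq with hlt | heq
    · have hd0 : d = fun _ => 0 :=
        hd.unique good hm (vec_of_next good (xg_mem_XS hr (show m + 1 ≤ ht chevD4 r by omega) t))
      rw [hd0]
      simp only [mul_zero]
      exact vec_of_next good (xg_mem_XS hr' (show m + 1 ≤ ht chevD4 r by omega) _)
    · have hd0 : d = Pi.single r t := by
        refine hd.unique good hm ?_
        rw [heq]; exact vec_xg good hr (by omega) t
      rw [hd0]
      have e1 : (fun s => e s * (Pi.single r t : ℕ → F) s) = Pi.single r (e r * t) := by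
        funext s
        by_cases hs : s = r
        · subst hs; simp
        · simp [Pi.single_eq_of_ne hs]
      rw [e1, heq]
      exact vec_xg good hr' (by omega) _
  | one =>
    intro d hd
    rw [hd.unique good hm (vec_of_next good (one_mem _)), mul_one, mul_inv_cancel]
    simp only [mul_zero]
    exact vec_of_next good (one_mem _)
  | mul a b ha hb iha ihb =>
    intro d hd
    obtain ⟨da, hda⟩ := exists_vec good hm ha
    obtain ⟨db, hdb⟩ := exists_vec good hm hb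
    rw [hd.unique good hm (hda.mul good hm hdb), show g * (a * b) * g⁻¹ = g * a * g⁻¹ * (g * b * g⁻¹) by group]
    have : (fun r => e r * (da + db) r) = (fun r => e r * da r) + fun r => e r * db r := by
      funext r; simp [mul_add]
    rw [this]
    exact (iha da hda).mul good hm (ihb db hdb)
  | inv a ha iha =>
    intro d hd
    obtain ⟨da, hda⟩ := exists_vec good hm ha
    rw [hd.unique good hm (hda.inv good hm), show g * a⁻¹ * g⁻¹ = (g * a * g⁻¹)⁻¹ by group]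
    have : (fun r => e r * (-da) r) = -(fun r => e r * da r) := by
      funext r; simp
    rw [this]
    exact (iha da hda).inv good hm

/-- a fixed element of a layer lies in the next -/
theorem fixed_next {m n : ℤ} (hm : 1 ≤ m) (hn : m + 1 = n) {g : GL chevD4.Idx F} (e : ℕ → F)
    (hg : ∀ r < 24, ∀ t, g * x r t * g⁻¹ = x r (e r * t)) {y : GL chevD4.Idx F} (hy : y ∈ Um F m)
    (hfix : g * y * g⁻¹ = y) (h0 : ∀ d, Vec m y d → ∀ r, r < 24 → ht chevD4 r = m → e r = 1 → d r = 0) :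
    y ∈ Um F n := by
  obtain ⟨d, hd⟩ := exists_vec good hm hy
  have h := vec_scale hm e hg hy d hd
  rw [hfix] at h
  have hd' := h.unique good hm hd
  have hz : d = fun _ => (0 : F) := by
    funext r
    by_cases hr : r < 24 ∧ ht chevD4 r = m
    · by_cases he : e r = 1
      · exact h0 d hd r hr.1 hr.2 he
      · have h1 : e r * d r = d r := congrFun hd' r
        by_contra hne
        exact he ((mul_eq_right₀ hne).1 h1)
    · exact Ctx.supp_zero hd hr
  have h1 : Vec m (1 : GL chevD4.Idx F) d := hz ▸ vec_of_next good (one_mem _)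
  have := Ctx.diff_mem hn hm h1 hd
  simpa using this

theorem Tp_form {y : GL chevD4.Idx F} (hy : y ∈ XS chevD4 F Tp) :
    ∃ s : F, ∃ w ∈ Um F 2, y = x 14 s * w := by
  have h14 : ∀ s : F, x 14 s ∈ Um F 1 := fun s => xg_mem_Um (by norm_num) (by decide +kernel) s
  induction hy using Subgroup.closure_induction with
  | mem y hy =>
    obtain ⟨r, t, hr, hT, rfl⟩ := hy
    have key : ∀ r ∈ radL, r = 14 ∨ 2 ≤ ht chevD4 r := by decide +kernel
    rcases key r hT with rfl | h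
    · exact ⟨t, 1, one_mem _, by rw [mul_one]⟩
    · exact ⟨0, _, xg_mem_Um hr h t, by rw [goodG.xg_zero, one_mul]⟩
  | one => exact ⟨0, 1, one_mem _, by rw [goodG.xg_zero, one_mul]⟩
  | mul a b _ _ ha hb =>
    obtain ⟨s, w, hw, rfl⟩ := ha
    obtain ⟨s', w', hw', rfl⟩ := hb
    refine ⟨s + s', (x 14 s')⁻¹ * w * (x 14 s')⁻¹⁻¹ * w',
      mul_mem (Um_conj (by norm_num) (inv_mem (h14 s')) hw) hw', ?_⟩
    rw [goodG.xg_add]; group
  | inv a _ ha =>
    obtain ⟨s, w, hw, rfl⟩ := ha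
    refine ⟨-s, x 14 s * w⁻¹ * (x 14 s)⁻¹, Um_conj (by norm_num) (h14 s) (inv_mem hw), ?_⟩
    rw [← goodG.xg_inv]; group

/-- two commuting actions without common fixed points on the radical -/
theorem regular_Tp {g g' : GL chevD4.Idx F} (e : ℕ → F) (e' : F) (he' : e' ≠ 1)
    (hg : ∀ r < 24, ∀ t, g * x r t * g⁻¹ = x r (e r * t))
    (he : ∀ r ∈ radL, r ≠ 23 → e r ≠ 1)
    (hg' : ∀ t, g' * x 23 t * g'⁻¹ = x 23 (e' * t))
    {y : GL chevD4.Idx F} (hy : y ∈ XS chevD4 F Tp) (hfix : g * y * g⁻¹ = y) (hfix' : g' * y * g'⁻¹ = y) :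
    y = 1 := by
  have h14 : ∀ s : F, x 14 s ∈ Um F 1 := fun s => xg_mem_Um (by norm_num) (by decide +kernel) s
  obtain ⟨s, w, hw, hyw⟩ := Tp_form hy
  have hy1 : y ∈ Um F 1 := hyw ▸ mul_mem (h14 s) (Um_mono (by norm_num) hw)
  have key1 : ∀ r : Fin 24, ht chevD4 r.val = 1 → r.val ∈ ([12, 13, 14, 18] : List ℕ) := by decide +kernel
  have hy2 : y ∈ Um F 2 := by
    refine fixed_next le_rfl (by norm_num) e hg hy1 hfix fun d hd r hr hh he1 => ?_
    have e14 : ht chevD4 14 = 1 := by decide +kernel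
    have hv : Vec 1 y (Pi.single 14 s + fun _ => 0) :=
      hyw ▸ (e14 ▸ vec_xg good (D := chevD4) (by norm_num [nroots_eq]) (by omega) s : Vec 1 (x 14 s) _).mul
        good le_rfl (vec_of_next good hw)
    rw [hd.unique good le_rfl hv]
    by_cases h : r = 14
    · exact absurd he1 (he r (by simp [h, radL]) (by omega))
    · simp [Pi.single_eq_of_ne h]
  have up : ∀ r : Fin 24, (ht chevD4 r.val = 2 ∨ ht chevD4 r.val = 3 ∨ ht chevD4 r.val = 4) →
      r.val ∈ radL ∧ r.val ≠ 23 := by decide +kernel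
  have hy3 : y ∈ Um F 3 := fixed_next (by norm_num) (by norm_num) e hg hy2 hfix fun d _ r hr hh he1 =>
    absurd he1 (he r (up ⟨r, hr⟩ (Or.inl hh)).1 (up ⟨r, hr⟩ (Or.inl hh)).2)
  have hy4 : y ∈ Um F 4 := fixed_next (by norm_num) (by norm_num) e hg hy3 hfix fun d _ r hr hh he1 =>
    absurd he1 (he r (up ⟨r, hr⟩ (Or.inr (Or.inl hh))).1 (up ⟨r, hr⟩ (Or.inr (Or.inl hh))).2)
  have hy5 : y ∈ Um F 5 := fixed_next (by norm_num) (by norm_num) e hg hy4 hfix fun d _ r hr hh he1 =>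
    absurd he1 (he r (up ⟨r, hr⟩ (Or.inr (Or.inr hh))).1 (up ⟨r, hr⟩ (Or.inr (Or.inr hh))).2)
  obtain ⟨t, rfl⟩ : ∃ t : F, y = x 23 t := by
    refine Subgroup.closure_induction ?_ ?_ ?_ ?_ hy5
    · rintro _ ⟨r, t, hr, hS', rfl⟩
      have : ∀ r : Fin 24, 5 ≤ ht chevD4 r.val → r.val = 23 := by decide +kernel
      exact ⟨t, by rw [show r = 23 from this ⟨r, hr⟩ hS']⟩
    · exact ⟨0, (goodG.xg_zero 23).symm⟩
    · rintro _ _ _ _ ⟨a, rfl⟩ ⟨b, rfl⟩
      exact ⟨a + b, (goodG.xg_add 23 a b).symm⟩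
    · rintro _ _ ⟨a, rfl⟩
      exact ⟨-a, goodG.xg_inv 23 a⟩
  rw [hg'] at hfix'
  have h1 := goodG.xg_injective (by norm_num [nroots_eq]) hfix'
  have : t = 0 := by
    by_contra hne
    exact he' ((mul_eq_right₀ hne).1 h1)
  rw [this, goodG.xg_zero]

/-- fixed point free normalisation gives every coset element as a conjugate -/
theorem coset_conj {G : Type*} [Group G] [Finite G] (R : Subgroup G) {g : G}
    (hn : ∀ u ∈ R, g * u * g⁻¹ ∈ R) (hreg : ∀ u ∈ R, g * u * g⁻¹ = u → u = 1) {u : G} (hu : u ∈ R) :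
    (∃ y ∈ R, y * g * y⁻¹ = g * u) ∧ ∃ y ∈ R, y * g * y⁻¹ = u * g := by
  have hn' : ∀ u ∈ R, g⁻¹ * u * g ∈ R := by
    let f : ↥R → ↥R := fun u => ⟨g * u * g⁻¹, hn u u.2⟩
    have hf : Function.Bijective f := Finite.injective_iff_bijective.1 fun a b h => by
      have := congrArg Subtype.val h
      exact Subtype.ext (mul_left_cancel (mul_right_cancel this))
    intro u hu
    obtain ⟨v, hv⟩ := hf.2 ⟨u, hu⟩
    have : g * v * g⁻¹ = u := congrArg Subtype.val hv
    rw [← this]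
    simp [mul_assoc]
  constructor
  · let f : ↥R → ↥R := fun y => ⟨g⁻¹ * y * g * (y : G)⁻¹, mul_mem (hn' y y.2) (inv_mem y.2)⟩
    have hf : Function.Bijective f := Finite.injective_iff_bijective.1 fun a b h => by
      have h' : g⁻¹ * a * g * (a : G)⁻¹ = g⁻¹ * b * g * (b : G)⁻¹ := congrArg Subtype.val h
      have h2 : g * ((b : G)⁻¹ * a) * g⁻¹ = (b : G)⁻¹ * a → (b : G)⁻¹ * a = 1 :=
        hreg _ (mul_mem (inv_mem b.2) a.2)
      have h3 : g⁻¹ * ((b : G)⁻¹ * a) * g = (b : G)⁻¹ * a := by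
        have : g⁻¹ * a * g = g⁻¹ * b * g * (b : G)⁻¹ * a := by
          rw [← h', inv_mul_cancel_right]
        calc g⁻¹ * ((b : G)⁻¹ * a) * g = (g⁻¹ * b * g)⁻¹ * (g⁻¹ * a * g) := by group
          _ = _ := by rw [this]; group
      refine Subtype.ext (inv_mul_eq_one.1 (h2 ?_)).symm
      conv_lhs => rw [← h3]
      group
    obtain ⟨y, hy⟩ := hf.2 ⟨u, hu⟩
    refine ⟨y, y.2, ?_⟩
    have : g⁻¹ * y * g * (y : G)⁻¹ = u := congrArg Subtype.val hy
    rw [← this]; group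
  · let f : ↥R → ↥R := fun y => ⟨(y : G) * (g * (y : G)⁻¹ * g⁻¹), mul_mem y.2 (hn _ (inv_mem y.2))⟩
    have hf : Function.Bijective f := Finite.injective_iff_bijective.1 fun a b h => by
      have h' : (a : G) * (g * (a : G)⁻¹ * g⁻¹) = (b : G) * (g * (b : G)⁻¹ * g⁻¹) := congrArg Subtype.val h
      refine Subtype.ext (inv_mul_eq_one.1 (hreg _ (mul_mem (inv_mem b.2) a.2) ?_)).symm
      calc g * ((b : G)⁻¹ * a) * g⁻¹ = (b : G)⁻¹ * ((b : G) * (g * (b : G)⁻¹ * g⁻¹)) * (g * a * g⁻¹) := by group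
        _ = _ := by rw [← h']; group
    obtain ⟨y, hy⟩ := hf.2 ⟨u, hu⟩
    refine ⟨y, y.2, ?_⟩
    have : (y : G) * (g * (y : G)⁻¹ * g⁻¹) = u := congrArg Subtype.val hy
    rw [← this]; group

/-- the word of the longest element -/
def W0 : List (Fin 2) := [1, 0, 1, 0, 1, 0]

namespace Setup

variable (E : Setup F q)

/-- the radical in the twisted group -/
noncomputable def R : Subgroup (GL chevD4.Idx F) := XS chevD4 F Tp ⊓ E.C.S

/-- the opposite radical in the twisted group -/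
noncomputable def Rn : Subgroup (GL chevD4.Idx F) := XS chevD4 F Tn ⊓ E.C.S

theorem R_conj (A : ↥(GA F q)) {y : GL chevD4.Idx F} (hy : y ∈ E.R) :
    Ctx.psi E.C A * y * (Ctx.psi E.C A)⁻¹ ∈ E.R :=
  Subgroup.mem_inf.2 ⟨(Ctx.normB_psi E.C A).1 y hy.1, mul_mem (mul_mem (E.psi_mem A) hy.2) (inv_mem (E.psi_mem A))⟩

theorem Rn_conj (A : ↥(GA F q)) {y : GL chevD4.Idx F} (hy : y ∈ E.Rn) :
    Ctx.psi E.C A * y * (Ctx.psi E.C A)⁻¹ ∈ E.Rn :=
  Subgroup.mem_inf.2 ⟨(Ctx.normB_psi E.C A).2 y hy.1, mul_mem (mul_mem (E.psi_mem A) hy.2) (inv_mem (E.psi_mem A))⟩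

theorem R_conj_inv (A : ↥(GA F q)) {y : GL chevD4.Idx F} (hy : y ∈ E.R) :
    (Ctx.psi E.C A)⁻¹ * y * Ctx.psi E.C A ∈ E.R := by
  have := E.R_conj A⁻¹ hy
  rwa [map_inv, inv_inv] at this

theorem Rn_conj_inv (A : ↥(GA F q)) {y : GL chevD4.Idx F} (hy : y ∈ E.Rn) :
    (Ctx.psi E.C A)⁻¹ * y * Ctx.psi E.C A ∈ E.Rn := by
  have := E.Rn_conj A⁻¹ hy
  rwa [map_inv, inv_inv] at this

/-- An element of `GA` with a central power and determinant not one is without fixed points on both radicals. -/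
theorem regular {X : ↥(GA F q)} {m : ℕ} {e : F} (hd : (X.1 : Matrix (Fin 2) (Fin 2) F).det ≠ 1)
    (he : e ≠ 1) (he0 : e ≠ 0) (heq : e ^ q = e) (hpow : ((X ^ m).1 : Matrix (Fin 2) (Fin 2) F) = e • 1) :
    (∀ y ∈ E.R, Ctx.psi E.C X * y * (Ctx.psi E.C X)⁻¹ = y → y = 1) ∧
      ∀ y ∈ E.Rn, Ctx.psi E.C X * y * (Ctx.psi E.C X)⁻¹ = y → y = 1 := by
  have hfix : ∀ y : GL chevD4.Idx F, Ctx.psi E.C X * y * (Ctx.psi E.C X)⁻¹ = y →
      Ctx.psi E.C (X ^ m) * y * (Ctx.psi E.C (X ^ m))⁻¹ = y := by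
    intro y hy
    have : Commute (Ctx.psi E.C X) y := mul_inv_eq_iff_eq_mul.1 hy
    rw [map_pow, (this.pow_left m).eq, mul_inv_cancel_right]
  have hsc : ∀ r < 24, ∀ t, Ctx.psi E.C (X ^ m) * x r t * (Ctx.psi E.C (X ^ m))⁻¹ =
      x r (e ^ (chevD4.pairing 18 r + chevD4.pairing 13 r + chevD4.pairing 12 r + 2 * chevD4.pairing 14 r) * t) :=
    fun r hr t => Ctx.psi_scalar E.C he0 heq _ hpow hr t
  have hexp : ∀ r ∈ radL, r ≠ 23 → chevD4.pairing 18 r + chevD4.pairing 13 r + chevD4.pairing 12 r +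
      2 * chevD4.pairing 14 r = 1 ∧ chevD4.pairing 18 (wact W0 r) + chevD4.pairing 13 (wact W0 r) +
      chevD4.pairing 12 (wact W0 r) + 2 * chevD4.pairing 14 (wact W0 r) = -1 := by decide +kernel
  refine ⟨fun y hy hy' => regular_Tp _ _ hd hsc (fun r hr hne => ?_) (Ctx.psi_x23 E.C X) hy.1 (hfix y hy') hy',
    fun y hy hy' => ?_⟩
  · rw [(hexp r hr hne).1, zpow_one]; exact he
  · set n := nWord F E.C.n W0
    have hy2 : n⁻¹ * y * n ∈ XS chevD4 F Tp := by
      have := conj_XS (g := n⁻¹) (T' := Tp) ?_ hy.1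
      · rwa [inv_inv] at this
      · intro r hr hT t
        have key : ∀ r ∈ negL, ∃ r' ∈ radL, wact W0 r' = r := by decide +kernel
        obtain ⟨r', hr', rfl⟩ := key r hT
        obtain ⟨c, hc, -, h⟩ := E.C.nW_conj W0 (lt_of_Tp hr')
        have : x (wact W0 r') t = n * x r' (c⁻¹ * t) * n⁻¹ := by
          rw [h, ← mul_assoc, mul_inv_cancel₀ hc, one_mul]
        rw [this]
        simp only [inv_inv, mul_assoc, inv_mul_cancel, mul_one, inv_mul_cancel_left]
        exact xg_mem_XS (lt_of_Tp hr') hr' _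
    have hconj : ∀ (g : GL chevD4.Idx F) (r : ℕ) (c : F), r < 24 →
        (∀ t, g * x (wact W0 r) t * g⁻¹ = x (wact W0 r) (c * t)) →
        ∀ t, (n⁻¹ * g * n) * x r t * (n⁻¹ * g * n)⁻¹ = x r (c * t) := by
      intro g r c hr hg t
      obtain ⟨a, ha, -, h⟩ := E.C.nW_conj W0 hr
      calc (n⁻¹ * g * n) * x r t * (n⁻¹ * g * n)⁻¹ = n⁻¹ * (g * (n * x r t * n⁻¹) * g⁻¹) * n := by group
        _ = n⁻¹ * (n * x r (c * t) * n⁻¹) * n := by rw [h, hg, h]; ring_nf
        _ = _ := by group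
    have h23 : wact W0 23 = 0 := by decide +kernel
    have hd0 : ((X.1 : Matrix (Fin 2) (Fin 2) F).det)⁻¹ ≠ 1 := fun h => hd (inv_eq_one.1 h)
    have := regular_Tp (g := n⁻¹ * Ctx.psi E.C (X ^ m) * n) (g' := n⁻¹ * Ctx.psi E.C X * n) _ _ hd0
      (fun r hr => hconj _ r _ hr (hsc _ (wact_lt W0 hr)))
      (fun r hr hne => by rw [(hexp r hr hne).2, _root_.zpow_neg_one]; exact fun h => he (inv_eq_one.1 h))
      (hconj _ 23 _ (by norm_num) (by rw [h23]; exact Ctx.psi_x0 E.C X)) hy2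
      (by
        conv_rhs => rw [← hfix y hy']
        group)
      (by
        conv_rhs => rw [← hy']
        group)
    calc y = n * (n⁻¹ * y * n) * n⁻¹ := by group
      _ = 1 := by rw [this]; group

end Setup

end Cfsg.Agent.Cover3D4
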