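/-
The cells of the parabolic and their elements of the big cell (helper97).
-/
import Cfsg.Agent.Cover3D4.Radical

set_option autoImplicit false

namespace Cfsg.Agent.Cover3D4

open Cfsg.Lie Cfsg.Agent.ChevCore Cfsg.Agent.D4SubMax Cfsg.Agent.Chev54 Matrix

variable {F : Type*} [Field F] {q : ℕ}

local notation "x" => xg chevD4 F

theorem rank_one_fourteen {t : F} (ht : t ≠ 0) :
    x 14 (-t) * ng chevD4 F 14 1 = x 9 (-t⁻¹) * hg chevD4 F 14 t * x 14 t⁻¹ := by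
  have e : (slU (-t) * pn slU slL 1 : Matrix.SpecialLinearGroup (Fin 2) F) =
      slL (-t⁻¹) * ph slU slL t * slU t⁻¹ := by
    refine Subtype.ext ?_
    simp only [Matrix.SpecialLinearGroup.coe_mul, pn_sl (one_ne_zero (α := F)), ph_sl ht, coe_slU, coe_slL]
    ext i j
    fin_cases i <;> fin_cases j <;> simp [Matrix.mul_apply, Fin.sum_univ_two, ht]
  have := congrArg (sl2 (14 : Fin 24)) e
  simp only [map_mul, pn, ph, sl2_U, sl2_L] at this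
  exact this

theorem middle {a b : F} (h : 1 + a * b ≠ 0) :
    x 14 a * x 9 b = x 9 (b / (1 + a * b)) * hg chevD4 F 14 (1 + a * b) * x 14 (a / (1 + a * b)) := by
  have e : (slU a * slL b : Matrix.SpecialLinearGroup (Fin 2) F) =
      slL (b / (1 + a * b)) * ph slU slL (1 + a * b) * slU (a / (1 + a * b)) := by
    refine Subtype.ext ?_
    simp only [Matrix.SpecialLinearGroup.coe_mul, ph_sl h, coe_slU, coe_slL]
    ext i j
    have h' : 1 + b * a ≠ 0 := by rwa [mul_comm]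
    fin_cases i <;> fin_cases j <;> simp [Matrix.mul_apply, Fin.sum_univ_two] <;> field_simp <;> ring
  have := congrArg (sl2 (14 : Fin 24)) e
  simp only [map_mul, pn, ph, sl2_U, sl2_L] at this
  exact this

open Ctx (ofSL)

theorem w_val : (((ofSL (q := q) (pn slU slL (1 : F))).1 : GL (Fin 2) F) : Matrix (Fin 2) (Fin 2) F) =
    !![0, 1; -1, 0] := by
  rw [Ctx.ofSL_val, pn_sl (one_ne_zero (α := F)), inv_one]

namespace Setup

variable (E : Setup F q)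

/-- the elements of the parabolic -/
def InP (g : GL chevD4.Idx F) : Prop := ∃ A : ↥(GA F q), ∃ r ∈ E.R, g = Ctx.psi E.C A * r

/-- the parabolic -/
noncomputable def P : Subgroup (GL chevD4.Idx F) where
  carrier := {g | E.InP g}
  one_mem' := ⟨1, 1, one_mem _, by simp⟩
  mul_mem' := by
    rintro _ _ ⟨A, r, hr, rfl⟩ ⟨B, s, hs, rfl⟩
    exact ⟨A * B, (Ctx.psi E.C B)⁻¹ * r * Ctx.psi E.C B * s, mul_mem (E.R_conj_inv B hr) hs, by
      rw [map_mul]; group⟩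
  inv_mem' := by
    rintro _ ⟨A, r, hr, rfl⟩
    exact ⟨A⁻¹, Ctx.psi E.C A * r⁻¹ * (Ctx.psi E.C A)⁻¹, E.R_conj A (inv_mem hr), by
      rw [map_inv]; group⟩

theorem psi_mem_P (A : ↥(GA F q)) : Ctx.psi E.C A ∈ E.P := ⟨A, 1, one_mem _, by rw [mul_one]⟩

theorem R_le_P : E.R ≤ E.P := fun r hr => ⟨1, r, hr, by rw [map_one, one_mul]⟩

theorem P_le_S : E.P ≤ E.C.S := by
  rintro _ ⟨A, r, hr, rfl⟩
  exact mul_mem (E.psi_mem A) hr.2

theorem Um2_le : Um F 2 ≤ XS chevD4 F Tp := by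
  refine (Subgroup.closure_le _).2 ?_
  rintro _ ⟨r, t, hr, hS, rfl⟩
  have : ∀ r : Fin 24, 2 ≤ ht chevD4 r.val → r.val ∈ radL := by decide +kernel
  exact xg_mem_XS hr (this ⟨r, hr⟩ hS) t

theorem root_mem_R {r : ℕ} (hr : r = 14 ∨ r = 22 ∨ r = 23) {t : F} (ht : t ^ q = t) : x r t ∈ E.R :=
  Subgroup.mem_inf.2 ⟨xg_mem_XS (by rcases hr with rfl | rfl | rfl <;> norm_num [nroots_eq])
    (by rcases hr with rfl | rfl | rfl <;> simp [Tp, radL]) t, E.C.xg_mem r hr ht⟩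

theorem n1_eq_psi : E.C.n 1 = Ctx.psi E.C (ofSL (pn slU slL 1)) := by
  rw [Ctx.psi_ofSL, E.phiA_w_eq]

theorem n1_pow : E.C.n 1 * (E.C.n 1 * (E.C.n 1 * E.C.n 1)) = 1 := by
  simp only [E.n1_eq_psi, ← map_mul]
  rw [← map_one (Ctx.psi E.C)]
  congr 1
  refine Ctx.ga_ext ?_
  simp only [map_mul, Subgroup.coe_mul, Units.val_mul, Subgroup.coe_one, Units.val_one, w_val]
  ext i j
  fin_cases i <;> fin_cases j <;> simp [Matrix.mul_apply, Fin.sum_univ_two]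

theorem U_mem_P {u : GL chevD4.Idx F} (hS : u ∈ E.C.S) (hU : u ∈ Um F 1) : u ∈ E.P := by
  obtain ⟨s, t, hs, -, h⟩ := E.C.split1 hS hU
  set w := (x 14 s * XA q t)⁻¹ * u with hw
  have hwS : w ∈ E.C.S :=
    mul_mem (inv_mem (mul_mem (E.C.xg_mem 14 (by simp) hs) (E.C.XA_mem t))) hS
  have e : u = x 14 s * XA q t * w := by rw [hw]; group
  rw [e, ← Ctx.phiA_U E.C, ← Ctx.psi_ofSL]
  exact mul_mem (mul_mem (E.R_le_P (E.root_mem_R (by simp) hs)) (E.psi_mem_P _))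
    (E.R_le_P (Subgroup.mem_inf.2 ⟨Um2_le h, hwS⟩))

theorem diag_det (a b : F) : (!![a, 0; 0, b] : Matrix (Fin 2) (Fin 2) F).det = a * b := by
  simp [Matrix.det_fin_two]

/-- the diagonal element `(1, δ)` -/
noncomputable def d2 {δ : F} (h : δ ≠ 0) (hf : δ ^ q = δ) : ↥(GA F q) :=
  Ctx.ga !![1, 0; 0, δ] (by rw [diag_det, one_mul]; exact h) (by rw [diag_det, one_mul]; exact hf)

/-- the diagonal element `(δ, 1)` -/
noncomputable def d1 {δ : F} (h : δ ≠ 0) (hf : δ ^ q = δ) : ↥(GA F q) :=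
  Ctx.ga !![δ, 0; 0, 1] (by rw [diag_det, mul_one]; exact h) (by rw [diag_det, mul_one]; exact hf)

theorem psi_d2 {δ : F} (h : δ ≠ 0) (hf : δ ^ q = δ) :
    Ctx.psi E.C (d2 h hf) = hg chevD4 F 14 δ := Ctx.psi_diag1 E.C _ _

theorem psi_d1 {δ : F} (h : δ ≠ 0) (hf : δ ^ q = δ) :
    Ctx.psi E.C (d1 h hf) = E.C.n 1 * hg chevD4 F 14 δ * (E.C.n 1)⁻¹ := by
  rw [← E.psi_d2 h hf, E.n1_eq_psi, ← map_mul, ← map_inv, ← map_mul]
  congr 1
  rw [eq_mul_inv_iff_mul_eq]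
  refine Ctx.ga_ext ?_
  simp only [Subgroup.coe_mul, Units.val_mul, w_val, d1, d2, Ctx.ga_val]
  ext i j
  fin_cases i <;> fin_cases j <;> simp [Matrix.mul_apply, Fin.sum_univ_two]

theorem Hd_mem_P {h : GL chevD4.Idx F} (hh : h ∈ E.C.Hd) : h ∈ E.P := by
  obtain ⟨a, b, ha, hb, hbq, rfl⟩ := E.Hd_eq h hh
  refine mul_mem (E.psi_d2 hb hbq ▸ E.psi_mem_P (d2 hb hbq)) ?_
  rw [← mul_assoc, ← Ctx.phiA_h E.C, ← Ctx.psi_ofSL]
  exact E.psi_mem_P _

theorem n1_mem_P : E.C.n 1 ∈ E.P := by rw [E.n1_eq_psi]; exact E.psi_mem_P _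

theorem P_stab {g : GL chevD4.Idx F} (hg : g ∈ E.P) : ∃ e : F, ∀ t, g * x 23 t * g⁻¹ = x 23 (e * t) := by
  obtain ⟨A, r, hr, rfl⟩ := hg
  refine ⟨(A.1 : Matrix (Fin 2) (Fin 2) F).det, fun t => ?_⟩
  have hr1 : r ∈ Um F 1 := by
    have : XS chevD4 F Tp ≤ Um F 1 := by
      refine (Subgroup.closure_le _).2 ?_
      rintro _ ⟨s, t, hs, hT, rfl⟩
      have : ∀ s ∈ radL, 1 ≤ ht chevD4 s := by decide +kernel
      exact xg_mem_Um hs (this s hT) t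
    exact this hr.1
  rw [← Ctx.psi_x23]
  calc _ = Ctx.psi E.C A * (r * x 23 t * r⁻¹) * (Ctx.psi E.C A)⁻¹ := by group
    _ = _ := by rw [(central23 hr1 t).eq, mul_inv_cancel_right]

theorem n0_not_mem_P : E.C.n 0 ∉ E.P := by
  intro h
  obtain ⟨e, he⟩ := E.P_stab h
  obtain ⟨c, hc, -, hn⟩ := E.C.n_conj 0 23 (by norm_num)
  have h1 := (hn 1).symm.trans (he 1)
  have := E.C.sep _ (wref_lt 0 (by norm_num)) 23 (by norm_num) (c * 1) (e * 1) (by simpa using hc) h1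
  revert this
  decide +kernel

/-- the three representatives -/
def core (i : Fin 3) : List (Fin 2) :=
  ([[0, 1], [0, 1, 0, 1, 1, 1], [0, 1, 0, 1, 1, 1, 0]] : List (List (Fin 2))).getD i.val []

/-- an element outside the parabolic is conjugate to one of three shapes -/
theorem exists_shape {g : GL chevD4.Idx F} (hg : g ∈ E.C.S) (hP : g ∉ E.P) :
    ∃ k ∈ E.C.S, ∃ i : Fin 3, ∃ p ∈ E.P, k * g * k⁻¹ = p * nWord F E.C.n (core i) := by
  obtain ⟨u, hu, huU, W, v, hv, hvU, h, hh, rfl⟩ := E.C.bruhat g hg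
  have huP := E.U_mem_P hu huU
  have hvP : v * h ∈ E.P := mul_mem (E.U_mem_P hv hvU) (E.Hd_mem_P hh)
  obtain ⟨i, hi⟩ := exists_weylWord W
  by_cases h23 : wact W 23 = 23
  · exfalso
    refine hP (mul_mem (mul_mem huP ?_) hvP)
    rcases perm_of_fix h23 with e | e
    · obtain ⟨h', hh', e'⟩ := E.C.perm_eq W [] e
      rw [e']
      exact mul_mem (one_mem _) (E.Hd_mem_P hh')
    · obtain ⟨h', hh', e'⟩ := E.C.perm_eq W [1] e
      rw [e']
      refine mul_mem ?_ (E.Hd_mem_P hh')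
      simpa [nWord] using E.n1_mem_P
  · have key : ∀ i : Fin 12, wact (weylWord i) 23 ≠ 23 → ∃ a : Fin 4, ∃ b : Fin 4, ∃ j : Fin 3,
        ∀ r : Fin 24, wact (weylWord i) r.val =
          wact (List.replicate a.val 1 ++ (core j ++ List.replicate b.val 1)) r.val := by
      decide +kernel
    obtain ⟨a, b, j, hab⟩ := key i (fun h => h23 ((hi ⟨23, by norm_num⟩).trans h))
    obtain ⟨h', hh', e'⟩ := E.C.perm_eq W (List.replicate a.val 1 ++ (core j ++ List.replicate b.val 1))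
      fun r hr => (hi ⟨r, hr⟩).trans (hab ⟨r, hr⟩)
    have hrep : ∀ n : ℕ, nWord F E.C.n (List.replicate n (1 : Fin 2)) = E.C.n 1 ^ n := fun n => by
      simp [nWord]
    have happ : ∀ A B : List (Fin 2), nWord F E.C.n (A ++ B) = nWord F E.C.n A * nWord F E.C.n B :=
      fun A B => by simp [nWord]
    set m := E.C.n 1 ^ b.val * (h' * (v * h))
    have hmP : m ∈ E.P := mul_mem (pow_mem E.n1_mem_P _) (mul_mem (E.Hd_mem_P hh') hvP)
    refine ⟨m, E.P_le_S hmP, j, m * (u * E.C.n 1 ^ a.val), mul_mem hmP (mul_mem huP (pow_mem E.n1_mem_P _)), ?_⟩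
    rw [e', happ, happ, hrep, hrep]
    simp only [m]
    group

/-- elements of the radical meeting the big cell after a representative -/
def Reach (W : List (Fin 2)) (D : ↥(GA F q)) : Prop :=
  ∃ r ∈ E.R, ∃ v ∈ E.Rn, ∃ u ∈ E.R, r * nWord F E.C.n W = v * Ctx.psi E.C D * u

theorem finish {W : List (Fin 2)} {A D : ↥(GA F q)} (h : E.Reach W D) {r : GL chevD4.Idx F} (hr : r ∈ E.R) :
    ∃ y ∈ E.C.S, ∃ v ∈ E.Rn, ∃ u ∈ E.R,
      y * (Ctx.psi E.C A * r * nWord F E.C.n W) * y⁻¹ = v * Ctx.psi E.C (A * D) * u := by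
  obtain ⟨r', hr', v, hv, u, hu, e⟩ := h
  set a := Ctx.psi E.C A with ha
  have hy : a * (r' * r⁻¹) * a⁻¹ ∈ E.R := E.R_conj A (mul_mem hr' (inv_mem hr))
  refine ⟨_, hy.2, a * v * a⁻¹, E.Rn_conj A hv, u * (a * (r' * r⁻¹) * a⁻¹)⁻¹, mul_mem hu (inv_mem hy), ?_⟩
  rw [map_mul, ← ha]
  calc _ = a * (r' * nWord F E.C.n W) * (a * (r' * r⁻¹) * a⁻¹)⁻¹ := by group
    _ = _ := by rw [e]; group

theorem x9_mem_Rn {t : F} (ht : t ^ q = t) : x 9 t ∈ E.Rn := by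
  obtain ⟨e, he, heq, hn⟩ := E.C.n_conj 0 14 (by norm_num)
  refine Subgroup.mem_inf.2 ⟨xg_mem_XS (by norm_num [nroots_eq]) (by simp [Tn, negL]) t, ?_⟩
  have h := mul_mem (mul_mem (E.C.n_mem 0) (E.C.xg_mem 14 (by simp) (t := e⁻¹ * t)
    (by rw [mul_pow, inv_pow, heq, ht]))) (inv_mem (E.C.n_mem 0))
  rwa [hn, ← mul_assoc, mul_inv_cancel₀ he, one_mul, show wref 0 14 = 9 from rfl] at h

theorem n1_conj_R {y : GL chevD4.Idx F} (hy : y ∈ E.R) : E.C.n 1 * y * (E.C.n 1)⁻¹ ∈ E.R := by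
  rw [E.n1_eq_psi]; exact E.R_conj _ hy

theorem rank_one_conj {s : F} (hs : s ≠ 0) (hsq : s ^ q = s) :
    E.C.n 1 * x 14 (-s) * (E.C.n 1)⁻¹ * (E.C.n 1 * E.C.n 0 * (E.C.n 1)⁻¹) =
      E.C.n 1 * x 9 (-s⁻¹) * (E.C.n 1)⁻¹ * Ctx.psi E.C (d1 hs hsq) *
        (E.C.n 1 * x 14 s⁻¹ * (E.C.n 1)⁻¹) := by
  rw [E.psi_d1 hs hsq]
  calc _ = E.C.n 1 * (x 14 (-s) * E.C.n 0) * (E.C.n 1)⁻¹ := by group
    _ = _ := by rw [E.n0_eq, rank_one_fourteen hs]; group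

/-- the first representative -/
theorem reach_zero {t : F} (ht : t ≠ 0) (htq : t ^ q = t) (s : F) (D : ↥(GA F q))
    (hD : (D.1 : Matrix (Fin 2) (Fin 2) F) = !![-s, 1; -t, 0]) : E.Reach (core 0) D := by
  have hW : nWord F E.C.n (core 0) = E.C.n 0 * E.C.n 1 := by simp [nWord, core]
  set M : ↥(GA F q) := ofSL (slU s * pn slU slL 1)
  have hM : Ctx.psi E.C M = XA q s * E.C.n 1 := by
    rw [Ctx.psi_ofSL, map_mul, Ctx.phiA_U, E.phiA_w_eq]
  have hXC : E.C.n 0 * XA q s * (E.C.n 0)⁻¹ ∈ E.R := by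
    refine Subgroup.mem_inf.2 ⟨?_, mul_mem (mul_mem (E.C.n_mem 0) (E.C.XA_mem s)) (inv_mem (E.C.n_mem 0))⟩
    obtain ⟨c, -, -, hc⟩ := E.C.nb_XA
    rw [hc]
    refine mul_mem (mul_mem ?_ ?_) ?_ <;> exact xg_mem_XS (by norm_num [nroots_eq]) (by simp [Tp, radL]) _
  refine ⟨x 14 (-t) * (E.C.n 0 * XA q s * (E.C.n 0)⁻¹),
    mul_mem (E.root_mem_R (by simp) (by rw [E.C.neg_pow', htq])) hXC, x 9 (-t⁻¹),
    E.x9_mem_Rn (by rw [E.C.neg_pow', inv_pow, htq]),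
    (Ctx.psi E.C M)⁻¹ * x 14 t⁻¹ * Ctx.psi E.C M,
    E.R_conj_inv M (E.root_mem_R (by simp) (by rw [inv_pow, htq])), ?_⟩
  have eD : D = d2 ht htq * M := by
    refine Ctx.ga_ext ?_
    simp only [Subgroup.coe_mul, Units.val_mul, hD, d2, Ctx.ga_val, M, Ctx.ofSL_val,
      Matrix.SpecialLinearGroup.coe_mul, coe_slU, pn_sl (one_ne_zero (α := F))]
    ext i j
    fin_cases i <;> fin_cases j <;> simp [Matrix.mul_apply, Fin.sum_univ_two]
  rw [hW, eD, map_mul, E.psi_d2, hM]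
  calc _ = x 14 (-t) * E.C.n 0 * (XA q s * E.C.n 1) := by group
    _ = _ := by rw [E.n0_eq, rank_one_fourteen ht]; group

theorem nW_core1 : nWord F E.C.n (core 1) = E.C.n 0 * (E.C.n 1 * E.C.n 0 * (E.C.n 1)⁻¹) := by
  have e : (E.C.n 1)⁻¹ = E.C.n 1 * (E.C.n 1 * E.C.n 1) := inv_eq_of_mul_eq_one_right E.n1_pow
  rw [e]
  simp [nWord, core, mul_assoc]

theorem nW_core2 : nWord F E.C.n (core 2) = E.C.n 0 * (E.C.n 1 * E.C.n 0 * (E.C.n 1)⁻¹) * E.C.n 0 := by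
  rw [← E.nW_core1]
  simp [nWord, core, mul_assoc]

/-- the lower elements met by the last two representatives -/
def Low (g : GL chevD4.Idx F) : Prop :=
  ∃ a b : F, a ^ q = a ∧ b ^ q = b ∧ b ≠ 0 ∧ g = x 9 a * x 1 b

/-- stronger form of `Reach` -/
def ReachLow (W : List (Fin 2)) (D : ↥(GA F q)) : Prop :=
  ∃ r ∈ E.R, ∃ v, Low (q := q) v ∧ ∃ u ∈ E.R, r * nWord F E.C.n W = v * Ctx.psi E.C D * u

theorem low_mem {g : GL chevD4.Idx F} (h : Low (q := q) g) : g ∈ E.Rn := by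
  obtain ⟨a, b, ha, hb, -, rfl⟩ := h
  have h1 : x 1 b ∈ E.Rn := by
    obtain ⟨e, he, heq, hn⟩ := E.C.n_conj 1 9 (by norm_num)
    have h := E.Rn_conj (ofSL (pn slU slL 1)) (E.x9_mem_Rn (t := e⁻¹ * b)
      (by rw [mul_pow, inv_pow, heq, hb]))
    rwa [← E.n1_eq_psi, hn, ← mul_assoc, mul_inv_cancel₀ he, one_mul, show wref 1 9 = 1 from rfl] at h
  exact mul_mem (E.x9_mem_Rn ha) h1

theorem reach_of_low {W : List (Fin 2)} {D : ↥(GA F q)} (h : E.ReachLow W D) : E.Reach W D := by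
  obtain ⟨r, hr, v, hv, rest⟩ := h
  exact ⟨r, hr, v, E.low_mem hv, rest⟩

theorem h14_scale {r : ℕ} (hr : r < 24) {a : F} (ha : a ≠ 0) (t : F) :
    hg chevD4 F 14 a * x r t = x r (a ^ chevD4.pairing 14 r * t) * hg chevD4 F 14 a := by
  rw [← mul_inv_eq_iff_eq_mul]
  exact goodG.hg_conj_x (by norm_num [nroots_eq]) hr ha t

theorem zpow_fix {a : F} (ha : a ^ q = a) (n : ℤ) : (a ^ n) ^ q = a ^ n := by
  rw [← zpow_natCast (a ^ n) q, ← _root_.zpow_mul, mul_comm, _root_.zpow_mul, zpow_natCast, ha]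

/-- scaling of the root of the first node by `(s, 1)` -/
theorem d1_scale14 {s : F} (hs : s ≠ 0) (hsq : s ^ q = s) (t : F) :
    x 14 t * Ctx.psi E.C (d1 hs hsq) = Ctx.psi E.C (d1 hs hsq) * x 14 (s * t) := by
  have hi : (s⁻¹) ^ q = s⁻¹ := by rw [inv_pow, hsq]
  let Z : ↥(GA F q) := Ctx.ga (s • 1) (by simp [hs])
    (by simp only [Matrix.det_smul, Fintype.card_fin, Matrix.det_one, mul_one]; rw [← pow_mul, mul_comm, pow_mul, hsq])
  have hd : d1 hs hsq = Z * d2 (inv_ne_zero hs) hi := by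
    refine Ctx.ga_ext ?_
    simp only [Subgroup.coe_mul, Units.val_mul, d1, d2, Z, Ctx.ga_val]
    ext i j
    fin_cases i <;> fin_cases j <;> simp [Matrix.mul_apply, Fin.sum_univ_two, hs]
  have hZ := fun u => Ctx.psi_scalar E.C hs hsq Z (Ctx.ga_val _ _ _) (show 14 < 24 by norm_num) u
  have p14 : chevD4.pairing 18 14 + chevD4.pairing 13 14 + chevD4.pairing 12 14 +
      2 * chevD4.pairing 14 14 = 1 := by decide +kernel
  have p : chevD4.pairing 14 14 = 2 := by decide +kernel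
  rw [hd, map_mul, E.psi_d2, mul_assoc, h14_scale (by norm_num) (inv_ne_zero hs), p, ← mul_assoc,
    ← mul_assoc]
  congr 1
  rw [mul_inv_eq_iff_eq_mul.1 (hZ (s⁻¹ ^ (2 : ℤ) * (s * t)))]
  rw [p14, zpow_one, zpow_two]
  congr 1
  field_simp

/-- the second representative -/
theorem reach_one {s t : F} (hs : s ≠ 0) (hsq : s ^ q = s) (ht : t ≠ 0) (htq : t ^ q = t) :
    E.ReachLow (core 1) (d2 ht htq * d1 hs hsq) := by
  obtain ⟨e, he, heq, hn⟩ := E.C.n_conj 1 9 (by norm_num)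
  obtain ⟨e', he', heq', hn'⟩ := E.C.n_conj 1 14 (by norm_num)
  obtain ⟨f, hf, hfq, hn0⟩ := E.C.n_conj 0 22 (by norm_num)
  set b := t ^ chevD4.pairing 14 1 * (e * -s⁻¹)
  have hb : b ^ q = b := by
    simp only [b, mul_pow, zpow_fix htq, heq, E.C.neg_pow', inv_pow, hsq]
  have hb0 : b ≠ 0 := mul_ne_zero (zpow_ne_zero _ ht) (mul_ne_zero he (neg_ne_zero.2 (inv_ne_zero hs)))
  refine ⟨x 14 (-t) * (E.C.n 0 * (E.C.n 1 * x 14 (-s) * (E.C.n 1)⁻¹) * (E.C.n 0)⁻¹),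
    mul_mem (E.root_mem_R (by simp) (by rw [E.C.neg_pow', htq])) ?_, x 9 (-t⁻¹) * x 1 b,
    ⟨-t⁻¹, b, by rw [E.C.neg_pow', inv_pow, htq], hb, hb0, rfl⟩,
    x 14 (s * t⁻¹) * (E.C.n 1 * x 14 s⁻¹ * (E.C.n 1)⁻¹),
    mul_mem (E.root_mem_R (by simp) (by rw [mul_pow, inv_pow, hsq, htq]))
      (E.n1_conj_R (E.root_mem_R (by simp) (by rw [inv_pow, hsq]))), ?_⟩
  · rw [hn', show wref 1 14 = 22 from rfl, hn0]
    exact E.root_mem_R (Or.inr (Or.inr rfl))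
      (by rw [mul_pow, mul_pow, hfq, heq', E.C.neg_pow', hsq])
  · rw [E.nW_core1, map_mul, E.psi_d2]
    calc _ = (x 14 (-t) * E.C.n 0) *
          (E.C.n 1 * x 14 (-s) * (E.C.n 1)⁻¹ * (E.C.n 1 * E.C.n 0 * (E.C.n 1)⁻¹)) := by group
      _ = x 9 (-t⁻¹) * hg chevD4 F 14 t * (x 14 t⁻¹ * x 1 (e * -s⁻¹)) * Ctx.psi E.C (d1 hs hsq) *
          (E.C.n 1 * x 14 s⁻¹ * (E.C.n 1)⁻¹) := by
        rw [E.rank_one_conj hs hsq, E.n0_eq, rank_one_fourteen ht, hn, show wref 1 9 = 1 from rfl]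
        group
      _ = x 9 (-t⁻¹) * (hg chevD4 F 14 t * x 1 (e * -s⁻¹)) * (x 14 t⁻¹ * Ctx.psi E.C (d1 hs hsq)) *
          (E.C.n 1 * x 14 s⁻¹ * (E.C.n 1)⁻¹) := by
        rw [comm0 (r := 14) (s := 1) (by decide +kernel)]
        group
      _ = _ := by
        rw [h14_scale (by norm_num) ht, E.d1_scale14 hs hsq]
        simp only [b]
        group

/-- the third representative -/
theorem reach_two {s t r : F} (hs : s ≠ 0) (hsq : s ^ q = s) (ht : t ≠ 0) (htq : t ^ q = t)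
    (hr : r ≠ 0) (hrq : r ^ q = r) (hk : t * r - s ≠ 0) (D : ↥(GA F q))
    (hD : (D.1 : Matrix (Fin 2) (Fin 2) F) = !![s, 0; 0, t * r - s]) : E.Reach (core 2) D := by
  obtain ⟨e, he, heq, hn⟩ := E.C.n_conj 1 9 (by norm_num)
  obtain ⟨e', he', heq', hn'⟩ := E.C.n_conj 1 14 (by norm_num)
  obtain ⟨f, hf, hfq, hn0⟩ := E.C.n_conj 0 22 (by norm_num)
  obtain ⟨g, hg0, hgq, hnB⟩ := E.C.nW_conj (core 1) (show 14 < 24 by norm_num)
  set α := s * t⁻¹ with hα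
  set β := -r⁻¹ with hβ
  have hαβ : 1 + α * β = (t * r - s) / (t * r) := by rw [hα, hβ]; field_simp; ring
  set κ := 1 + α * β with hκ
  have hκ0 : κ ≠ 0 := by rw [hαβ]; exact div_ne_zero hk (mul_ne_zero ht hr)
  have hαq : α ^ q = α := by rw [hα, mul_pow, inv_pow, hsq, htq]
  have hβq : β ^ q = β := by rw [hβ, E.C.neg_pow', inv_pow, hrq]
  have hκq : κ ^ q = κ := by rw [hκ, E.C.add, one_pow, mul_pow, hαq, hβq]
  set b := t ^ chevD4.pairing 14 1 * (e * -s⁻¹)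
  have hb : b ^ q = b := by
    simp only [b, mul_pow, zpow_fix htq, heq, E.C.neg_pow', inv_pow, hsq]
  have hb0 : b ≠ 0 := mul_ne_zero (zpow_ne_zero _ ht) (mul_ne_zero he (neg_ne_zero.2 (inv_ne_zero hs)))
  set T := Ctx.psi E.C (d2 ht htq * d1 hs hsq) with hT
  obtain ⟨c, hcq, hc⟩ : ∃ c : F, c ^ q = c ∧ T * x 9 (β / κ) * T⁻¹ = x 9 c := by
    have h1 : ∃ c' : F, c' ^ q = c' ∧
        Ctx.psi E.C (d1 hs hsq) * x 9 (β / κ) * (Ctx.psi E.C (d1 hs hsq))⁻¹ = x 9 c' := by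
      obtain ⟨e9, he9, he9q, hn9⟩ := E.C.n_conj 1 1 (by norm_num)
      refine ⟨e * (s ^ chevD4.pairing 14 1 * (e⁻¹ * (β / κ))), ?_, ?_⟩
      · simp only [mul_pow, zpow_fix hsq, inv_pow, heq, div_pow, hβq, hκq]
      · rw [E.psi_d1 hs hsq]
        have h19 : ∀ u, (E.C.n 1)⁻¹ * x 1 (e * u) * E.C.n 1 = x 9 u := fun u => by
          rw [show x 1 (e * u) = E.C.n 1 * x 9 u * (E.C.n 1)⁻¹ by rw [hn]; rfl]
          group
        have h91 : ∀ u, E.C.n 1 * x 1 u * (E.C.n 1)⁻¹ = x 9 (e9 * u) := fun u => by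
          rw [hn9]; rfl
        have hee : e9 * e = 1 ∨ True := Or.inr trivial
        have hgo : (E.C.n 1)⁻¹ * x 9 (β / κ) * E.C.n 1 = x 1 (e9⁻¹ * (β / κ)) := by
          rw [show x 9 (β / κ) = x 9 (e9 * (e9⁻¹ * (β / κ))) by rw [← mul_assoc, mul_inv_cancel₀ he9, one_mul],
            ← h91]
          group
        calc _ = E.C.n 1 * (hg chevD4 F 14 s * ((E.C.n 1)⁻¹ * x 9 (β / κ) * E.C.n 1)) *
              (hg chevD4 F 14 s)⁻¹ * (E.C.n 1)⁻¹ := by group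
          _ = E.C.n 1 * x 1 (s ^ chevD4.pairing 14 1 * (e9⁻¹ * (β / κ))) * (E.C.n 1)⁻¹ := by
              rw [hgo, h14_scale (by norm_num) hs]; group
          _ = x 9 (e9 * (s ^ chevD4.pairing 14 1 * (e9⁻¹ * (β / κ)))) := h91 _
          _ = _ := by congr 1; field_simp
    obtain ⟨c', hc'q, hc'⟩ := h1
    refine ⟨t ^ chevD4.pairing 14 9 * c', by rw [mul_pow, zpow_fix htq, hc'q], ?_⟩
    rw [hT, map_mul, E.psi_d2, ← goodG.hg_conj_x (F := F) (r := 14) (s := 9) (by norm_num [nroots_eq])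
      (by norm_num [nroots_eq]) ht, ← hc']
    group
  have hrk : κ * r ≠ 0 := mul_ne_zero hκ0 hr
  have hrkq : (κ * r) ^ q = κ * r := by rw [mul_pow, hκq, hrq]
  refine ⟨x 14 (-t) * (E.C.n 0 * (E.C.n 1 * x 14 (-s) * (E.C.n 1)⁻¹) * (E.C.n 0)⁻¹) *
      (nWord F E.C.n (core 1) * x 14 (-r) * (nWord F E.C.n (core 1))⁻¹),
    mul_mem (mul_mem (E.root_mem_R (by simp) (by rw [E.C.neg_pow', htq])) ?_) ?_,
    x 9 (-t⁻¹) * x 1 b * x 9 c,
    mul_mem (E.low_mem ⟨-t⁻¹, b, by rw [E.C.neg_pow', inv_pow, htq], hb, hb0, rfl⟩) (E.x9_mem_Rn hcq),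
    (hg chevD4 F 14 (κ * r))⁻¹ *
      (hg chevD4 F 14 κ * x 14 (α / κ) * (E.C.n 1 * x 14 s⁻¹ * (E.C.n 1)⁻¹) * hg chevD4 F 14 r) *
      x 14 r⁻¹, ?_, ?_⟩
  · rw [hn', show wref 1 14 = 22 from rfl, hn0]
    exact E.root_mem_R (Or.inr (Or.inr rfl))
      (by rw [mul_pow, mul_pow, hfq, heq', E.C.neg_pow', hsq])
  · rw [hnB, show wact (core 1) 14 = 22 by decide +kernel]
    exact E.root_mem_R (Or.inr (Or.inl rfl)) (by rw [mul_pow, hgq, E.C.neg_pow', hrq])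
  · refine mul_mem ?_ (E.root_mem_R (by simp) (by rw [inv_pow, hrq]))
    have h1 : (hg chevD4 F 14 r)⁻¹ * (x 14 (α / κ) * (E.C.n 1 * x 14 s⁻¹ * (E.C.n 1)⁻¹)) * hg chevD4 F 14 r ∈ E.R := by
      rw [← E.psi_d2 hr hrq]
      exact E.R_conj_inv _ (mul_mem (E.root_mem_R (by simp) (by rw [div_pow, hαq, hκq]))
        (E.n1_conj_R (E.root_mem_R (by simp) (by rw [inv_pow, hsq]))))
    convert h1 using 1
    rw [← Ctx.h14_mul hκ0 hr]
    group
  · have eD : D = d2 ht htq * d1 hs hsq * d2 hrk hrkq := by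
      refine Ctx.ga_ext ?_
      simp only [Subgroup.coe_mul, Units.val_mul, hD, d1, d2, Ctx.ga_val]
      have : t * (κ * r) = t * r - s := by rw [hαβ]; field_simp
      ext i j
      fin_cases i <;> fin_cases j <;> simp [Matrix.mul_apply, Fin.sum_univ_two, this]
    rw [eD, map_mul, ← hT, E.psi_d2]
    calc _ = (x 14 (-t) * E.C.n 0) *
          (E.C.n 1 * x 14 (-s) * (E.C.n 1)⁻¹ * (E.C.n 1 * E.C.n 0 * (E.C.n 1)⁻¹)) *
          (x 14 (-r) * E.C.n 0) := by rw [E.nW_core2, E.nW_core1]; group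
      _ = x 9 (-t⁻¹) * hg chevD4 F 14 t * (x 14 t⁻¹ * x 1 (e * -s⁻¹)) * Ctx.psi E.C (d1 hs hsq) *
          (x 22 (e' * s⁻¹) * x 9 β) * hg chevD4 F 14 r * x 14 r⁻¹ := by
        rw [E.rank_one_conj hs hsq, E.n0_eq, rank_one_fourteen ht, rank_one_fourteen hr, hn, hn',
          show wref 1 9 = 1 from rfl, show wref 1 14 = 22 from rfl]
        simp only [β]
        group
      _ = x 9 (-t⁻¹) * (hg chevD4 F 14 t * x 1 (e * -s⁻¹)) * (x 14 t⁻¹ * Ctx.psi E.C (d1 hs hsq)) *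
          x 9 β * x 22 (e' * s⁻¹) * hg chevD4 F 14 r * x 14 r⁻¹ := by
        rw [comm0 (r := 14) (s := 1) (by decide +kernel), comm0 (r := 22) (s := 9) (by decide +kernel)]
        group
      _ = x 9 (-t⁻¹) * x 1 b * T * (x 14 α * x 9 β) * x 22 (e' * s⁻¹) * hg chevD4 F 14 r * x 14 r⁻¹ := by
        rw [h14_scale (by norm_num) ht, E.d1_scale14 hs hsq, hT, map_mul, E.psi_d2]
        simp only [b, α]
        group
      _ = x 9 (-t⁻¹) * x 1 b * (T * x 9 (β / κ) * T⁻¹) * T * hg chevD4 F 14 κ * x 14 (α / κ) *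
          x 22 (e' * s⁻¹) * hg chevD4 F 14 r * x 14 r⁻¹ := by
        rw [middle (hκ ▸ hκ0), ← hκ]
        group
      _ = _ := by
        rw [hc, hn', show wref 1 14 = 22 from rfl]
        group

/-- the exceptional case of the third representative -/
theorem reach_two_sing {s : F} (hs : s ≠ 0) (hsq : s ^ q = s) (D : ↥(GA F q))
    (hD : (D.1 : Matrix (Fin 2) (Fin 2) F) = !![s, 0; 0, -s]) : E.Reach (core 2) D := by
  obtain ⟨e, he, heq, hn⟩ := E.C.n_conj 1 9 (by norm_num)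
  obtain ⟨e', he', heq', hn'⟩ := E.C.n_conj 1 14 (by norm_num)
  obtain ⟨f, hf, hfq, hn0⟩ := E.C.n_conj 0 22 (by norm_num)
  obtain ⟨f1, hf1, hf1q, hn01⟩ := E.C.n_conj 0 1 (by norm_num)
  obtain ⟨e'', he'', heq'', hn''⟩ := E.C.n_conj 0 23 (by norm_num)
  have hm : (-1 : F) ≠ 0 := neg_ne_zero.2 one_ne_zero
  have hmq : (-1 : F) ^ q = -1 := by rw [E.C.neg_pow', one_pow]
  have hn0sq : E.C.n 0 * E.C.n 0 = hg chevD4 F 14 (-1) := by
    have := PairRel.n_sq (goodG.pairRel_root (F := F) (r := 14) (by norm_num [nroots_eq]))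
    rw [E.n0_eq]
    exact this
  have hh : E.C.n 0 * Ctx.psi E.C (d1 hs hsq) * E.C.n 0 =
      Ctx.psi E.C (d1 hs hsq * (d2 hs hsq * d2 hm hmq)) := by
    rw [map_mul, map_mul, E.psi_d2, E.psi_d2, E.n0_eq]
    have P := goodG.pairRel_root (F := F) (r := 14) (by norm_num [nroots_eq])
    set H := Ctx.psi E.C (d1 hs hsq)
    have hx : ∀ u, H⁻¹ * x 14 u * H = x 14 (s * u) := by
      intro u
      rw [mul_assoc, E.d1_scale14 hs hsq, ← mul_assoc, inv_mul_cancel, one_mul]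
    have hy : ∀ u, H⁻¹ * x 9 u * H = x 9 (s⁻¹ * u) := by
      intro u
      obtain ⟨e9, he9, -, hn9⟩ := E.C.n_conj 1 1 (by norm_num)
      have h91 : ∀ u, E.C.n 1 * x 1 u * (E.C.n 1)⁻¹ = x 9 (e9 * u) := fun u => by rw [hn9]; rfl
      have hgo : (E.C.n 1)⁻¹ * x 9 u * E.C.n 1 = x 1 (e9⁻¹ * u) := by
        rw [show x 9 u = x 9 (e9 * (e9⁻¹ * u)) by rw [← mul_assoc, mul_inv_cancel₀ he9, one_mul], ← h91]
        group
      have hp : chevD4.pairing 14 1 = 1 := by decide +kernel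
      have hsc : (hg chevD4 F 14 s)⁻¹ * x 1 (e9⁻¹ * u) * hg chevD4 F 14 s = x 1 (s⁻¹ * (e9⁻¹ * u)) := by
        have := h14_scale (F := F) (r := 1) (by norm_num) hs (s⁻¹ * (e9⁻¹ * u))
        rw [hp, zpow_one, ← mul_assoc s, mul_inv_cancel₀ hs, one_mul] at this
        rw [mul_assoc, ← this, ← mul_assoc, inv_mul_cancel, one_mul]
      calc _ = E.C.n 1 * ((hg chevD4 F 14 s)⁻¹ * ((E.C.n 1)⁻¹ * x 9 u * E.C.n 1) * hg chevD4 F 14 s) *
            (E.C.n 1)⁻¹ := by rw [show H = _ from E.psi_d1 hs hsq]; group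
        _ = x 9 (e9 * (s⁻¹ * (e9⁻¹ * u))) := by rw [hgo, hsc, h91]
        _ = _ := by congr 1; field_simp
    have hpn : H⁻¹ * ng chevD4 F 14 1 * H = ng chevD4 F 14 s := by
      rw [ng, inv_one]
      calc _ = (H⁻¹ * x 14 1 * H) * (H⁻¹ * x (chevD4.neg 14) (-1) * H) * (H⁻¹ * x 14 1 * H) := by group
        _ = _ := by
          rw [show chevD4.neg 14 = 9 from rfl, hx, hy, mul_one, mul_neg, mul_one, ng,
            show chevD4.neg 14 = 9 from rfl]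
    have hs1 : ng chevD4 F 14 s = hg chevD4 F 14 s * ng chevD4 F 14 1 := goodG.ng_eq_hg_mul 14 s
    calc _ = H * (H⁻¹ * ng chevD4 F 14 1 * H) * ng chevD4 F 14 1 := by group
      _ = H * (hg chevD4 F 14 s * (E.C.n 0 * E.C.n 0)) := by rw [hpn, hs1, E.n0_eq]; group
      _ = _ := by rw [hn0sq]
  have eD : D = d1 hs hsq * (d2 hs hsq * d2 hm hmq) := by
    refine Ctx.ga_ext ?_
    simp only [Subgroup.coe_mul, Units.val_mul, hD, d1, d2, Ctx.ga_val]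
    ext i j
    fin_cases i <;> fin_cases j <;> simp [Matrix.mul_apply, Fin.sum_univ_two]
  refine ⟨E.C.n 0 * (E.C.n 1 * x 14 (-s) * (E.C.n 1)⁻¹) * (E.C.n 0)⁻¹, ?_,
    E.C.n 0 * (E.C.n 1 * x 9 (-s⁻¹) * (E.C.n 1)⁻¹) * (E.C.n 0)⁻¹, ?_,
    (E.C.n 0)⁻¹ * (E.C.n 1 * x 14 s⁻¹ * (E.C.n 1)⁻¹) * E.C.n 0, ?_, ?_⟩
  · rw [hn', show wref 1 14 = 22 from rfl, hn0]
    exact E.root_mem_R (Or.inr (Or.inr rfl))
      (by rw [mul_pow, mul_pow, hfq, heq', E.C.neg_pow', hsq])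
  · refine Subgroup.mem_inf.2 ⟨?_, ?_⟩
    · rw [hn, show wref 1 9 = 1 from rfl, hn01]
      exact xg_mem_XS (by norm_num [nroots_eq, show wref 0 1 = 0 from rfl]) (by simp [Tn, negL, show wref 0 1 = 0 from rfl]) _
    · exact mul_mem (mul_mem (E.C.n_mem 0) (mul_mem (mul_mem (E.C.n_mem 1)
        (E.x9_mem_Rn (by rw [E.C.neg_pow', inv_pow, hsq])).2) (inv_mem (E.C.n_mem 1)))) (inv_mem (E.C.n_mem 0))
  · have : x 22 (e' * s⁻¹) = E.C.n 0 * x 23 (e''⁻¹ * (e' * s⁻¹)) * (E.C.n 0)⁻¹ := by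
      rw [hn'', ← mul_assoc, mul_inv_cancel₀ he'', one_mul]; rfl
    rw [hn', show wref 1 14 = 22 from rfl, this]
    simp only [mul_assoc, inv_mul_cancel, mul_one, inv_mul_cancel_left]
    exact E.root_mem_R (Or.inr (Or.inr rfl))
      (by rw [mul_pow, mul_pow, inv_pow, heq'', heq', inv_pow, hsq])
  · rw [E.nW_core2, eD, ← hh]
    calc _ = E.C.n 0 * (E.C.n 1 * x 14 (-s) * (E.C.n 1)⁻¹ * (E.C.n 1 * E.C.n 0 * (E.C.n 1)⁻¹)) *
          E.C.n 0 := by group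
      _ = _ := by rw [E.rank_one_conj hs hsq]; group

/-- in characteristic two a lower element of the Levi subgroup may be put in front -/
theorem reach_low {W : List (Fin 2)} {D : ↥(GA F q)} (h : E.ReachLow W D) (h2 : (2 : F) = 0) (κ : F) :
    E.Reach W (ofSL (slL κ) * D) := by
  obtain ⟨r, hr, v, ⟨a, b, ha, hb, hb0, rfl⟩, u, hu, e⟩ := h
  have hneg : ∀ y : F, -y = y := fun y => by
    have : y + y = 0 := by rw [← two_mul, h2, zero_mul]
    exact (eq_neg_of_add_eq_zero_left this).symm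
  set k := κ / b
  have hk : k * b = κ := div_mul_cancel₀ κ hb0
  set A := x 17 k
  set B := x 20 (k ^ q)
  set C' := x 21 (k ^ (q ^ 2))
  have hXD : XD q k = A * B * C' := by rw [XD, hneg, hneg]
  have one : ∀ (r l : ℕ) (M : ℤ), (M = 1 ∨ M = -1) →
      (r < 24 ∧ 1 < 24 ∧ 1 ≠ r ∧ 1 ≠ chevD4.neg r ∧ chevD4.commTerms r 1 = [(l, M, 1, 1)]) →
      ∀ u, x r u * x 1 b = x 1 b * x r u * x l (u * b) := by
    intro r l M hM h u
    have hM1 : (M : F) = 1 := by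
      rcases hM with rfl | rfl
      · simp
      · rw [Int.cast_neg, Int.cast_one, hneg]
    rw [comm1 h u b, hM1, one_mul]
  have k17 := one 17 5 (chevD4.chainM 17 1 1) (by decide +kernel) (by decide +kernel)
  have k20 := one 20 10 (chevD4.chainM 20 1 1) (by decide +kernel) (by decide +kernel)
  have k21 := one 21 11 (chevD4.chainM 21 1 1) (by decide +kernel) (by decide +kernel)
  set l1 := x 5 (k * b)
  set l2 := x 10 (k ^ q * b)
  set l3 := x 11 (k ^ (q ^ 2) * b)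
  have hYA : YA q κ = l1 * l2 * l3 := by
    have hb2 : b ^ (q ^ 2) = b := by rw [pow_two, pow_mul, hb, hb]
    rw [YA, ← hk, mul_pow, mul_pow, hb, hb2]
  have j17 : A * x 1 b = x 1 b * A * l1 := k17 _
  have j20 : B * x 1 b = x 1 b * B * l2 := k20 _
  have j21 : C' * x 1 b = x 1 b * C' * l3 := k21 _
  have hmove : XD q k * x 1 b = x 1 b * (A * l1 * (B * l2) * (C' * l3)) := by
    rw [hXD]
    calc A * B * C' * x 1 b = A * B * (C' * x 1 b) := by group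
      _ = A * (B * x 1 b) * C' * l3 := by rw [j21]; group
      _ = A * x 1 b * B * l2 * C' * l3 := by rw [j20]; group
      _ = _ := by rw [j17]; group
  have hXDr : XD q k ∈ XS chevD4 F Tp := by
    refine mul_mem (mul_mem ?_ ?_) ?_ <;>
      exact xg_mem_XS (by norm_num [nroots_eq]) (by simp [Tp, radL]) _
  have hN : ∀ r ∈ ([5, 10, 11] : List ℕ), ∀ u, NormB (x r u) := fun r hr u =>
    normB_root (by revert hr; simp; omega) u
  set w := (l1 * l2 * l3)⁻¹ * (A * l1 * (B * l2) * (C' * l3)) with hw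
  have hwT : w ∈ XS chevD4 F Tp := by
    have e : w = (l3⁻¹ * (l2⁻¹ * (l1⁻¹ * A * l1⁻¹⁻¹) * l2⁻¹⁻¹) * l3⁻¹⁻¹) *
        (l3⁻¹ * (l2⁻¹ * B * l2⁻¹⁻¹) * l3⁻¹⁻¹) * (l3⁻¹ * C' * l3⁻¹⁻¹) := by rw [hw]; group
    have i1 : NormB l1⁻¹ := by rw [show l1⁻¹ = _ from goodG.xg_inv _ _]; exact hN 5 (by simp) _
    have i2 : NormB l2⁻¹ := by rw [show l2⁻¹ = _ from goodG.xg_inv _ _]; exact hN 10 (by simp) _
    have i3 : NormB l3⁻¹ := by rw [show l3⁻¹ = _ from goodG.xg_inv _ _]; exact hN 11 (by simp) _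
    have hA : ∀ r, r ∈ radL → ∀ u, x r u ∈ XS chevD4 F Tp := fun r hr u => xg_mem_XS (lt_of_Tp hr) hr u
    rw [e]
    exact mul_mem (mul_mem (i3.1 _ (i2.1 _ (i1.1 _ (hA 17 (by simp [radL]) _))))
      (i3.1 _ (i2.1 _ (hA 20 (by simp [radL]) _)))) (i3.1 _ (hA 21 (by simp [radL]) _))
  set Y := Ctx.psi E.C (ofSL (slL κ))
  have hY : Y = l1 * l2 * l3 := by simp only [Y]; rw [Ctx.psi_ofSL, Ctx.phiA_L, hYA]
  have hwS : w ∈ E.C.S := by
    have hx1 : x 1 b ∈ E.C.S := by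
      have := (E.low_mem ⟨0, b, E.C.zero_pow', hb, hb0, rfl⟩).2
      simpa [goodG.xg_zero] using this
    have e2 : w = Y⁻¹ * (x 1 b)⁻¹ * (XD q k * x 1 b) := by rw [hmove, hY, hw]; group
    rw [e2]
    exact mul_mem (mul_mem (inv_mem (E.psi_mem _)) (inv_mem hx1)) (mul_mem (E.C.XD_mem k) hx1)
  have hwR : w ∈ E.R := Subgroup.mem_inf.2 ⟨hwT, hwS⟩
  have h9 : Commute (XD q k) (x 9 a) := by
    refine (Commute.mul_left (Commute.mul_left ?_ ?_) ?_) <;> exact comm0 (by decide +kernel) _ _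
  refine ⟨XD q k * r, mul_mem (Subgroup.mem_inf.2 ⟨hXDr, E.C.XD_mem k⟩) hr,
    x 9 a * x 1 b, E.low_mem ⟨a, b, ha, hb, hb0, rfl⟩,
    (Ctx.psi E.C D)⁻¹ * w * Ctx.psi E.C D * u, mul_mem (E.R_conj_inv D hwR) hu, ?_⟩
  rw [map_mul]
  calc XD q k * r * nWord F E.C.n W = XD q k * (r * nWord F E.C.n W) := by group
    _ = (XD q k * x 9 a) * x 1 b * Ctx.psi E.C D * u := by rw [e]; group
    _ = x 9 a * (XD q k * x 1 b) * Ctx.psi E.C D * u := by rw [h9.eq]; group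
    _ = _ := by
      rw [hmove, show A * l1 * (B * l2) * (C' * l3) = Y * w by rw [hY, hw]; group]
      simp only [Y]
      group

theorem tri_low {z : F} : ∃ e : F, e ≠ 0 ∧ e ^ q = e ∧
    nWord F E.C.n (core 2) * XA q z * (nWord F E.C.n (core 2))⁻¹ = XA q (e * z) := by
  obtain ⟨e1, he1, he1q, g1⟩ := E.C.nW_conj (core 2) (show 18 < 24 by norm_num)
  obtain ⟨e2, -, -, g2⟩ := E.C.nW_conj (core 2) (show 13 < 24 by norm_num)
  obtain ⟨e3, -, -, g3⟩ := E.C.nW_conj (core 2) (show 12 < 24 by norm_num)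
  refine ⟨e1, he1, he1q, ?_⟩
  have hS := mul_mem (mul_mem (E.C.nW_mem (core 2)) (E.C.XA_mem z)) (inv_mem (E.C.nW_mem (core 2)))
  have hw : wact (core 2) 18 = 18 ∧ wact (core 2) 13 = 13 ∧ wact (core 2) 12 = 12 := by decide +kernel
  rw [XA, D4SubMax.Ctx.conj3, g1, g2, g3, hw.1, hw.2.1, hw.2.2] at hS ⊢
  exact E.C.tri_A hS

/-- conjugating the last shape by a unipotent element of the Levi subgroup -/
theorem twist (A : ↥(GA F q)) {r : GL chevD4.Idx F} (hr : r ∈ E.R) (z : F) :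
    ∃ e : F, e ≠ 0 ∧ ∃ k ∈ E.C.S, ∃ r' ∈ E.R,
      k * (Ctx.psi E.C A * r * nWord F E.C.n (core 2)) * k⁻¹ =
        Ctx.psi E.C (ofSL (slU z) * A * ofSL (slU (-(e * z)))) * r' * nWord F E.C.n (core 2) := by
  obtain ⟨e, he, -, h⟩ := E.tri_low (z := z)
  refine ⟨e, he, XA q z, E.C.XA_mem z, XA q (e * z) * r * (XA q (e * z))⁻¹, ?_, ?_⟩
  · rw [← Ctx.phiA_U E.C, ← Ctx.psi_ofSL]
    exact E.R_conj _ hr
  · rw [map_mul, map_mul, Ctx.psi_ofSL, Ctx.psi_ofSL, Ctx.phiA_U, Ctx.phiA_U, ← E.C.XA_neg]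
    rw [← h]
    group

end Setup

end Cfsg.Agent.Cover3D4
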