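/-
Parameters of the elliptic class and selection of good members in the cells (helper97).
-/
import Cfsg.Agent.Cover3D4.GL2
import Mathlib.RingTheory.AdjoinRoot
import Mathlib.Algebra.Polynomial.SpecificDegree
import Mathlib.FieldTheory.Finite.GaloisField
import Mathlib.RingTheory.IntegralDomain

set_option autoImplicit false

namespace Cfsg.Agent.Cover3D4

open Matrix Polynomial

variable {F : Type*} [Field F] {q : ℕ}

/-- a fixed element other than zero and one -/
theorem exists_fixed_ne_one [Fintype F] (hq : 3 ≤ q) (hK : Fintype.card F = q ^ 3) :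
    ∃ d : F, d ^ q = d ∧ d ≠ 0 ∧ d ≠ 1 := by
  classical
  obtain ⟨g, hg⟩ := IsCyclic.exists_generator (α := Fˣ)
  have hcard : Nat.card Fˣ = q ^ 3 - 1 := by
    rw [Nat.card_units, Nat.card_eq_fintype_card, hK]
  have hord : orderOf g = q ^ 3 - 1 := by rw [orderOf_eq_card_of_forall_mem_zpowers hg, hcard]
  set N := q ^ 2 + q + 1
  have hN : N * (q - 1) = q ^ 3 - 1 := by
    obtain ⟨r, rfl⟩ : ∃ r, q = r + 1 := ⟨q - 1, by omega⟩
    simp only [N, Nat.add_sub_cancel]
    have : ((r + 1) ^ 2 + (r + 1) + 1) * r + 1 = (r + 1) ^ 3 := by ring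
    omega
  refine ⟨((g ^ N : Fˣ) : F), ?_, Units.ne_zero _, ?_⟩
  · rw [← Units.val_pow_eq_pow_val]
    congr 1
    rw [← pow_mul, show N * q = N * (q - 1) + N by
      rw [← Nat.mul_succ]; congr 1; omega, pow_add, hN, ← hord, pow_orderOf_eq_one, one_mul]
  · intro h
    have h1 : orderOf g ∣ N := orderOf_dvd_of_pow_eq_one (Units.ext h)
    have h2 : q ^ 3 - 1 ≤ N := Nat.le_of_dvd (by simp [N]) (hord ▸ h1)
    rw [← hN] at h2
    have : N * 2 ≤ N * (q - 1) := Nat.mul_le_mul_left _ (by omega)
    have : 0 < N := by simp [N]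
    omega

/-- a trace with irreducible polynomial over the larger field -/
theorem exists_trace [Fintype F] (hadd : ∀ a b : F, (a + b) ^ q = a ^ q + b ^ q)
    (hper : ∀ a : F, a ^ (q ^ 3) = a) {d : F} (hd : d ^ q = d) (hd0 : d ≠ 0) (hd1 : d ≠ 1) :
    ∃ t : F, t ^ q = t ∧ t ≠ 0 ∧ ∀ r : F, r ^ 2 - t * r + d ≠ 0 := by
  classical
  by_contra hall
  push Not at hall
  let k := {a : F // a ^ q = a ∧ a ≠ 0}
  have hsub : ∀ a b : F, (a - b) ^ q = a ^ q - b ^ q := fun a b =>
    eq_sub_of_add_eq (by rw [← hadd, sub_add_cancel])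
  have key : ∀ t : k, ∃ r : k, (r : F) ^ 2 - (t : F) * r + d = 0 := by
    rintro ⟨t, ht, ht0⟩
    obtain ⟨r, hr⟩ := hall t ht ht0
    have hr0 : r ≠ 0 := by
      rintro rfl
      exact hd0 (by simpa using hr)
    have hq0 : q ≠ 0 := by
      rintro rfl
      exact hd1 (by simpa using hd.symm)
    have hr' : (r ^ q) ^ 2 - t * r ^ q + d = 0 := by
      have h := congrArg (· ^ q) hr
      simp only [hadd, hsub, mul_pow, ht, hd, zero_pow hq0] at h
      rwa [← pow_mul, mul_comm, pow_mul]
    have hfix : r ^ q = r := by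
      rcases mul_eq_zero.1 (show (r ^ q - r) * (r ^ q - (t - r)) = 0 by linear_combination hr' - hr) with h | h
      · exact sub_eq_zero.1 h
      · have h2 : (r ^ q) ^ q = r := by rw [sub_eq_zero.1 h, hsub, ht, sub_eq_zero.1 h]; ring
        calc r ^ q = ((r ^ q) ^ q) ^ q := by rw [h2]
          _ = r ^ (q ^ 3) := by rw [← pow_mul, ← pow_mul]; ring_nf
          _ = r := hper r
    exact ⟨⟨r, hfix, hr0⟩, hr⟩
  choose f hf using key
  have hinj : Function.Injective f := by
    intro a b h
    have ha := hf a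
    rw [h] at ha
    refine Subtype.ext (mul_right_cancel₀ (f b).2.2 ?_)
    linear_combination (hf b) - ha
  have hsurj := Finite.surjective_of_injective hinj
  have h1 : (1 : F) ^ q = 1 ∧ (1 : F) ≠ 0 := ⟨one_pow q, one_ne_zero⟩
  obtain ⟨a, ha⟩ := hsurj ⟨1, h1⟩
  obtain ⟨b, hb⟩ := hsurj ⟨d, hd, hd0⟩
  have e1 := hf a
  have e2 := hf b
  rw [ha] at e1
  rw [hb] at e2
  simp only at e1 e2
  have hab : a = b := Subtype.ext (mul_right_cancel₀ hd0 (by linear_combination e2 - d * e1))
  exact hd1 (Subtype.ext_iff.1 (hb.symm.trans (hab ▸ ha)))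

/-- the power of the companion matrix which is scalar -/
theorem compM_pow [Fintype F] {p n : ℕ} [Fact p.Prime] [CharP F p] (hq : q = p ^ n)
    (hK : Fintype.card F = q ^ 3) {t d : F} (ht : t ^ q = t) (hd : d ^ q = d)
    (hirr : ∀ r : F, r ^ 2 - t * r + d ≠ 0) :
    compM t d ^ (q + 1) = d • (1 : Matrix (Fin 2) (Fin 2) F) := by
  classical
  subst hq
  set P : F[X] := X ^ 2 - C t * X + C d with hP
  have hdeg : P.natDegree = 2 := by rw [hP]; compute_degree!
  haveI : Fact (Irreducible P) := ⟨Polynomial.irreducible_of_degree_le_three_of_not_isRoot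
    (by rw [hdeg]; simp) fun r hr => hirr r (by simpa [hP] using hr)⟩
  haveI : CharP (AdjoinRoot P) p := charP_of_injective_algebraMap (algebraMap F (AdjoinRoot P)).injective p
  set z := AdjoinRoot.root P
  set ι := AdjoinRoot.of P
  have hz : z ^ 2 - ι t * z + ι d = 0 := by
    have := AdjoinRoot.eval₂_root P
    simpa [hP] using this
  have hzq : (z ^ p ^ n) ^ 2 - ι t * z ^ p ^ n + ι d = 0 := by
    have h := congrArg (iterateFrobenius (AdjoinRoot P) p n) hz
    simp only [map_add, map_sub, map_mul, map_pow, map_zero] at h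
    simp only [iterateFrobenius_def, ← map_pow, ht, hd] at h
    rwa [← pow_mul, mul_comm, pow_mul] at h ⊢
  have hne : z ^ p ^ n ≠ z := by
    intro h
    have h3 : z ^ (p ^ n) ^ 3 = z := by
      rw [show (p ^ n) ^ 3 = p ^ n * p ^ n * p ^ n by ring, pow_mul, pow_mul, h, h, h]
    have hnot : z ∉ Finset.univ.image ι := by
      intro hz'
      obtain ⟨r, -, hr⟩ := Finset.mem_image.1 hz'
      refine hirr r (ι.injective ?_)
      simp only [map_add, map_sub, map_mul, map_pow, map_zero, hr]
      exact hz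
    have hsub : insert z (Finset.univ.image ι) ⊆
        (X ^ (p ^ n) ^ 3 - X : (AdjoinRoot P)[X]).roots.toFinset := by
      intro y hy
      have h0 : (X ^ (p ^ n) ^ 3 - X : (AdjoinRoot P)[X]) ≠ 0 :=
        FiniteField.X_pow_card_sub_X_ne_zero _ (by rw [← hK]; exact Fintype.one_lt_card)
      rw [Multiset.mem_toFinset, mem_roots h0]
      simp only [IsRoot.def, eval_sub, eval_pow, eval_X, sub_eq_zero]
      rcases Finset.mem_insert.1 hy with rfl | hy
      · exact h3
      · obtain ⟨r, -, rfl⟩ := Finset.mem_image.1 hy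
        rw [← map_pow, ← hK, FiniteField.pow_card]
    have := (Finset.card_le_card hsub).trans ((Multiset.toFinset_card_le _).trans (card_roots' _))
    rw [Finset.card_insert_of_notMem hnot, Finset.card_image_of_injective _ ι.injective, Finset.card_univ,
      FiniteField.X_pow_card_sub_X_natDegree_eq _ (by rw [← hK]; exact Fintype.one_lt_card), hK] at this
    omega
  have hroot : z ^ (p ^ n + 1) = ι d := by
    rcases mul_eq_zero.1 (show (z ^ p ^ n - z) * (z ^ p ^ n - (ι t - z)) = 0 by
      linear_combination hzq - hz) with h | h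
    · exact absurd (sub_eq_zero.1 h) hne
    · rw [pow_succ, sub_eq_zero.1 h]
      linear_combination (-1 : AdjoinRoot P) * hz
  obtain ⟨Q, hQ⟩ : P ∣ X ^ (p ^ n + 1) - C d := AdjoinRoot.mk_eq_zero.1 (by
    rw [map_sub, map_pow, AdjoinRoot.mk_X, AdjoinRoot.mk_C, sub_eq_zero]
    exact hroot)
  have hPX : aeval (compM t d) P = 0 := by
    simp only [hP, map_add, map_sub, map_mul, map_pow, aeval_X, aeval_C, Algebra.algebraMap_eq_smul_one]
    rw [pow_two, sq_eq (inCls_compM t d), smul_mul_assoc, Matrix.one_mul]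
    abel
  have := congrArg (aeval (compM t d)) hQ
  rw [map_mul, hPX, zero_mul, map_sub, map_pow, aeval_X, aeval_C, Algebra.algebraMap_eq_smul_one,
    sub_eq_zero] at this
  exact this

/-- the choice in the first cell -/
theorem select_zero {a b e f c d : F} (hdet : (a * f - b * e) * c = d ^ 2) (hd : d ≠ 0) :
    ∃ s : F, Good2 d (!![a, b; e, f] * !![-s, 1; -c, 0]) := by
  have hM : ∀ s : F, (!![a, b; e, f] * !![-s, 1; -c, 0] : Matrix (Fin 2) (Fin 2) F) =
      !![-(a * s) - b * c, a; -(e * s) - f * c, e] := fun s => by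
    ext i j
    fin_cases i <;> fin_cases j <;> simp [Matrix.mul_apply, Fin.sum_univ_two] <;> ring
  simp only [hM, Good2, Matrix.det_fin_two, Matrix.trace_fin_two, Matrix.cons_val', Matrix.cons_val_zero,
    Matrix.cons_val_one, Matrix.of_apply, Matrix.empty_val', Matrix.cons_val_fin_one]
  have hdet' : ∀ s : F, (-(a * s) - b * c) * e - a * (-(e * s) - f * c) = d ^ 2 := fun s => by
    linear_combination hdet
  by_cases ha : a = 0
  · subst ha
    have he : e ≠ 0 := by
      rintro rfl
      exact pow_ne_zero 2 hd (by rw [← hdet]; ring)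
    by_cases htr : -(b * c) + e = 2 * d
    · have h1 : e = d := by
        have : (e - d) ^ 2 = 0 := by linear_combination e * htr - hdet' 0
        exact sub_eq_zero.1 (pow_eq_zero_iff two_ne_zero |>.1 this)
      refine ⟨-(f * c) / e, hdet' _, Or.inl ?_⟩
      subst h1
      ext i j
      fin_cases i <;> fin_cases j <;> simp
      · linear_combination htr
      · field_simp; ring
    · by_cases hfc : f * c = 0
      · refine ⟨1, hdet' _, Or.inr ⟨by simpa using htr, fun h => he ?_⟩⟩
        linear_combination (-1 : F) * h.2.1 - hfc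
      · refine ⟨0, hdet' _, Or.inr ⟨by simpa using htr, fun h => hfc ?_⟩⟩
        linear_combination (-1 : F) * h.2.1
  · by_cases h0 : -(b * c) + e = 2 * d
    · refine ⟨1, hdet' _, Or.inr ⟨fun h => ha ?_, fun h => ha h.1⟩⟩
      linear_combination h0 - h
    · exact ⟨0, hdet' _, Or.inr ⟨by simpa using h0, fun h => ha h.1⟩⟩

/-- the product with a diagonal matrix -/
theorem mul_diag (a b e f u v : F) :
    (!![a, b; e, f] * !![u, 0; 0, v] : Matrix (Fin 2) (Fin 2) F) = !![a * u, b * v; e * u, f * v] := by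
  ext i j
  fin_cases i <;> fin_cases j <;> simp [Matrix.mul_apply, Fin.sum_univ_two]

/-- the choice in the other two cells -/
theorem select_diag {a b e f c d : F} (hq : (-1 : F) ^ q = -1) (hdet : (a * f - b * e) * c = d ^ 2)
    (hdq : d ^ q = d) (hd : d ≠ 0) (hd1 : d ≠ 1) (h : (2 : F) ≠ 0 ∨ a ≠ 0 ∨ f ≠ 0) :
    ∃ s : F, s ≠ 0 ∧ s ^ q = s ∧ Good2 d (!![a, b; e, f] * !![s, 0; 0, c / s]) := by
  have hc : c ≠ 0 := by
    rintro rfl
    exact pow_ne_zero 2 hd (by rw [← hdet]; ring)
  simp only [mul_diag, Good2, Matrix.det_fin_two, Matrix.trace_fin_two, Matrix.cons_val', Matrix.cons_val_zero,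
    Matrix.cons_val_one, Matrix.of_apply, Matrix.empty_val', Matrix.cons_val_fin_one]
  have hdet' : ∀ s : F, s ≠ 0 → a * s * (f * (c / s)) - b * (c / s) * (e * s) = d ^ 2 := fun s hs => by
    field_simp
    linear_combination hdet
  by_cases h2 : (2 : F) = 0
  · have haf := h.resolve_left (not_not.2 h2)
    have htwo : ∀ y : F, y + y = 0 := fun y => by rw [← two_mul, h2, zero_mul]
    have good : ∀ s : F, s ≠ 0 → a * s + f * (c / s) ≠ 0 →
        a * s * (f * (c / s)) - b * (c / s) * (e * s) = d ^ 2 ∧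
          (!![a * s, b * (c / s); e * s, f * (c / s)] = d • (1 : Matrix (Fin 2) (Fin 2) F) ∨
            a * s + f * (c / s) ≠ 2 * d ∧
              ¬(b * (c / s) = 0 ∧ e * s = 0 ∧ a * s = f * (c / s))) :=
      fun s hs hne => ⟨hdet' s hs, Or.inr ⟨by rwa [h2, zero_mul],
        fun hsc => hne (by rw [hsc.2.2]; exact htwo _)⟩⟩
    by_cases h1 : a * 1 + f * (c / 1) = 0
    · refine ⟨d, hd, hdq, good d hd fun h3 => ?_⟩
      rw [mul_one, div_one] at h1
      field_simp at h3
      have h4 : a * (d - 1) ^ 2 = 0 := by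
        linear_combination h3 - h1 + (a - a * d) * h2
      have ha : a = 0 := (mul_eq_zero.1 h4).resolve_right (pow_ne_zero 2 (sub_ne_zero.2 hd1))
      rw [ha, zero_add] at h1
      exact haf.elim (fun h' => h' ha) (fun h' => mul_ne_zero h' hc h1)
    · exact ⟨1, one_ne_zero, one_pow q, good 1 one_ne_zero h1⟩
  · have hs1 := neg_ne_zero.2 (one_ne_zero (α := F))
    by_cases hsc : b * c = 0 ∧ e = 0 ∧ a = f * c
    · obtain ⟨hb, he, haf⟩ := hsc
      have hb' : b = 0 := (mul_eq_zero.1 hb).resolve_right hc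
      have hsq : (a - d) * (a + d) = 0 := by
        linear_combination hdet + a * haf + e * hb
      rcases mul_eq_zero.1 hsq with h3 | h3
      · refine ⟨1, one_ne_zero, one_pow q, hdet' 1 one_ne_zero, Or.inl ?_⟩
        ext i j
        fin_cases i <;> fin_cases j <;> simp [hb', he]
        · linear_combination h3
        · linear_combination h3 - haf
      · refine ⟨-1, hs1, hq, hdet' _ hs1, Or.inl ?_⟩
        ext i j
        fin_cases i <;> fin_cases j <;> simp [hb', he]
        · linear_combination (-1 : F) * h3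
        · linear_combination haf - h3
    · by_cases h1 : a + f * c = 2 * d
      · refine ⟨-1, hs1, hq, hdet' _ hs1, Or.inr ⟨fun h3 => ?_, fun h3 => hsc ?_⟩⟩
        · rw [div_neg, div_one] at h3
          exact mul_ne_zero h2 (mul_ne_zero h2 hd) (by linear_combination (-1 : F) * h1 - h3)
        · obtain ⟨i1, i2, i3⟩ := h3
          rw [div_neg, div_one] at i1 i3
          exact ⟨by linear_combination (-1 : F) * i1, by linear_combination (-1 : F) * i2,
            by linear_combination (-1 : F) * i3⟩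
      · exact ⟨1, one_ne_zero, one_pow q, hdet' 1 one_ne_zero, Or.inr ⟨by simpa using h1, by simpa using hsc⟩⟩

end Cfsg.Agent.Cover3D4
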