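/-
The square of an elliptic class covers `³D₄(q)` for `q` at least three (helper97).
-/
import Cfsg.Agent.Cover3D4.Cells
import Cfsg.Agent.Cover3D4.Field
import Cfsg.Agent.Twisted.Groups.D4Inst

set_option autoImplicit false

namespace Cfsg.Agent.Cover3D4

open Cfsg.Lie Cfsg.Agent.ChevCore Cfsg.Agent.D4SubMax Matrix

variable {F : Type*} [Field F] {q : ℕ}

open Ctx (ofSL)

theorem ofSL_slU_val (z : F) :
    ((ofSL (q := q) (slU z)).1 : Matrix (Fin 2) (Fin 2) F) = !![1, z; 0, 1] := by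
  rw [Ctx.ofSL_val, coe_slU]

theorem ofSL_slL_val (z : F) :
    ((ofSL (q := q) (slL z)).1 : Matrix (Fin 2) (Fin 2) F) = !![1, 0; z, 1] := by
  rw [Ctx.ofSL_val, coe_slL]

namespace Setup

variable (E : Setup F q)

/-- products of two conjugates -/
def IsProd (xx g : GL chevD4.Idx F) : Prop :=
  ∃ u ∈ E.C.S, ∃ v ∈ E.C.S, g = u * xx * u⁻¹ * (v * xx * v⁻¹)

theorem isProd_conj {xx g k : GL chevD4.Idx F} (hk : k ∈ E.C.S) (h : E.IsProd xx (k * g * k⁻¹)) :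
    E.IsProd xx g := by
  obtain ⟨u, hu, v, hv, e⟩ := h
  refine ⟨k⁻¹ * u, mul_mem (inv_mem hk) hu, k⁻¹ * v, mul_mem (inv_mem hk) hv, ?_⟩
  calc g = k⁻¹ * (k * g * k⁻¹) * k := by group
    _ = _ := by rw [e]; group

/-- some conjugate of a nontrivial element is outside the parabolic -/
theorem exists_conj_notMem [Fintype F] (hq : IsPrimePow q) (hK : Fintype.card F = q ^ 3)
    {g : GL chevD4.Idx F} (hg : g ∈ E.C.S) (h1 : g ≠ 1) : ∃ k ∈ E.C.S, k * g * k⁻¹ ∉ E.P := by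
  haveI hs : IsSimpleGroup ↥(twistedD4 F q) :=
    (Twisted.TypeD4.simple (Twisted.TypeD4.frame₀ hq hK) hq hK).1
  by_contra hall
  push Not at hall
  have e := E.C.S_eq
  let a : ↥(twistedD4 F q) := ⟨g, e ▸ hg⟩
  have hN : Subgroup.normalClosure ({a} : Set ↥(twistedD4 F q)) ≤ E.P.subgroupOf (twistedD4 F q) := by
    rw [Subgroup.normalClosure, Subgroup.closure_le]
    intro y hy
    rw [Group.mem_conjugatesOfSet_iff] at hy
    obtain ⟨b, rfl, hb⟩ := hy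
    obtain ⟨c, rfl⟩ := isConj_iff.1 hb
    exact hall c (e.symm ▸ c.2)
  rcases hs.eq_bot_or_eq_top_of_normal _ Subgroup.normalClosure_normal with h | h
  · have : a ∈ (⊥ : Subgroup ↥(twistedD4 F q)) := (SetLike.ext_iff.1 h a).1 (Subgroup.subset_normalClosure (Set.mem_singleton a))
    exact h1 (congrArg Subtype.val (Subgroup.mem_bot.1 this))
  · have hn : (⟨E.C.n 0, e ▸ E.C.n_mem 0⟩ : ↥(twistedD4 F q)) ∈ E.P.subgroupOf (twistedD4 F q) :=
      hN ((SetLike.ext_iff.1 h _).2 (Subgroup.mem_top _))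
    exact E.n0_not_mem_P hn

/-- the good elements of the big cell -/
theorem good_prod [Fintype F] {t d : F} (X : ↥(GA F q))
    (hX : (X.1 : Matrix (Fin 2) (Fin 2) F) = compM t d) (hd : d ^ q = d) (hd0 : d ≠ 0) (hd1 : d ≠ 1)
    (ht : t ≠ 0) (hirr : ∀ r : F, r ^ 2 - t * r + d ≠ 0) {m : ℕ}
    (hm : ((X ^ m).1 : Matrix (Fin 2) (Fin 2) F) = d • 1) (M : ↥(GA F q))
    (hM : Good2 d (M.1 : Matrix (Fin 2) (Fin 2) F)) {v u : GL chevD4.Idx F} (hv : v ∈ E.Rn) (hu : u ∈ E.R) :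
    E.IsProd (Ctx.psi E.C X) (v * Ctx.psi E.C M * u) := by
  obtain ⟨A, B, hA, hB, hAB⟩ := exists_product ht hd0 hM
  have mk : ∀ A : Matrix (Fin 2) (Fin 2) F, InCls t d A → ∃ a : ↥(GA F q),
      (a.1 : Matrix (Fin 2) (Fin 2) F) = A ∧
      (∃ k ∈ E.C.S, k * Ctx.psi E.C X * k⁻¹ = Ctx.psi E.C a) ∧
      ((a ^ m).1 : Matrix (Fin 2) (Fin 2) F) = d • 1 := by
    intro A hA
    obtain ⟨P, hP⟩ := exists_sl_conj hirr hA
    let a : ↥(GA F q) := Ctx.ga A (by rw [hA.2]; exact hd0) (by rw [hA.2, hd])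
    have e : a = ofSL P * X * (ofSL P)⁻¹ := by
      rw [eq_mul_inv_iff_mul_eq]
      refine Ctx.ga_ext ?_
      simp only [Subgroup.coe_mul, Units.val_mul, a, Ctx.ga_val, Ctx.ofSL_val, hX]
      exact hP.symm
    refine ⟨a, Ctx.ga_val _ _ _, ⟨_, E.psi_mem (ofSL P), by rw [e, map_mul, map_mul, map_inv]⟩, ?_⟩
    have hc : ofSL P * X ^ m = X ^ m * ofSL P := by
      refine Ctx.ga_ext ?_
      simp only [Subgroup.coe_mul, Units.val_mul, hm, Matrix.mul_smul, Matrix.smul_mul, Matrix.mul_one,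
        Matrix.one_mul]
    rw [e, conj_pow, hc, mul_inv_cancel_right, hm]
  obtain ⟨a, haA, ⟨k, hk, hka⟩, ham⟩ := mk A hA
  obtain ⟨b, hbB, ⟨l, hl, hlb⟩, hbm⟩ := mk B hB
  have ra := E.regular (X := a) (by rw [haA, hA.2]; exact hd1) hd1 hd0 hd ham
  have rb := E.regular (X := b) (by rw [hbB, hB.2]; exact hd1) hd1 hd0 hd hbm
  obtain ⟨y, hy, hy'⟩ := (coset_conj E.Rn (fun u hu => E.Rn_conj a hu) ra.2 hv).2
  obtain ⟨z, hz, hz'⟩ := (coset_conj E.R (fun u hu => E.R_conj b hu) rb.1 hu).1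
  refine ⟨y * k, mul_mem hy.2 hk, z * l, mul_mem hz.2 hl, ?_⟩
  have eM : M = a * b := Ctx.ga_ext (by rw [Subgroup.coe_mul, Units.val_mul, haA, hbB, hAB])
  calc v * Ctx.psi E.C M * u = (v * Ctx.psi E.C a) * (Ctx.psi E.C b * u) := by rw [eM, map_mul]; group
    _ = (y * Ctx.psi E.C a * y⁻¹) * (z * Ctx.psi E.C b * z⁻¹) := by rw [hy', hz']
    _ = _ := by rw [← hka, ← hlb]; group

/-- every element outside the parabolic is conjugate to a good element of the big cell -/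
theorem exists_good [Finite F] {d : F} (hd : d ^ q = d) (hd0 : d ≠ 0) (hd1 : d ≠ 1)
    {g : GL chevD4.Idx F} (hg : g ∈ E.C.S) (hP : g ∉ E.P) :
    ∃ k ∈ E.C.S, ∃ v ∈ E.Rn, ∃ u ∈ E.R, ∃ M : ↥(GA F q),
      Good2 d (M.1 : Matrix (Fin 2) (Fin 2) F) ∧ k * g * k⁻¹ = v * Ctx.psi E.C M * u := by
  obtain ⟨k, hk, i, p, ⟨A, r, hr, rfl⟩, e⟩ := E.exists_shape hg hP
  suffices h : ∃ y ∈ E.C.S, ∃ v ∈ E.Rn, ∃ u ∈ E.R, ∃ M : ↥(GA F q),
      Good2 d (M.1 : Matrix (Fin 2) (Fin 2) F) ∧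
        y * (Ctx.psi E.C A * r * nWord F E.C.n (core i)) * y⁻¹ = v * Ctx.psi E.C M * u by
    obtain ⟨y, hy, v, hv, u, hu, M, hM, e'⟩ := h
    refine ⟨y * k, mul_mem hy hk, v, hv, u, hu, M, hM, ?_⟩
    rw [← e', ← e]; group
  have fin' : ∀ {W : List (Fin 2)} {A D : ↥(GA F q)} {r : GL chevD4.Idx F}, E.Reach W D → r ∈ E.R →
      Good2 d ((A * D).1 : Matrix (Fin 2) (Fin 2) F) → ∃ y ∈ E.C.S, ∃ v ∈ E.Rn, ∃ u ∈ E.R, ∃ M : ↥(GA F q),
      Good2 d (M.1 : Matrix (Fin 2) (Fin 2) F) ∧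
        y * (Ctx.psi E.C A * r * nWord F E.C.n W) * y⁻¹ = v * Ctx.psi E.C M * u := by
    intro W A D r hD hr hG
    obtain ⟨y, hy, v, hv, u, hu, e⟩ := E.finish (A := A) hD hr
    exact ⟨y, hy, v, hv, u, hu, _, hG, e⟩
  have hm : (-1 : F) ^ q = -1 := by rw [E.C.neg_pow', one_pow]
  -- the parameter attached to a member of `GA`
  have cpar : ∀ A : ↥(GA F q), (d ^ 2 / (A.1 : Matrix (Fin 2) (Fin 2) F).det) ≠ 0 ∧
      (d ^ 2 / (A.1 : Matrix (Fin 2) (Fin 2) F).det) ^ q = d ^ 2 / (A.1 : Matrix (Fin 2) (Fin 2) F).det ∧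
      ((A.1 : Matrix (Fin 2) (Fin 2) F) 0 0 * (A.1 : Matrix (Fin 2) (Fin 2) F) 1 1 -
        (A.1 : Matrix (Fin 2) (Fin 2) F) 0 1 * (A.1 : Matrix (Fin 2) (Fin 2) F) 1 0) *
        (d ^ 2 / (A.1 : Matrix (Fin 2) (Fin 2) F).det) = d ^ 2 := by
    intro A
    refine ⟨div_ne_zero (pow_ne_zero 2 hd0) (Ctx.det_ne A.1), ?_, ?_⟩
    · rw [div_pow, mem_GA.1 A.2, ← pow_mul, mul_comm, pow_mul, hd]
    · rw [← Matrix.det_fin_two, mul_div_cancel₀ _ (Ctx.det_ne A.1)]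
  have diag : ∀ A : ↥(GA F q), ((2 : F) ≠ 0 ∨ (A.1 : Matrix (Fin 2) (Fin 2) F) 0 0 ≠ 0 ∨
      (A.1 : Matrix (Fin 2) (Fin 2) F) 1 1 ≠ 0) → ∃ s c : F, s ≠ 0 ∧ s ^ q = s ∧ c ≠ 0 ∧ c ^ q = c ∧
      Good2 d ((A.1 : Matrix (Fin 2) (Fin 2) F) * !![s, 0; 0, c]) := by
    intro A h
    obtain ⟨hc, hcq, hdet⟩ := cpar A
    obtain ⟨s, hs, hsq, hG⟩ := select_diag hm hdet hd hd0 hd1 h
    refine ⟨s, _, hs, hsq, div_ne_zero hc hs, by rw [div_pow, hcq, hsq], ?_⟩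
    rw [Matrix.eta_fin_two (A.1 : Matrix (Fin 2) (Fin 2) F)]
    exact hG
  match i with
  | 0 =>
    obtain ⟨hc, hcq, hdet⟩ := cpar A
    obtain ⟨s, hG⟩ := select_zero hdet hd0
    set c := d ^ 2 / (A.1 : Matrix (Fin 2) (Fin 2) F).det
    have hD : (!![-s, 1; -c, 0] : Matrix (Fin 2) (Fin 2) F).det = c := by simp [Matrix.det_fin_two]
    refine fin' (E.reach_zero hc hcq s (Ctx.ga !![-s, 1; -c, 0] (by rw [hD]; exact hc) (by rw [hD, hcq]))
      (Ctx.ga_val _ _ _)) hr ?_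
    rw [Subgroup.coe_mul, Units.val_mul, Ctx.ga_val, Matrix.eta_fin_two (A.1 : Matrix (Fin 2) (Fin 2) F)]
    exact hG
  | 1 =>
    by_cases h : (2 : F) ≠ 0 ∨ (A.1 : Matrix (Fin 2) (Fin 2) F) 0 0 ≠ 0 ∨
      (A.1 : Matrix (Fin 2) (Fin 2) F) 1 1 ≠ 0
    · obtain ⟨s, c, hs, hsq, hc, hcq, hG⟩ := diag A h
      refine fin' (E.reach_of_low (E.reach_one hs hsq hc hcq)) hr ?_
      simp only [Subgroup.coe_mul, Units.val_mul, d1, d2, Ctx.ga_val]
      have e2 : (!![1, 0; 0, c] * !![s, 0; 0, 1] : Matrix (Fin 2) (Fin 2) F) = !![s, 0; 0, c] := by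
        ext i j
        fin_cases i <;> fin_cases j <;> simp [Matrix.mul_apply, Fin.sum_univ_two]
      rw [e2]
      exact hG
    · push Not at h
      obtain ⟨h2, ha, hf⟩ := h
      obtain ⟨hc, hcq, hdet⟩ := cpar A
      set c := d ^ 2 / (A.1 : Matrix (Fin 2) (Fin 2) F).det
      have hb : (A.1 : Matrix (Fin 2) (Fin 2) F) 0 1 ≠ 0 := fun hb =>
        pow_ne_zero 2 hd0 (by rw [← hdet, ha, hb]; ring)
      refine fin' (E.reach_low (E.reach_one (one_ne_zero (α := F)) (one_pow q) hc hcq) h2 1) hr ?_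
      simp only [Subgroup.coe_mul, Units.val_mul, d1, d2, Ctx.ga_val, ofSL_slL_val]
      refine ⟨?_, Or.inr ⟨?_, ?_⟩⟩
      · simp only [Matrix.det_mul]
        simp [Matrix.det_fin_two]
        linear_combination hdet
      · rw [h2, zero_mul]
        simpa [Matrix.trace_fin_two, Matrix.mul_apply, Fin.sum_univ_two, ha, hf] using hb
      · simp [Matrix.mul_apply, Fin.sum_univ_two, ha, hf, hb, hc]
  | 2 =>
    have two : ∀ (A : ↥(GA F q)) (r : GL chevD4.Idx F), r ∈ E.R →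
        ((2 : F) ≠ 0 ∨ (A.1 : Matrix (Fin 2) (Fin 2) F) 0 0 ≠ 0 ∨
          (A.1 : Matrix (Fin 2) (Fin 2) F) 1 1 ≠ 0) →
        ∃ y ∈ E.C.S, ∃ v ∈ E.Rn, ∃ u ∈ E.R, ∃ M : ↥(GA F q),
        Good2 d (M.1 : Matrix (Fin 2) (Fin 2) F) ∧
          y * (Ctx.psi E.C A * r * nWord F E.C.n (core 2)) * y⁻¹ = v * Ctx.psi E.C M * u := by
      intro A r hr h
      obtain ⟨s, c, hs, hsq, hc, hcq, hG⟩ := diag A h
      have hD : (!![s, 0; 0, c] : Matrix (Fin 2) (Fin 2) F).det = s * c := by simp [Matrix.det_fin_two]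
      refine fin' (D := Ctx.ga !![s, 0; 0, c] (by rw [hD]; exact mul_ne_zero hs hc)
        (by rw [hD, mul_pow, hsq, hcq])) ?_ hr (by rw [Subgroup.coe_mul, Units.val_mul, Ctx.ga_val]; exact hG)
      by_cases hsum : s + c = 0
      · exact E.reach_two_sing hs hsq _ (by rw [Ctx.ga_val, eq_neg_of_add_eq_zero_right hsum])
      · exact E.reach_two (r := 1) hs hsq hsum (by rw [E.C.add, hsq, hcq]) one_ne_zero (one_pow q)
          (by rwa [mul_one, add_sub_cancel_left]) _ (by rw [Ctx.ga_val, mul_one, add_sub_cancel_left])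
    by_cases h : (2 : F) ≠ 0 ∨ (A.1 : Matrix (Fin 2) (Fin 2) F) 0 0 ≠ 0 ∨
      (A.1 : Matrix (Fin 2) (Fin 2) F) 1 1 ≠ 0
    · exact two A r hr h
    · push Not at h
      obtain ⟨h2, ha, hf⟩ := h
      obtain ⟨hc, hcq, hdet⟩ := cpar A
      have he : (A.1 : Matrix (Fin 2) (Fin 2) F) 1 0 ≠ 0 := fun he =>
        pow_ne_zero 2 hd0 (by rw [← hdet, ha, he]; ring)
      obtain ⟨z, hz, k', hk', r', hr', e'⟩ := E.twist A hr 1
      have h' : (2 : F) ≠ 0 ∨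
          ((ofSL (slU 1) * A * ofSL (slU (-(z * 1))) : ↥(GA F q)).1 : Matrix (Fin 2) (Fin 2) F) 0 0 ≠ 0 ∨
          ((ofSL (slU 1) * A * ofSL (slU (-(z * 1))) : ↥(GA F q)).1 : Matrix (Fin 2) (Fin 2) F) 1 1 ≠ 0 := by
        refine Or.inr (Or.inl ?_)
        simp only [Subgroup.coe_mul, Units.val_mul, ofSL_slU_val]
        rw [Matrix.eta_fin_two (A.1 : Matrix (Fin 2) (Fin 2) F)]
        simp [ha, he]
      obtain ⟨y, hy, v, hv, u, hu, M, hM, e''⟩ := two _ r' hr' h'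
      refine ⟨y * k', mul_mem hy hk', v, hv, u, hu, M, hM, ?_⟩
      rw [← e'', ← e']; group

/-- the covering by a class square -/
theorem cover [Fintype F] {p n : ℕ} [Fact p.Prime] [CharP F p] (hq : q = p ^ n) (h3 : 3 ≤ q)
    (hK : Fintype.card F = q ^ 3) :
    ∃ xx ∈ E.C.S, ¬ p ∣ orderOf xx ∧ ∀ g ∈ E.C.S, g ≠ 1 → E.IsProd xx g := by
  have hn : n ≠ 0 := fun h => by rw [h, pow_zero] at hq; omega
  have hpp : IsPrimePow q := ⟨p, n, (Nat.prime_iff.1 Fact.out), Nat.pos_of_ne_zero hn, hq.symm⟩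
  obtain ⟨d, hd, hd0, hd1⟩ := exists_fixed_ne_one h3 hK
  obtain ⟨t, ht, ht0, hirr⟩ := exists_trace E.C.add E.C.per hd hd0 hd1
  let X : ↥(GA F q) := Ctx.ga (compM t d) (by rw [(inCls_compM t d).2]; exact hd0)
    (by rw [(inCls_compM t d).2, hd])
  have hX : (X.1 : Matrix (Fin 2) (Fin 2) F) = compM t d := Ctx.ga_val _ _ _
  have hm : ((X ^ (q + 1)).1 : Matrix (Fin 2) (Fin 2) F) = d • 1 := by
    rw [SubmonoidClass.coe_pow, Units.val_pow_eq_pow_val, hX]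
    exact compM_pow hq hK ht hd hirr
  refine ⟨Ctx.psi E.C X, E.psi_mem X, ?_, ?_⟩
  · intro hp
    have h1 : X ^ ((q + 1) * (q - 1)) = 1 := by
      refine Ctx.ga_ext ?_
      rw [pow_mul, SubmonoidClass.coe_pow, Units.val_pow_eq_pow_val, hm, smul_pow, one_pow]
      have : d ^ (q - 1) = 1 := by
        apply mul_left_cancel₀ hd0
        rw [← pow_succ', Nat.sub_add_cancel (by omega), hd, mul_one]
      rw [this, one_smul]
      rfl
    have h2 : p ∣ (q + 1) * (q - 1) :=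
      hp.trans (orderOf_dvd_of_pow_eq_one (by rw [← map_pow, h1, map_one]))
    have hpq : p ∣ q := hq ▸ dvd_pow_self p hn
    have hp' : p.Prime := Fact.out
    rcases (hp'.dvd_mul).1 h2 with h | h
    · exact hp'.ne_one (Nat.dvd_one.1 ((Nat.dvd_add_right hpq).1 h))
    · exact hp'.ne_one (Nat.dvd_one.1 ((Nat.dvd_add_right h).1
        (by rwa [Nat.sub_add_cancel (by omega)])))
  · intro g hg h1
    obtain ⟨k, hk, hkP⟩ := E.exists_conj_notMem hpp hK hg h1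
    have hkg : k * g * k⁻¹ ∈ E.C.S := mul_mem (mul_mem hk hg) (inv_mem hk)
    obtain ⟨l, hl, v, hv, u, hu, M, hM, e⟩ := E.exists_good hd hd0 hd1 hkg hkP
    refine E.isProd_conj hk (E.isProd_conj hl ?_)
    rw [e]
    exact E.good_prod X hX hd hd0 hd1 ht0 hirr hm M hM hv hu

end Setup

end Cfsg.Agent.Cover3D4
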