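/-
The parabolic of `³D₄(2)` with Levi subgroup `S₃ × C₇`: its elements and radicals (helper97).
-/
import Cfsg.Agent.Cover3D4.Main

set_option autoImplicit false

namespace Cfsg.Agent.Cover3D4

open Cfsg.Lie Cfsg.Agent.ChevCore Cfsg.Agent.D4SubMax Cfsg.Agent.Chev54

variable {F : Type*} [Field F]

local notation "x" => xg chevD4 F

/-- the positive roots of the radical -/
def rad2 : List ℕ := [12, 13, 15, 16, 17, 18, 19, 20, 21, 22, 23]

/-- the negative roots of the opposite radical -/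
def neg2 : List ℕ := [0, 1, 2, 3, 4, 5, 6, 7, 8, 10, 11]

/-- the radical roots -/
def Tp2 : Set ℕ := {r | r ∈ rad2}

/-- the opposite radical roots -/
def Tn2 : Set ℕ := {r | r ∈ neg2}

/-- the two long roots at the top -/
def Tz : Set ℕ := {r | r ∈ [22, 23]}

theorem lt_rad2 {r : ℕ} (h : r ∈ rad2) : r < 24 := (show ∀ r ∈ rad2, r < 24 by decide) r h

theorem lt_neg2 {r : ℕ} (h : r ∈ neg2) : r < 24 := (show ∀ r ∈ neg2, r < 24 by decide) r h

/-- the exponent of the central torus on a root -/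
def ex2 (r : ℕ) : ℤ := chevD4.pairing 18 r + 2 * chevD4.pairing 13 r + 4 * chevD4.pairing 12 r

/-- the element of order three of the Levi subgroup -/
noncomputable def cc : GL chevD4.Idx F := x 14 1 * x 9 1

/-- the lower long root element -/
noncomputable def bb : GL chevD4.Idx F := x 9 1

/-- the upper long root element -/
noncomputable def aa : GL chevD4.Idx F := x 14 1

namespace Setup

variable (E : Setup F 2)

theorem two_zero (E : Setup F 2) : (2 : F) = 0 := by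
  have h := E.C.add 1 1
  simp only [one_pow] at h
  linear_combination h

theorem neg_id (E : Setup F 2) (t : F) : -t = t := by linear_combination (-t) * E.two_zero

theorem eq_one_of_fix {e : F} (he : e ≠ 0) (h : e ^ 2 = e) : e = 1 :=
  mul_left_cancel₀ he (by rw [mul_one]; linear_combination h)

theorem fix01 {e : F} (h : e ^ 2 = e) : e = 0 ∨ e = 1 := by
  rcases eq_or_ne e 0 with h0 | h0
  · exact Or.inl h0
  · exact Or.inr (eq_one_of_fix h0 h)

theorem nconj (k : Fin 2) {r : ℕ} (hr : r < 24) (t : F) :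
    E.C.n k * x r t * (E.C.n k)⁻¹ = x (wref k r) t := by
  obtain ⟨e, he, heq, h⟩ := E.C.n_conj k r hr
  rw [h, eq_one_of_fix he heq, one_mul]

theorem nWconj (W : List (Fin 2)) {r : ℕ} (hr : r < 24) (t : F) :
    nWord F E.C.n W * x r t * (nWord F E.C.n W)⁻¹ = x (wact W r) t := by
  obtain ⟨e, he, heq, h⟩ := E.C.nW_conj W hr
  rw [h, eq_one_of_fix he heq, one_mul]

theorem inv_x (E : Setup F 2) (r : ℕ) (t : F) : (x r t)⁻¹ = x r t := by rw [goodG.xg_inv, E.neg_id]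

theorem sq_x (E : Setup F 2) (r : ℕ) (t : F) : x r t * x r t = 1 := by
  conv_lhs => arg 1; rw [← E.inv_x]
  rw [inv_mul_cancel]

theorem n0_word : E.C.n 0 = aa * bb * aa := by
  rw [E.n0_eq, ng, inv_one, E.neg_id]
  rfl

theorem n0_sq : E.C.n 0 * E.C.n 0 = 1 := by
  rw [E.n0_word]
  calc (aa * bb * aa : GL chevD4.Idx F) * (aa * bb * aa) = aa * bb * (aa * aa) * bb * aa := by group
    _ = aa * (bb * bb) * aa := by rw [show (aa * aa : GL chevD4.Idx F) = 1 from E.sq_x 14 1]; group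
    _ = 1 := by rw [show (bb * bb : GL chevD4.Idx F) = 1 from E.sq_x 9 1, mul_one]; exact E.sq_x 14 1

theorem n1_sq : E.C.n 1 * E.C.n 1 = 1 := by
  have e : (pn slU slL (1 : F) * pn slU slL 1 : Matrix.SpecialLinearGroup (Fin 2) F) = 1 := by
    refine Subtype.ext ?_
    simp only [Matrix.SpecialLinearGroup.coe_mul, Matrix.SpecialLinearGroup.coe_one,
      pn_sl (one_ne_zero (α := F))]
    ext i j
    fin_cases i <;> fin_cases j <;> simp [Matrix.mul_apply, Fin.sum_univ_two, E.neg_id]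
  rw [← E.phiA_w_eq, ← map_mul, e, map_one]

theorem inv_n (k : Fin 2) : (E.C.n k)⁻¹ = E.C.n k := by
  match k with
  | 0 => exact inv_eq_of_mul_eq_one_right E.n0_sq
  | 1 => exact inv_eq_of_mul_eq_one_right E.n1_sq

theorem cc_cube (E : Setup F 2) : (cc * cc * cc : GL chevD4.Idx F) = 1 := by
  have h : E.C.n 0 * x 9 1 * (E.C.n 0)⁻¹ = x 14 1 := E.nconj 0 (by norm_num) 1
  rw [E.inv_n, E.n0_word] at h
  change aa * bb * aa * bb * (aa * bb * aa) = aa at h
  calc (cc * cc * cc : GL chevD4.Idx F) = aa * bb * (aa * bb) * (aa * bb) := rfl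
    _ = (aa * bb * aa * bb * (aa * bb * aa)) * aa⁻¹ := by group
    _ = 1 := by rw [h, mul_inv_cancel]

theorem aa_cc (E : Setup F 2) : (aa * cc : GL chevD4.Idx F) = cc * cc * aa := by
  have hb : (bb : GL chevD4.Idx F)⁻¹ = bb := E.inv_x 9 1
  have ha : (aa : GL chevD4.Idx F)⁻¹ = aa := E.inv_x 14 1
  have e : (cc * cc : GL chevD4.Idx F) = cc⁻¹ := eq_inv_of_mul_eq_one_left (Setup.cc_cube E)
  rw [e, show (cc : GL chevD4.Idx F) = aa * bb from rfl, mul_inv_rev, hb, ha, mul_assoc bb aa aa,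
    show (aa * aa : GL chevD4.Idx F) = 1 from E.sq_x 14 1, mul_one, ← mul_assoc,
    show (aa * aa : GL chevD4.Idx F) = 1 from E.sq_x 14 1, one_mul]

theorem bb_eq (E : Setup F 2) : (bb : GL chevD4.Idx F) = cc * cc * aa := by
  rw [← E.aa_cc, show (cc : GL chevD4.Idx F) = aa * bb from rfl, ← mul_assoc,
    show (aa * aa : GL chevD4.Idx F) = 1 from E.sq_x 14 1, one_mul]

/-- the central torus of the Levi subgroup -/
noncomputable def H (η : F) : GL chevD4.Idx F := Ctx.phiA E.C (ph slU slL η)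

theorem H_mem (η : F) : E.H η ∈ E.C.S := by
  rw [H, ← Ctx.psi_ofSL]; exact E.psi_mem _

theorem H_one : E.H 1 = 1 := by
  have e : (ph slU slL (1 : F) : Matrix.SpecialLinearGroup (Fin 2) F) = 1 := by
    refine Subtype.ext ?_
    rw [ph_sl (one_ne_zero (α := F)), inv_one]
    exact Matrix.one_fin_two.symm
  rw [H, e, map_one]

theorem H_mul {a b : F} (ha : a ≠ 0) (hb : b ≠ 0) : E.H a * E.H b = E.H (a * b) := by
  rw [H, H, H, ← map_mul]
  congr 1
  refine Subtype.ext ?_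
  simp only [Matrix.SpecialLinearGroup.coe_mul, ph_sl ha, ph_sl hb, ph_sl (mul_ne_zero ha hb)]
  ext i j
  fin_cases i <;> fin_cases j <;> simp [Matrix.mul_apply, Fin.sum_univ_two, mul_inv, mul_comm]

theorem H_inv {a : F} (ha : a ≠ 0) : (E.H a)⁻¹ = E.H a⁻¹ :=
  inv_eq_of_mul_eq_one_right (by rw [E.H_mul ha (inv_ne_zero ha), mul_inv_cancel₀ ha, H_one])

theorem H_scale {η : F} (hη : η ≠ 0) {r : ℕ} (hr : r < 24) (t : F) :
    E.H η * x r t * (E.H η)⁻¹ = x r (η ^ ex2 r * t) := by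
  rw [H, Ctx.phiA_h]
  have h := fun (i : ℕ) (hi : i < 24) (a : F) (ha : a ≠ 0) (u : F) =>
    goodG.hg_conj_x (F := F) (r := i) (s := r) (by simpa [nroots_eq] using hi) hr ha u
  calc hg chevD4 F 18 η * hg chevD4 F 13 (η ^ 2) * hg chevD4 F 12 (η ^ (2 ^ 2)) * x r t *
        (hg chevD4 F 18 η * hg chevD4 F 13 (η ^ 2) * hg chevD4 F 12 (η ^ (2 ^ 2)))⁻¹ =
        hg chevD4 F 18 η * (hg chevD4 F 13 (η ^ 2) * (hg chevD4 F 12 (η ^ (2 ^ 2)) * x r t *
          (hg chevD4 F 12 (η ^ (2 ^ 2)))⁻¹) * (hg chevD4 F 13 (η ^ 2))⁻¹) * (hg chevD4 F 18 η)⁻¹ := by group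
    _ = _ := by
      rw [h 12 (by norm_num) _ (pow_ne_zero _ hη), h 13 (by norm_num) _ (pow_ne_zero _ hη),
        h 18 (by norm_num) _ hη]
      congr 1
      rw [ex2, zpow_add₀ hη, zpow_add₀ hη, _root_.zpow_mul, _root_.zpow_mul,
        show (η : F) ^ (2 : ℤ) = η ^ (2 : ℕ) from zpow_natCast η 2,
        show (η : F) ^ (4 : ℤ) = η ^ (4 : ℕ) from zpow_natCast η 4]
      norm_num
      ring

theorem pow_seven (E : Setup F 2) {η : F} (hη : η ≠ 0) : η ^ (7 : ℤ) = 1 := by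
  have h := E.C.per η
  rw [show (2 : ℕ) ^ 3 = 7 + 1 from rfl, pow_succ] at h
  rw [show (η : F) ^ (7 : ℤ) = η ^ (7 : ℕ) from zpow_natCast η 7]
  exact mul_right_cancel₀ hη (by rw [h, one_mul])

theorem H_comm14 {η : F} (hη : η ≠ 0) {r : ℕ} (hr : r = 14 ∨ r = 9) (t : F) :
    E.H η * x r t = x r t * E.H η := by
  have hr' : r < 24 := by rcases hr with rfl | rfl <;> norm_num
  rw [← mul_inv_eq_iff_eq_mul, E.H_scale hη hr']
  have key : ex2 14 = -7 ∧ ex2 9 = 7 := by decide +kernel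
  rcases hr with rfl | rfl
  · rw [key.1, zpow_neg, E.pow_seven hη, inv_one, one_mul]
  · rw [key.2, E.pow_seven hη, one_mul]

theorem H_aa {η : F} (hη : η ≠ 0) : E.H η * aa = aa * E.H η := E.H_comm14 hη (Or.inl rfl) 1

theorem H_bb {η : F} (hη : η ≠ 0) : E.H η * bb = bb * E.H η := E.H_comm14 hη (Or.inr rfl) 1

theorem H_cc {η : F} (hη : η ≠ 0) : Commute (E.H η) cc :=
  Commute.mul_right (E.H_aa hη) (E.H_bb hη)

theorem H_n0 {η : F} (hη : η ≠ 0) : Commute (E.H η) (E.C.n 0) := by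
  rw [E.n0_word]
  exact Commute.mul_right (Commute.mul_right (E.H_aa hη) (E.H_bb hη)) (E.H_aa hη)

theorem n1_H {η : F} (hη : η ≠ 0) : E.C.n 1 * E.H η = E.H η⁻¹ * E.C.n 1 := by
  rw [← E.phiA_w_eq, H, H, ← map_mul, ← map_mul]
  congr 1
  refine Subtype.ext ?_
  simp only [Matrix.SpecialLinearGroup.coe_mul, ph_sl hη, ph_sl (inv_ne_zero hη),
    pn_sl (one_ne_zero (α := F))]
  ext i j
  fin_cases i <;> fin_cases j <;> simp [Matrix.mul_apply, Fin.sum_univ_two]

theorem aa_mem : (aa : GL chevD4.Idx F) ∈ E.C.S := E.C.xg_mem 14 (by simp) (one_pow 2)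

theorem bb_mem : (bb : GL chevD4.Idx F) ∈ E.C.S := by
  have h := mul_mem (mul_mem (E.C.n_mem 0) E.aa_mem) (inv_mem (E.C.n_mem 0))
  rwa [aa, E.nconj 0 (by norm_num)] at h

theorem cc_mem : (cc : GL chevD4.Idx F) ∈ E.C.S := mul_mem E.aa_mem E.bb_mem

/-- the members of the Levi subgroup -/
def InL (g : GL chevD4.Idx F) : Prop := ∃ i j : ℕ, ∃ η : F, η ≠ 0 ∧ g = cc ^ i * aa ^ j * E.H η

theorem aa_pow_cc (E : Setup F 2) (j k : ℕ) : (aa : GL chevD4.Idx F) ^ j * cc ^ k = cc ^ (2 ^ j * k) * aa ^ j := by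
  have step : ∀ k : ℕ, (aa : GL chevD4.Idx F) * cc ^ k = cc ^ (2 * k) * aa := by
    intro k
    have h : SemiconjBy (aa : GL chevD4.Idx F) cc (cc * cc) := E.aa_cc
    rw [(h.pow_right k).eq, pow_mul, pow_two]
  induction j generalizing k with
  | zero => simp
  | succ j ih =>
    rw [pow_succ, mul_assoc, step, ← mul_assoc, ih, mul_assoc, pow_succ 2 j, mul_assoc (2 ^ j) 2 k]

theorem L_form_mul (i j : ℕ) {η : F} (hη : η ≠ 0) (k l : ℕ) {μ : F} (hμ : μ ≠ 0) :
    cc ^ i * aa ^ j * E.H η * (cc ^ k * aa ^ l * E.H μ) =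
      cc ^ (i + 2 ^ j * k) * aa ^ (j + l) * E.H (η * μ) := by
  have h1 : Commute (E.H η) (cc ^ k * aa ^ l) :=
    Commute.mul_right ((E.H_cc hη).pow_right k) (Commute.pow_right (E.H_aa hη) l)
  calc _ = cc ^ i * aa ^ j * (E.H η * (cc ^ k * aa ^ l)) * E.H μ := by group
    _ = cc ^ i * (aa ^ j * cc ^ k) * aa ^ l * (E.H η * E.H μ) := by rw [h1.eq]; group
    _ = _ := by rw [E.aa_pow_cc, E.H_mul hη hμ, pow_add, pow_add]; group

theorem inL_mul {g h : GL chevD4.Idx F} (hg : E.InL g) (hh : E.InL h) : E.InL (g * h) := by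
  obtain ⟨i, j, η, hη, rfl⟩ := hg
  obtain ⟨k, l, μ, hμ, rfl⟩ := hh
  exact ⟨_, _, _, mul_ne_zero hη hμ, E.L_form_mul i j hη k l hμ⟩

theorem inL_H {η : F} (hη : η ≠ 0) : E.InL (E.H η) := ⟨0, 0, η, hη, by simp⟩

theorem inL_cc (i : ℕ) : E.InL (cc ^ i) := ⟨i, 0, 1, one_ne_zero, by simp [H_one]⟩

theorem inL_aa (j : ℕ) : E.InL (aa ^ j) := ⟨0, j, 1, one_ne_zero, by simp [H_one]⟩

theorem inL_inv {g : GL chevD4.Idx F} (hg : E.InL g) : E.InL g⁻¹ := by
  obtain ⟨i, j, η, hη, rfl⟩ := hg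
  have ha : ((aa : GL chevD4.Idx F) ^ j)⁻¹ = aa ^ j := by
    rw [← inv_pow]; congr 1; exact E.inv_x 14 1
  have hc : ((cc : GL chevD4.Idx F) ^ i)⁻¹ = cc ^ (2 * i) := by
    rw [← inv_pow, pow_mul, pow_two, eq_inv_of_mul_eq_one_left (Setup.cc_cube E)]
  rw [mul_inv_rev, mul_inv_rev, E.H_inv hη, ha, hc]
  exact E.inL_mul (E.inL_H (inv_ne_zero hη)) (E.inL_mul (E.inL_aa j) (E.inL_cc _))

theorem inL_mem {g : GL chevD4.Idx F} (hg : E.InL g) : g ∈ E.C.S := by
  obtain ⟨i, j, η, hη, rfl⟩ := hg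
  exact mul_mem (mul_mem (pow_mem E.cc_mem i) (pow_mem E.aa_mem j)) (E.H_mem η)

/-- the radical -/
noncomputable def R2 : Subgroup (GL chevD4.Idx F) := XS chevD4 F Tp2 ⊓ E.C.S

/-- the opposite radical -/
noncomputable def Rn2 : Subgroup (GL chevD4.Idx F) := XS chevD4 F Tn2 ⊓ E.C.S

/-- the three normalised sets of roots -/
def IsT (T : Set ℕ) : Prop := T = Tp2 ∨ T = Tn2 ∨ T = Tz

theorem root_norm {r : ℕ} (hr : r = 14 ∨ r = 9) {T : Set ℕ} (hT : IsT T) (t : F)
    {y : GL chevD4.Idx F} (hy : y ∈ XS chevD4 F T) : x r t * y * (x r t)⁻¹ ∈ XS chevD4 F T := by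
  have key : ∀ L : List ℕ, (L = rad2 ∨ L = neg2 ∨ L = [22, 23]) → ∀ r : ℕ, (r = 14 ∨ r = 9) → ∀ s ∈ L,
      s < 24 ∧ r ≠ s ∧ r ≠ chevD4.neg s ∧ ∀ p ∈ chevD4.commTerms s r, p.1 < 24 ∧ p.1 ∈ L := by
    intro L hL r hr
    rcases hL with rfl | rfl | rfl <;> rcases hr with rfl | rfl <;> decide +kernel
  refine conj_XS (fun s hs hsT u => ?_) hy
  rcases hT with rfl | rfl | rfl
  · obtain ⟨-, h2, h3, h4⟩ := key rad2 (Or.inl rfl) r hr s hsT
    exact conj_root hs (by rcases hr with rfl | rfl <;> norm_num) h2 h3 hsT h4 t u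
  · obtain ⟨-, h2, h3, h4⟩ := key neg2 (Or.inr (Or.inl rfl)) r hr s hsT
    exact conj_root hs (by rcases hr with rfl | rfl <;> norm_num) h2 h3 hsT h4 t u
  · obtain ⟨-, h2, h3, h4⟩ := key [22, 23] (Or.inr (Or.inr rfl)) r hr s hsT
    exact conj_root hs (by rcases hr with rfl | rfl <;> norm_num) h2 h3 hsT h4 t u

theorem inL_norm {g : GL chevD4.Idx F} (hg : E.InL g) {T : Set ℕ} (hT : IsT T)
    {y : GL chevD4.Idx F} (hy : y ∈ XS chevD4 F T) : g * y * g⁻¹ ∈ XS chevD4 F T := by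
  obtain ⟨i, j, η, hη, rfl⟩ := hg
  have hH : E.H η * y * (E.H η)⁻¹ ∈ XS chevD4 F T :=
    conj_XS (fun s hs hsT u => by rw [E.H_scale hη hs]; exact xg_mem_XS hs hsT _) hy
  have hA : ∀ n : ℕ, ∀ z ∈ XS chevD4 F T, aa ^ n * z * (aa ^ n)⁻¹ ∈ XS chevD4 F T := by
    intro n
    induction n with
    | zero => intro z hz; simpa using hz
    | succ n ih =>
      intro z hz
      have := root_norm (F := F) (r := 14) (Or.inl rfl) hT 1 (ih z hz)
      rw [pow_succ']
      convert this using 1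
      rw [show (x 14 1 : GL chevD4.Idx F) = aa from rfl]; group
  have hC : ∀ n : ℕ, ∀ z ∈ XS chevD4 F T, cc ^ n * z * (cc ^ n)⁻¹ ∈ XS chevD4 F T := by
    intro n
    induction n with
    | zero => intro z hz; simpa using hz
    | succ n ih =>
      intro z hz
      have := root_norm (F := F) (r := 14) (Or.inl rfl) hT 1
        (root_norm (F := F) (r := 9) (Or.inr rfl) hT 1 (ih z hz))
      rw [pow_succ']
      convert this using 1
      generalize (cc : GL chevD4.Idx F) ^ n = P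
      rw [show (cc : GL chevD4.Idx F) = x 14 1 * x 9 1 from rfl]; group
  have := hC i _ (hA j _ hH)
  convert this using 1
  group

theorem R2_conj {g : GL chevD4.Idx F} (hg : E.InL g) {y : GL chevD4.Idx F} (hy : y ∈ E.R2) :
    g * y * g⁻¹ ∈ E.R2 :=
  Subgroup.mem_inf.2 ⟨E.inL_norm hg (Or.inl rfl) hy.1, mul_mem (mul_mem (E.inL_mem hg) hy.2) (inv_mem (E.inL_mem hg))⟩

theorem Rn2_conj {g : GL chevD4.Idx F} (hg : E.InL g) {y : GL chevD4.Idx F} (hy : y ∈ E.Rn2) :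
    g * y * g⁻¹ ∈ E.Rn2 :=
  Subgroup.mem_inf.2 ⟨E.inL_norm hg (Or.inr (Or.inl rfl)) hy.1,
    mul_mem (mul_mem (E.inL_mem hg) hy.2) (inv_mem (E.inL_mem hg))⟩

theorem R2_conj_inv {g : GL chevD4.Idx F} (hg : E.InL g) {y : GL chevD4.Idx F} (hy : y ∈ E.R2) :
    g⁻¹ * y * g ∈ E.R2 := by
  have := E.R2_conj (E.inL_inv hg) hy
  rwa [inv_inv] at this

theorem zpow_ne_one (E : Setup F 2) {η : F} (hη : η ≠ 0) (h1 : η ≠ 1) {e : ℤ} (he : e % 7 ≠ 0) :
    η ^ e ≠ 1 := by
  intro h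
  have h7 := E.pow_seven hη
  obtain ⟨k, m, hkm⟩ : ∃ k m : ℤ, e * k = 1 + 7 * m := by
    have hlo : 0 ≤ e % 7 := Int.emod_nonneg _ (by norm_num)
    have hhi : e % 7 < 7 := Int.emod_lt_of_pos _ (by norm_num)
    have key : ∀ r : Fin 7, r.val ≠ 0 → ∃ k : Fin 7, (r.val * k.val) % 7 = 1 := by decide +kernel
    obtain ⟨k, hk⟩ := key ⟨(e % 7).toNat, by omega⟩ (by simp only; omega)
    simp only at hk
    refine ⟨k.val, (e / 7) * k.val + (((e % 7).toNat * k.val) / 7 : ℕ), ?_⟩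
    have h1 : e % 7 + 7 * (e / 7) = e := by omega
    have h2 := Nat.div_add_mod ((e % 7).toNat * k.val) 7
    rw [hk] at h2
    have h3 : ((e % 7).toNat : ℤ) = e % 7 := Int.toNat_of_nonneg hlo
    have h2' : (7 : ℤ) * (((e % 7).toNat * k.val / 7 : ℕ) : ℤ) + 1 = (e % 7) * (k.val : ℤ) := by
      rw [← h3]; exact_mod_cast h2
    nlinarith [h1, h2']
  refine h1 ?_
  have := congrArg (fun a : F => a ^ k) h
  simp only [_root_.one_zpow, ← _root_.zpow_mul, hkm, zpow_add₀ hη, _root_.zpow_mul η 7, h7, mul_one, zpow_one] at this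
  simpa using this

theorem vec14 {y : GL chevD4.Idx F} (hy : y ∈ XS chevD4 F Tp2) : ∀ d, Vec 1 y d → d 14 = 0 := by
  have hTp : ∀ r ∈ rad2, 1 ≤ ht chevD4 r := by decide +kernel
  induction hy using Subgroup.closure_induction with
  | mem z hz =>
    obtain ⟨r, t, hr, hT, rfl⟩ := hz
    intro d hd
    have h14 : ∀ r ∈ rad2, r ≠ 14 := by decide
    by_cases hr1 : ht chevD4 r = 1
    · rw [hd.unique good le_rfl (hr1 ▸ vec_xg good (D := chevD4) (by rw [nroots_eq]; exact hr) (by omega) t :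
        Vec 1 (x r t) (Pi.single r t))]
      exact Pi.single_eq_of_ne (h14 r hT).symm _
    · rw [hd.unique good le_rfl (vec_of_next good (xg_mem_XS (by rw [nroots_eq]; exact hr)
        (show 2 ≤ ht chevD4 r by have := hTp r hT; omega) t))]
  | one =>
    intro d hd
    rw [hd.unique good le_rfl (vec_of_next good (one_mem _))]
  | mul a b ha hb iha ihb =>
    intro d hd
    have hm : ∀ z ∈ XS chevD4 F Tp2, z ∈ Um F 1 := fun z hz => by
      refine (Subgroup.closure_le (Um F 1)).2 ?_ hz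
      rintro _ ⟨r, t, hr, hT, rfl⟩; exact xg_mem_Um hr (hTp r hT) t
    obtain ⟨da, hda⟩ := exists_vec good le_rfl (hm a ha)
    obtain ⟨db, hdb⟩ := exists_vec good le_rfl (hm b hb)
    rw [hd.unique good le_rfl (hda.mul good le_rfl hdb), Pi.add_apply, iha da hda, ihb db hdb, add_zero]
  | inv a ha iha =>
    intro d hd
    have hm : a ∈ Um F 1 := by
      refine (Subgroup.closure_le (Um F 1)).2 ?_ ha
      rintro _ ⟨r, t, hr, hT, rfl⟩; exact xg_mem_Um hr (hTp r hT) t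
    obtain ⟨da, hda⟩ := exists_vec good le_rfl hm
    rw [hd.unique good le_rfl (hda.inv good le_rfl), Pi.neg_apply, iha da hda, neg_zero]

/-- no common fixed points of the torus and the element of order three on the radical -/
theorem regular2 {η : F} (hη : η ≠ 0) (h1 : η ≠ 1) {y : GL chevD4.Idx F} (hy : y ∈ XS chevD4 F Tp2)
    (hH : E.H η * y * (E.H η)⁻¹ = y) (hc : cc * y * cc⁻¹ = y) : y = 1 := by
  have hTp : ∀ r ∈ rad2, 1 ≤ ht chevD4 r := by decide +kernel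
  have hy1 : y ∈ Um F 1 := by
    have : XS chevD4 F Tp2 ≤ Um F 1 :=
      (Subgroup.closure_le _).2 (by
        rintro _ ⟨r, t, hr, hT, rfl⟩; exact xg_mem_Um hr (hTp r hT) t)
    exact this hy
  have hd14 := vec14 hy
  have hg := fun r (hr : r < 24) t => E.H_scale hη hr t
  have key : ∀ r : Fin 24, (ht chevD4 r.val = 1 ∨ ht chevD4 r.val = 2 ∨ ht chevD4 r.val = 3) →
      r.val = 14 ∨ ex2 r.val % 7 ≠ 0 := by decide +kernel
  have key14 : ht chevD4 14 = 1 := by decide +kernel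
  have step : ∀ r, r < 24 → (ht chevD4 r = 1 ∨ ht chevD4 r = 2 ∨ ht chevD4 r = 3) → η ^ ex2 r = 1 → r = 14 :=
    fun r hr h he => (key ⟨r, hr⟩ h).resolve_right fun h' => E.zpow_ne_one hη h1 h' he
  have hy2 : y ∈ Um F 2 := fixed_next le_rfl (by norm_num) _ hg hy1 hH fun d hd r hr hh he => by
    rw [step r hr (Or.inl hh) he]; exact hd14 d hd
  have hy3 : y ∈ Um F 3 := fixed_next (by norm_num) (by norm_num) _ hg hy2 hH fun d hd r hr hh he => by
    have := step r hr (Or.inr (Or.inl hh)) he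
    subst this; omega
  have hy4 : y ∈ Um F 4 := fixed_next (by norm_num) (by norm_num) _ hg hy3 hH fun d hd r hr hh he => by
    have := step r hr (Or.inr (Or.inr hh)) he
    subst this; omega
  have hz : ∀ s t : F, Commute (x 22 s) (x 23 t) := fun s t => comm0 (by decide +kernel) s t
  obtain ⟨s, t, rfl⟩ : ∃ s t : F, y = x 22 s * x 23 t := by
    refine Subgroup.closure_induction ?_ ?_ ?_ ?_ hy4
    · rintro _ ⟨r, u, hr, hS', rfl⟩
      have : ∀ r : Fin 24, 4 ≤ ht chevD4 r.val → r.val = 22 ∨ r.val = 23 := by decide +kernel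
      rcases this ⟨r, hr⟩ hS' with h | h
      · exact ⟨u, 0, by rw [goodG.xg_zero, mul_one]; simp only at h; rw [h]⟩
      · exact ⟨0, u, by rw [goodG.xg_zero, one_mul]; simp only at h; rw [h]⟩
    · exact ⟨0, 0, by rw [goodG.xg_zero, goodG.xg_zero, one_mul]⟩
    · rintro _ _ _ _ ⟨a, b, rfl⟩ ⟨a', b', rfl⟩
      refine ⟨a + a', b + b', ?_⟩
      rw [goodG.xg_add, goodG.xg_add, mul_assoc, ← mul_assoc (x 23 b), (hz a' b).symm.eq]
      group
    · rintro _ _ ⟨a, b, rfl⟩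
      refine ⟨-a, -b, ?_⟩
      rw [mul_inv_rev, goodG.xg_inv, goodG.xg_inv, (hz _ _).eq]
  have c9 : ∀ t u : F, x 9 u * x 23 t = x 23 t * x 9 u * x 22 (t * u) ∧ x 9 u * x 22 t = x 22 t * x 9 u ∧
      x 14 u * x 22 t = x 22 t * x 14 u * x 23 (t * u) ∧ x 14 u * x 23 t = x 23 t * x 14 u := by
    intro t u
    have one : ∀ (a b k : ℕ) (M : ℤ), (M = 1 ∨ M = -1) →
        (a < 24 ∧ b < 24 ∧ b ≠ a ∧ b ≠ chevD4.neg a ∧ chevD4.commTerms a b = [(k, M, 1, 1)]) →
        x a u * x b t = x b t * x a u * x k (t * u) := by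
      intro a b k M hM h
      rw [comm1 h u t]
      rcases hM with rfl | rfl
      · rw [Int.cast_one, one_mul, mul_comm]
      · rw [Int.cast_neg, Int.cast_one, neg_one_mul, neg_mul, E.neg_id, mul_comm]
    exact ⟨one 9 23 22 (chevD4.chainM 9 23 1) (by decide +kernel) (by decide +kernel),
      comm0 (by decide +kernel) _ _,
      one 14 22 23 (chevD4.chainM 14 22 1) (by decide +kernel) (by decide +kernel),
      comm0 (by decide +kernel) _ _⟩
  have hcy : cc * (x 22 s * x 23 t) * cc⁻¹ = x 22 (s + t) * x 23 s := by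
    rw [mul_inv_eq_iff_eq_mul, show (cc : GL chevD4.Idx F) = x 14 1 * x 9 1 from rfl]
    calc x 14 1 * x 9 1 * (x 22 s * x 23 t) = x 14 1 * (x 9 1 * x 22 s) * x 23 t := by group
      _ = x 14 1 * x 22 s * (x 9 1 * x 23 t) := by rw [(c9 s 1).2.1]; group
      _ = x 22 s * x 14 1 * x 23 s * x 23 t * x 9 1 * x 22 t := by
          rw [(c9 t 1).1, (c9 s 1).2.2.1, mul_one, mul_one]; group
      _ = x 22 s * x 14 1 * x 23 (s + t) * (x 9 1 * x 22 t) := by rw [goodG.xg_add]; group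
      _ = x 22 s * (x 14 1 * x 23 (s + t)) * x 22 t * x 9 1 := by rw [(c9 t 1).2.1]; group
      _ = x 22 s * x 23 (s + t) * (x 14 1 * x 22 t) * x 9 1 := by rw [(c9 (s + t) 1).2.2.2]; group
      _ = x 22 s * (x 23 (s + t) * x 22 t) * x 14 1 * x 23 t * x 9 1 := by
          rw [(c9 t 1).2.2.1, mul_one]; group
      _ = x 22 s * x 22 t * x 23 (s + t) * (x 14 1 * x 23 t) * x 9 1 := by rw [(hz t (s + t)).symm.eq]; group
      _ = x 22 (s + t) * (x 23 (s + t) * x 23 t) * (x 14 1 * x 9 1) := by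
          rw [(c9 t 1).2.2.2, show x 22 (s + t) = x 22 s * x 22 t from goodG.xg_add _ _ _]; group
      _ = _ := by rw [← goodG.xg_add, show s + t + t = s by linear_combination t * E.two_zero]
  rw [hcy] at hc
  have hv : ∀ a b : F, Vec 4 (x 22 a * x 23 b) (Pi.single 22 a + fun _ => 0) := fun a b =>
    ((show ht chevD4 22 = 4 by decide +kernel) ▸
      vec_xg good (D := chevD4) (by norm_num [nroots_eq]) (by decide +kernel) a : Vec 4 (x 22 a) _).mul
      good (by norm_num) (vec_of_next good (xg_mem_Um (by norm_num) (by decide +kernel) b))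
  have h4 := congrFun ((hc ▸ hv (s + t) s : Vec 4 (x 22 s * x 23 t) _).unique good (by norm_num) (hv s t)) 22
  simp at h4
  rw [h4, add_zero] at hc
  rw [h4, goodG.xg_zero, mul_one]
  have := mul_left_cancel (hc : x 22 s * x 23 s = x 22 s * x 23 0)
  rw [goodG.xg_injective (by norm_num [nroots_eq]) this, goodG.xg_zero]

end Setup

end Cfsg.Agent.Cover3D4
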