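/-
The cells of the parabolic of `³D₄(2)` and the covering by a class square (helper97).
-/
import Cfsg.Agent.Cover3D4.TwoBase

set_option autoImplicit false
set_option maxHeartbeats 400000

namespace Cfsg.Agent.Cover3D4

open Cfsg.Lie Cfsg.Agent.ChevCore Cfsg.Agent.D4SubMax Cfsg.Agent.Chev54

variable {F : Type*} [Field F]

local notation "x" => xg chevD4 F

/-- three commuting pairs with commutators -/
theorem triple {G : Type*} [Group G] {a1 a2 a3 b1 b2 b3 k1 k2 k3 : G}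
    (h11 : a1 * b1 = b1 * a1 * k1) (h22 : a2 * b2 = b2 * a2 * k2) (h33 : a3 * b3 = b3 * a3 * k3)
    (h12 : Commute a1 b2) (h13 : Commute a1 b3) (h21 : Commute a2 b1) (h23 : Commute a2 b3)
    (h31 : Commute a3 b1) (h32 : Commute a3 b2)
    (hk : ∀ k ∈ [k1, k2, k3], ∀ z ∈ [a1, a2, a3, b1, b2, b3], Commute k z) :
    a1 * a2 * a3 * (b1 * b2 * b3) = b1 * b2 * b3 * (k1 * k2 * k3) * (a1 * a2 * a3) := by
  simp only [List.mem_cons, List.not_mem_nil, or_false, forall_eq_or_imp, forall_eq] at hk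
  obtain ⟨⟨p1, p2, p3, q1, q2, q3⟩, ⟨p4, p5, p6, q4, q5, q6⟩, ⟨p7, p8, p9, q7, q8, q9⟩⟩ := hk
  calc a1 * a2 * a3 * (b1 * b2 * b3) = a1 * a2 * (a3 * b1) * (b2 * b3) := by group
    _ = a1 * (a2 * b1) * (a3 * b2) * b3 := by rw [h31.eq]; group
    _ = a1 * b1 * (a2 * b2) * (a3 * b3) := by rw [h21.eq, h32.eq]; group
    _ = b1 * (a1 * k1) * b2 * (a2 * k2) * b3 * (a3 * k3) := by rw [h11, h22, h33]; group
    _ = b1 * k1 * (a1 * b2) * k2 * (a2 * b3) * k3 * a3 := by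
        rw [← p1.eq, ← p5.eq, ← p9.eq]
        group
    _ = b1 * k1 * b2 * (a1 * k2) * b3 * (a2 * k3) * a3 := by rw [h12.eq, h23.eq]; group
    _ = b1 * k1 * b2 * k2 * (a1 * b3) * k3 * (a2 * a3) := by rw [← p4.eq, ← p8.eq]; group
    _ = b1 * k1 * b2 * k2 * b3 * (a1 * k3) * (a2 * a3) := by rw [h13.eq]; group
    _ = b1 * (k1 * b2) * (k2 * b3) * k3 * (a1 * a2 * a3) := by rw [← p7.eq]; group
    _ = b1 * b2 * (k1 * b3) * k2 * k3 * (a1 * a2 * a3) := by rw [q2.eq, q6.eq]; group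
    _ = _ := by rw [q3.eq]; group

/-- the trace to the prime field -/
def Tr (t : F) : F := t + t ^ 2 + t ^ 4

namespace Setup

variable (E : Setup F 2)

theorem Tr_fix (E : Setup F 2) (t : F) : Tr t ^ 2 = Tr t := by
  have h := E.C.per t
  simp only [Tr, E.C.add, ← pow_mul]
  norm_num at h ⊢
  rw [h]; ring

/-- the short root subgroup of the negative node -/
noncomputable def Bn (t : F) : GL chevD4.Idx F := YA 2 t

/-- the positive orbit of height two -/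
noncomputable def CP (t : F) : GL chevD4.Idx F := E.C.n 0 * XA 2 t * E.C.n 0

/-- its negative -/
noncomputable def CN (t : F) : GL chevD4.Idx F := E.C.n 0 * Bn t * E.C.n 0

theorem rank1 {β : F} (hβ : β ≠ 0) : XA 2 β * E.C.n 1 = Bn β⁻¹ * E.H β * XA 2 β⁻¹ := by
  rw [← E.phiA_w_eq, Bn, H, ← Ctx.phiA_U E.C, ← Ctx.phiA_U E.C, ← Ctx.phiA_L E.C, ← map_mul, ← map_mul,
    ← map_mul]
  congr 1
  refine Subtype.ext ?_
  simp only [Matrix.SpecialLinearGroup.coe_mul, coe_slU, coe_slL, ph_sl hβ, pn_sl (one_ne_zero (α := F))]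
  ext i j
  fin_cases i <;> fin_cases j <;> simp [Matrix.mul_apply, Fin.sum_univ_two, E.neg_id, hβ]
  linear_combination (norm := ring_nf) (-1 : F) * E.two_zero * β⁻¹

theorem rank1_one : XA 2 (1 : F) * E.C.n 1 = Bn 1 * XA 2 1 := by
  have := E.rank1 (one_ne_zero (α := F))
  rwa [inv_one, H_one, mul_one] at this

theorem middle2 {s t : F} (h : 1 + s * t ≠ 0) :
    XA 2 s * Bn t = Bn (t / (1 + s * t)) * E.H (1 + s * t) * XA 2 (s / (1 + s * t)) := by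
  rw [Bn, Bn, H, ← Ctx.phiA_U E.C, ← Ctx.phiA_U E.C, ← Ctx.phiA_L E.C, ← Ctx.phiA_L E.C, ← map_mul,
    ← map_mul, ← map_mul]
  congr 1
  refine Subtype.ext ?_
  simp only [Matrix.SpecialLinearGroup.coe_mul, coe_slU, coe_slL, ph_sl h]
  have h' : 1 + t * s ≠ 0 := by rwa [mul_comm]
  ext i j
  fin_cases i <;> fin_cases j <;> simp [Matrix.mul_apply, Fin.sum_univ_two] <;> field_simp <;> ring

theorem pair {a b k : ℕ} {M : ℤ} (E : Setup F 2)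
    (h : a < 24 ∧ b < 24 ∧ b ≠ a ∧ b ≠ chevD4.neg a ∧ chevD4.commTerms a b = [(k, M, 1, 1)])
    (hM : M = 1 ∨ M = -1) (u t : F) : x a u * x b t = x b t * x a u * x k (u * t) := by
  rw [comm1 h u t]
  rcases hM with rfl | rfl
  · rw [Int.cast_one, one_mul]
  · rw [Int.cast_neg, Int.cast_one, neg_one_mul, neg_mul, E.neg_id]

theorem conj_tri (W : List (Fin 2)) (t : F) :
    nWord F E.C.n W * XA 2 t * (nWord F E.C.n W)⁻¹ =
      x (wact W 18) t * x (wact W 13) (t ^ 2) * x (wact W 12) (t ^ (2 ^ 2)) := by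
  rw [XA, D4SubMax.Ctx.conj3, E.nWconj W (by norm_num), E.nWconj W (by norm_num), E.nWconj W (by norm_num)]

theorem CP_one : E.CP 1 = x 19 1 * x 16 1 * x 15 1 := by
  have h := E.conj_tri [0] 1
  rw [show wact [0] 18 = 19 from rfl, show wact [0] 13 = 16 from rfl, show wact [0] 12 = 15 from rfl,
    one_pow, one_pow] at h
  rw [← h, CP, show nWord F E.C.n [0] = E.C.n 0 by simp [nWord], E.inv_n]

theorem CN_eq (t : F) : E.CN t = x 4 t * x 7 (t ^ 2) * x 8 (t ^ (2 ^ 2)) := by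
  rw [CN, Bn, YA]
  conv_lhs => arg 2; rw [← E.inv_n]
  rw [D4SubMax.Ctx.conj3, E.nconj 0 (by norm_num), E.nconj 0 (by norm_num), E.nconj 0 (by norm_num)]
  rfl

theorem B_CN (t : F) : XA 2 (1 : F) * E.CN t = E.CN t * x 9 (Tr t) * XA 2 1 := by
  have one : ∀ u : F, (1 : F) * u = u := one_mul
  have p0 : x 18 (1 : F) * x 4 t = x 4 t * x 18 1 * x 9 t := by
    have h := E.pair (a := 18) (b := 4) (k := 9) (M := chevD4.chainM 18 4 1) (by decide +kernel) (by decide +kernel) (1 : F) t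
    rwa [one] at h
  have p1 : x 13 (1 : F) * x 7 (t ^ 2) = x 7 (t ^ 2) * x 13 1 * x 9 (t ^ 2) := by
    have h := E.pair (a := 13) (b := 7) (k := 9) (M := chevD4.chainM 13 7 1) (by decide +kernel) (by decide +kernel) (1 : F) (t ^ 2)
    rwa [one] at h
  have p2 : x 12 (1 : F) * x 8 (t ^ (2 ^ 2)) = x 8 (t ^ (2 ^ 2)) * x 12 1 * x 9 (t ^ (2 ^ 2)) := by
    have h := E.pair (a := 12) (b := 8) (k := 9) (M := chevD4.chainM 12 8 1) (by decide +kernel) (by decide +kernel) (1 : F) (t ^ (2 ^ 2))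
    rwa [one] at h
  have c01 : Commute (x 18 (1 : F)) (x 7 (t ^ 2)) := comm0 (r := 18) (s := 7) (by decide +kernel) _ _
  have c02 : Commute (x 18 (1 : F)) (x 8 (t ^ (2 ^ 2))) := comm0 (r := 18) (s := 8) (by decide +kernel) _ _
  have c10 : Commute (x 13 (1 : F)) (x 4 t) := comm0 (r := 13) (s := 4) (by decide +kernel) _ _
  have c12 : Commute (x 13 (1 : F)) (x 8 (t ^ (2 ^ 2))) := comm0 (r := 13) (s := 8) (by decide +kernel) _ _
  have c20 : Commute (x 12 (1 : F)) (x 4 t) := comm0 (r := 12) (s := 4) (by decide +kernel) _ _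
  have c21 : Commute (x 12 (1 : F)) (x 7 (t ^ 2)) := comm0 (r := 12) (s := 7) (by decide +kernel) _ _
  have ck : ∀ u w : F, ∀ r ∈ ([18,13,12,4,7,8] : List ℕ), Commute (x 9 u) (x r w) := by
    intro u w r hr
    have h : ∀ r ∈ ([18,13,12,4,7,8] : List ℕ), 9 < 24 ∧ r < 24 ∧ r ≠ 9 ∧ r ≠ chevD4.neg 9 ∧ chevD4.commTerms 9 r = [] := by decide +kernel
    exact comm0 (r := 9) (s := r) (h r hr) u w
  have e := triple p0 p1 p2 c01 c02 c10 c12 c20 c21 (k1 := x 9 t) (k2 := x 9 (t ^ 2)) (k3 := x 9 (t ^ (2 ^ 2))) (by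
    intro z hz w hw
    simp only [List.mem_cons, List.not_mem_nil, or_false] at hz hw
    rcases hz with rfl | rfl | rfl <;> rcases hw with rfl | rfl | rfl | rfl | rfl | rfl <;>
      exact ck _ _ _ (by simp))
  rw [← goodG.xg_add, ← goodG.xg_add] at e
  rw [E.CN_eq, XA, one_pow, one_pow, e, Tr]
  norm_num

theorem C_Bn (t : F) : E.CP 1 * Bn t = Bn t * x 14 (Tr t) * E.CP 1 := by
  have one : ∀ u : F, (1 : F) * u = u := one_mul
  have p0 : x 19 (1 : F) * x 5 t = x 5 t * x 19 1 * x 14 t := by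
    have h := E.pair (a := 19) (b := 5) (k := 14) (M := chevD4.chainM 19 5 1) (by decide +kernel) (by decide +kernel) (1 : F) t
    rwa [one] at h
  have p1 : x 16 (1 : F) * x 10 (t ^ 2) = x 10 (t ^ 2) * x 16 1 * x 14 (t ^ 2) := by
    have h := E.pair (a := 16) (b := 10) (k := 14) (M := chevD4.chainM 16 10 1) (by decide +kernel) (by decide +kernel) (1 : F) (t ^ 2)
    rwa [one] at h
  have p2 : x 15 (1 : F) * x 11 (t ^ (2 ^ 2)) = x 11 (t ^ (2 ^ 2)) * x 15 1 * x 14 (t ^ (2 ^ 2)) := by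
    have h := E.pair (a := 15) (b := 11) (k := 14) (M := chevD4.chainM 15 11 1) (by decide +kernel) (by decide +kernel) (1 : F) (t ^ (2 ^ 2))
    rwa [one] at h
  have c01 : Commute (x 19 (1 : F)) (x 10 (t ^ 2)) := comm0 (r := 19) (s := 10) (by decide +kernel) _ _
  have c02 : Commute (x 19 (1 : F)) (x 11 (t ^ (2 ^ 2))) := comm0 (r := 19) (s := 11) (by decide +kernel) _ _
  have c10 : Commute (x 16 (1 : F)) (x 5 t) := comm0 (r := 16) (s := 5) (by decide +kernel) _ _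
  have c12 : Commute (x 16 (1 : F)) (x 11 (t ^ (2 ^ 2))) := comm0 (r := 16) (s := 11) (by decide +kernel) _ _
  have c20 : Commute (x 15 (1 : F)) (x 5 t) := comm0 (r := 15) (s := 5) (by decide +kernel) _ _
  have c21 : Commute (x 15 (1 : F)) (x 10 (t ^ 2)) := comm0 (r := 15) (s := 10) (by decide +kernel) _ _
  have ck : ∀ u w : F, ∀ r ∈ ([19,16,15,5,10,11] : List ℕ), Commute (x 14 u) (x r w) := by
    intro u w r hr
    have h : ∀ r ∈ ([19,16,15,5,10,11] : List ℕ), 14 < 24 ∧ r < 24 ∧ r ≠ 14 ∧ r ≠ chevD4.neg 14 ∧ chevD4.commTerms 14 r = [] := by decide +kernel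
    exact comm0 (r := 14) (s := r) (h r hr) u w
  have e := triple p0 p1 p2 c01 c02 c10 c12 c20 c21 (k1 := x 14 t) (k2 := x 14 (t ^ 2)) (k3 := x 14 (t ^ (2 ^ 2))) (by
    intro z hz w hw
    simp only [List.mem_cons, List.not_mem_nil, or_false] at hz hw
    rcases hz with rfl | rfl | rfl <;> rcases hw with rfl | rfl | rfl | rfl | rfl | rfl <;>
      exact ck _ _ _ (by simp))
  rw [← goodG.xg_add, ← goodG.xg_add] at e
  rw [E.CP_one, Bn, YA, e, Tr]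
  norm_num

theorem n0_inL : E.InL (E.C.n 0) := by
  refine ⟨1, 1, 1, one_ne_zero, ?_⟩
  rw [pow_one, pow_one, H_one, mul_one, E.n0_word]
  rfl

theorem B_mem (t : F) : XA 2 t ∈ E.R2 :=
  Subgroup.mem_inf.2 ⟨mul_mem (mul_mem (xg_mem_XS (by norm_num [nroots_eq]) (by simp [Tp2, rad2]) _)
    (xg_mem_XS (by norm_num [nroots_eq]) (by simp [Tp2, rad2]) _))
    (xg_mem_XS (by norm_num [nroots_eq]) (by simp [Tp2, rad2]) _), E.C.XA_mem t⟩

theorem Bn_mem (t : F) : Bn t ∈ E.Rn2 := by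
  refine Subgroup.mem_inf.2 ⟨mul_mem (mul_mem (xg_mem_XS (by norm_num [nroots_eq]) (by simp [Tn2, neg2]) _)
    (xg_mem_XS (by norm_num [nroots_eq]) (by simp [Tn2, neg2]) _))
    (xg_mem_XS (by norm_num [nroots_eq]) (by simp [Tn2, neg2]) _), ?_⟩
  rw [Bn, ← Ctx.phiA_L E.C, ← Ctx.psi_ofSL]
  exact E.psi_mem _

theorem CP_mem (t : F) : E.CP t ∈ E.R2 := by
  have := E.R2_conj E.n0_inL (E.B_mem t)
  rwa [E.inv_n] at this

theorem CN_mem (t : F) : E.CN t ∈ E.Rn2 := by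
  have := E.Rn2_conj E.n0_inL (E.Bn_mem t)
  rwa [E.inv_n] at this

theorem conj_B_mem {W : List (Fin 2)} (hW : ∀ r ∈ ([18, 13, 12] : List ℕ), wact W r ∈ rad2) (t : F) :
    nWord F E.C.n W * XA 2 t * (nWord F E.C.n W)⁻¹ ∈ E.R2 := by
  refine Subgroup.mem_inf.2 ⟨?_, mul_mem (mul_mem (E.C.nW_mem W) (E.C.XA_mem t)) (inv_mem (E.C.nW_mem W))⟩
  rw [E.conj_tri]
  simp only [List.mem_cons, List.not_mem_nil, or_false, forall_eq_or_imp, forall_eq] at hW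
  exact mul_mem (mul_mem (xg_mem_XS (by rw [nroots_eq]; exact lt_rad2 hW.1) hW.1 _)
    (xg_mem_XS (by rw [nroots_eq]; exact lt_rad2 hW.2.1) hW.2.1 _))
    (xg_mem_XS (by rw [nroots_eq]; exact lt_rad2 hW.2.2) hW.2.2 _)

/-- elements of the big cell reached after a representative -/
def Reach2 (W : List (Fin 2)) (D : GL chevD4.Idx F) : Prop :=
  E.InL D ∧ ∃ r ∈ E.R2, ∃ v ∈ E.Rn2, ∃ u ∈ E.R2, r * nWord F E.C.n W = v * D * u

theorem flip {W : List (Fin 2)} (hW : wact W 14 ∈ rad2) {D : GL chevD4.Idx F} (h : E.Reach2 W D) (n : ℕ) :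
    E.Reach2 W (D * aa ^ n) := by
  induction n with
  | zero => simpa using h
  | succ n ih =>
    obtain ⟨hD, r, hr, v, hv, u, hu, e⟩ := ih
    have ha : E.InL aa := by simpa using E.inL_aa 1
    have hm : nWord F E.C.n W * aa * (nWord F E.C.n W)⁻¹ ∈ E.R2 := by
      refine Subgroup.mem_inf.2 ⟨?_, mul_mem (mul_mem (E.C.nW_mem W) E.aa_mem) (inv_mem (E.C.nW_mem W))⟩
      rw [aa, E.nWconj W (by norm_num)]
      exact xg_mem_XS (by rw [nroots_eq]; exact lt_rad2 hW) hW _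
    refine ⟨?_, r * (nWord F E.C.n W * aa * (nWord F E.C.n W)⁻¹), mul_mem hr hm, v, hv, aa⁻¹ * u * aa,
      E.R2_conj_inv ha hu, ?_⟩
    · rw [pow_succ, ← mul_assoc]; exact E.inL_mul hD ha
    · calc _ = r * nWord F E.C.n W * aa := by group
        _ = _ := by rw [e, pow_succ]; group

theorem finish2 {W : List (Fin 2)} {l D r : GL chevD4.Idx F} (hl : E.InL l) (h : E.Reach2 W D) (hr : r ∈ E.R2) :
    ∃ y ∈ E.C.S, ∃ v ∈ E.Rn2, ∃ u ∈ E.R2, y * (l * r * nWord F E.C.n W) * y⁻¹ = v * (l * D) * u := by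
  obtain ⟨-, r', hr', v, hv, u, hu, e⟩ := h
  have hy : l * (r' * r⁻¹) * l⁻¹ ∈ E.R2 := E.R2_conj hl (mul_mem hr' (inv_mem hr))
  refine ⟨_, hy.2, l * v * l⁻¹, E.Rn2_conj hl hv, u * (l * (r' * r⁻¹) * l⁻¹)⁻¹, mul_mem hu (inv_mem hy), ?_⟩
  calc _ = l * (r' * nWord F E.C.n W) * (l * (r' * r⁻¹) * l⁻¹)⁻¹ := by group
    _ = _ := by rw [e]; group

theorem bb_pow (E : Setup F 2) (τ : F) (h : τ ^ 2 = τ) : ∃ i : ℕ, i ≤ 1 ∧ x 9 τ = bb ^ i := by
  rcases fix01 h with rfl | rfl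
  · exact ⟨0, by norm_num, by rw [pow_zero, goodG.xg_zero]⟩
  · exact ⟨1, le_rfl, by rw [pow_one]; rfl⟩

/-- the first cell -/
theorem reach2_zero {γ : F} (hγ : γ ≠ 0) : E.Reach2 [1] (E.H γ) := by
  refine ⟨E.inL_H hγ, XA 2 γ, E.B_mem γ, Bn γ⁻¹, E.Bn_mem _, XA 2 γ⁻¹, E.B_mem _, ?_⟩
  rw [show nWord F E.C.n [1] = E.C.n 1 by simp [nWord], E.rank1 hγ]

/-- the second cell -/
theorem reach2_one {γ : F} (hγ : γ ≠ 0) :
    ∃ e f : ℕ, E.Reach2 [1, 0, 1] (cc ^ e * aa ^ f * E.H γ) := by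
  obtain ⟨i, hi, hτ⟩ := E.bb_pow (Tr γ⁻¹) (E.Tr_fix _)
  obtain ⟨e, f, hef⟩ : ∃ e f : ℕ, (bb : GL chevD4.Idx F) ^ i * E.C.n 0 = cc ^ e * aa ^ f := by
    have hn : E.C.n 0 = cc * aa := E.n0_word
    interval_cases i
    · exact ⟨1, 1, by rw [pow_zero, one_mul, pow_one, pow_one, hn]⟩
    · refine ⟨1, 0, ?_⟩
      rw [pow_one, pow_one, pow_zero, mul_one, hn, E.bb_eq]
      calc cc * cc * aa * (cc * aa) = cc * cc * (aa * cc) * aa := by group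
        _ = (cc * cc * cc) * cc * (aa * aa) := by rw [E.aa_cc]; group
        _ = _ := by rw [E.cc_cube, one_mul, show (aa * aa : GL chevD4.Idx F) = 1 from E.sq_x 14 1, mul_one]
  have hD : E.InL (cc ^ e * aa ^ f * E.H γ) := ⟨e, f, γ, hγ, rfl⟩
  have hu : E.InL (E.C.n 0 * E.H γ) := E.inL_mul E.n0_inL (E.inL_H hγ)
  refine ⟨e, f, hD, XA 2 1 * (nWord F E.C.n [1, 0] * XA 2 γ * (nWord F E.C.n [1, 0])⁻¹),
    mul_mem (E.B_mem 1) (E.conj_B_mem (by decide +kernel) γ),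
    Bn 1 * E.CN γ⁻¹, mul_mem (E.Bn_mem 1) (E.CN_mem _),
    (E.C.n 0 * E.H γ)⁻¹ * XA 2 1 * (E.C.n 0 * E.H γ) * XA 2 γ⁻¹,
    mul_mem (E.R2_conj_inv hu (E.B_mem 1)) (E.B_mem _), ?_⟩
  rw [show nWord F E.C.n [1, 0] = E.C.n 1 * E.C.n 0 by simp [nWord],
    show nWord F E.C.n [1, 0, 1] = E.C.n 1 * E.C.n 0 * E.C.n 1 by simp [nWord, mul_assoc], ← hef, ← hτ]
  calc _ = XA 2 1 * E.C.n 1 * E.C.n 0 * (XA 2 γ * E.C.n 1) := by group
    _ = Bn 1 * (XA 2 1 * (E.C.n 0 * Bn γ⁻¹)) * E.H γ * XA 2 γ⁻¹ := by rw [E.rank1_one, E.rank1 hγ]; group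
    _ = Bn 1 * (XA 2 1 * E.CN γ⁻¹) * E.C.n 0 * E.H γ * XA 2 γ⁻¹ := by
        rw [show E.C.n 0 * Bn γ⁻¹ = E.CN γ⁻¹ * E.C.n 0 by
          rw [CN, mul_assoc _ (E.C.n 0) (E.C.n 0), E.n0_sq, mul_one]]
        group
    _ = _ := by rw [E.B_CN]; group

/-- the third cell -/
theorem reach2_two {d : F} (hd : d ≠ 0) (hd1 : d ≠ 1) :
    E.Reach2 [1, 0, 1, 0, 1] (bb * x 14 (Tr d) * (E.H (1 + d) * E.H d⁻¹)) := by
  have hκ : 1 + d ≠ 0 := fun h => hd1 (by linear_combination h - E.two_zero)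
  obtain ⟨n, ha⟩ : ∃ n : ℕ, x 14 (Tr d) = aa ^ n := by
    rcases fix01 (E.Tr_fix d) with h | h <;> rw [h]
    · exact ⟨0, by rw [pow_zero, goodG.xg_zero]⟩
    · exact ⟨1, by rw [pow_one]; rfl⟩
  have hb : E.InL bb := by
    rw [E.bb_eq]
    exact E.inL_mul (E.inL_mul (by simpa using E.inL_cc 1) (by simpa using E.inL_cc 1)) (by simpa using E.inL_aa 1)
  have hA : E.InL (x 14 (Tr d)) := ha ▸ E.inL_aa n
  have hi : d⁻¹ ≠ 0 := inv_ne_zero hd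
  refine ⟨E.inL_mul (E.inL_mul hb hA) (E.inL_mul (E.inL_H hκ) (E.inL_H hi)),
    XA 2 1 * (nWord F E.C.n [1, 0] * XA 2 1 * (nWord F E.C.n [1, 0])⁻¹) *
      (nWord F E.C.n [1, 0, 1, 0] * XA 2 d⁻¹ * (nWord F E.C.n [1, 0, 1, 0])⁻¹),
    mul_mem (mul_mem (E.B_mem 1) (E.conj_B_mem (by decide +kernel) 1)) (E.conj_B_mem (by decide +kernel) _),
    Bn 1 * E.CN 1 * (bb * Bn (d / (1 + d)) * bb⁻¹),
    mul_mem (mul_mem (E.Bn_mem 1) (E.CN_mem 1)) (E.Rn2_conj hb (E.Bn_mem _)),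
    (x 14 (Tr d) * E.H d⁻¹)⁻¹ * XA 2 (1 / (1 + d)) * (x 14 (Tr d) * E.H d⁻¹) *
      ((E.H d⁻¹)⁻¹ * E.CP 1 * E.H d⁻¹) * XA 2 d,
    mul_mem (mul_mem (E.R2_conj_inv (E.inL_mul hA (E.inL_H hi)) (E.B_mem _))
      (E.R2_conj_inv (E.inL_H hi) (E.CP_mem 1))) (E.B_mem _), ?_⟩
  have hC : Commute (E.H (1 + d)) (x 14 (Tr d)) := E.H_comm14 hκ (Or.inl rfl) _
  have hm := E.middle2 (s := (1 : F)) (t := d) (by rwa [one_mul])
  rw [one_mul] at hm
  rw [show nWord F E.C.n [1, 0] = E.C.n 1 * E.C.n 0 by simp [nWord],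
    show nWord F E.C.n [1, 0, 1, 0] = E.C.n 1 * E.C.n 0 * E.C.n 1 * E.C.n 0 by simp [nWord, mul_assoc],
    show nWord F E.C.n [1, 0, 1, 0, 1] = E.C.n 1 * E.C.n 0 * E.C.n 1 * E.C.n 0 * E.C.n 1 by
      simp [nWord, mul_assoc]]
  calc _ = XA 2 1 * E.C.n 1 * E.C.n 0 * (XA 2 1 * E.C.n 1) * E.C.n 0 * (XA 2 d⁻¹ * E.C.n 1) := by group
    _ = Bn 1 * XA 2 1 * (E.C.n 0 * Bn 1) * (XA 2 1 * E.C.n 0) * Bn d * E.H d⁻¹ * XA 2 d := by
        rw [E.rank1_one, E.rank1 hi, inv_inv]; group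
    _ = Bn 1 * (XA 2 1 * E.CN 1) * (E.CP 1 * Bn d) * E.H d⁻¹ * XA 2 d := by
        rw [show E.C.n 0 * Bn 1 = E.CN 1 * E.C.n 0 by rw [CN, mul_assoc _ (E.C.n 0) (E.C.n 0), E.n0_sq, mul_one],
          show XA 2 1 * E.C.n 0 = E.C.n 0 * E.CP 1 by rw [CP, ← mul_assoc, ← mul_assoc, E.n0_sq, one_mul]]
        calc _ = Bn 1 * XA 2 1 * E.CN 1 * (E.C.n 0 * E.C.n 0) * E.CP 1 * Bn d * E.H d⁻¹ * XA 2 d := by group
          _ = _ := by rw [E.n0_sq]; group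
    _ = Bn 1 * E.CN 1 * bb * (XA 2 1 * Bn d) * x 14 (Tr d) * E.CP 1 * E.H d⁻¹ * XA 2 d := by
        rw [E.B_CN, E.C_Bn, show x 9 (Tr (1 : F)) = bb by
          rw [Tr, one_pow, one_pow, show (1 : F) + 1 + 1 = 1 by linear_combination E.two_zero]; rfl]
        group
    _ = Bn 1 * E.CN 1 * bb * Bn (d / (1 + d)) * E.H (1 + d) * XA 2 (1 / (1 + d)) * x 14 (Tr d) * E.CP 1 *
          E.H d⁻¹ * XA 2 d := by rw [hm]; group
    _ = Bn 1 * E.CN 1 * (bb * Bn (d / (1 + d)) * bb⁻¹) * bb * (E.H (1 + d) * x 14 (Tr d)) * E.H d⁻¹ *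
          ((x 14 (Tr d) * E.H d⁻¹)⁻¹ * XA 2 (1 / (1 + d)) * (x 14 (Tr d) * E.H d⁻¹) *
            ((E.H d⁻¹)⁻¹ * E.CP 1 * E.H d⁻¹) * XA 2 d) := by group
    _ = _ := by rw [hC.eq]; group

theorem exists_trace_value (E : Setup F 2) {z : F} (hz0 : z ≠ 0) (hz1 : z ≠ 1) (j : ℕ) :
    ∃ d : F, d ≠ 0 ∧ d ≠ 1 ∧ ∃ n : ℕ, x 14 (Tr d) = aa ^ n ∧ Even (n + 1 + j) := by
  have h2 := E.two_zero
  have hw0 : z + 1 ≠ 0 := fun h => hz1 (by linear_combination h - h2)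
  have hw1 : z + 1 ≠ 1 := fun h => hz0 (by linear_combination h)
  have hsum : Tr (z + 1) = Tr z + 1 := by
    simp only [Tr]; linear_combination (2 * z ^ 3 + 3 * z ^ 2 + 3 * z + 1) * h2
  obtain ⟨d0, hd0, hd01, d1, hd1, hd11, e0, e1⟩ : ∃ d0 : F, d0 ≠ 0 ∧ d0 ≠ 1 ∧ ∃ d1 : F, d1 ≠ 0 ∧ d1 ≠ 1 ∧
      Tr d0 = 0 ∧ Tr d1 = 1 := by
    rcases fix01 (E.Tr_fix z) with h | h
    · exact ⟨z, hz0, hz1, z + 1, hw0, hw1, h, by rw [hsum, h, zero_add]⟩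
    · exact ⟨z + 1, hw0, hw1, z, hz0, hz1, by rw [hsum, h]; linear_combination h2, h⟩
  rcases Nat.even_or_odd j with hj | hj
  · exact ⟨d1, hd1, hd11, 1, by rw [e1, pow_one]; rfl, by simpa [parity_simps] using hj⟩
  · exact ⟨d0, hd0, hd01, 0, by rw [e0, pow_zero, goodG.xg_zero], by simpa [parity_simps] using hj⟩

end Setup

end Cfsg.Agent.Cover3D4
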