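/-
`³D₄(2)`: the square of a class of elements of order twenty-one covers the group (helper97).
-/
import Cfsg.Agent.Cover3D4.TwoCells

set_option autoImplicit false

namespace Cfsg.Agent.Cover3D4

open Cfsg.Lie Cfsg.Agent.ChevCore Cfsg.Agent.D4SubMax Cfsg.Agent.Chev54

variable {F : Type*} [Field F]

local notation "x" => xg chevD4 F

/-- the three representatives of the nontrivial cells -/
def core2w (i : Fin 3) : List (Fin 2) :=
  ([[1], [1, 0, 1], [1, 0, 1, 0, 1]] : List (List (Fin 2))).getD i.val []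

namespace Setup

variable (E : Setup F 2)

/-- the parabolic -/
noncomputable def P2 : Subgroup (GL chevD4.Idx F) where
  carrier := {g | ∃ l, E.InL l ∧ ∃ r ∈ E.R2, g = l * r}
  one_mem' := ⟨1, by simpa using E.inL_cc 0, 1, one_mem _, by rw [one_mul]⟩
  mul_mem' := by
    rintro _ _ ⟨l, hl, r, hr, rfl⟩ ⟨m, hm, s, hs, rfl⟩
    exact ⟨l * m, E.inL_mul hl hm, m⁻¹ * r * m * s, mul_mem (E.R2_conj_inv hm hr) hs, by group⟩
  inv_mem' := by
    rintro _ ⟨l, hl, r, hr, rfl⟩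
    exact ⟨l⁻¹, E.inL_inv hl, l * r⁻¹ * l⁻¹, E.R2_conj hl (inv_mem hr), by group⟩

theorem inL_mem_P2 {l : GL chevD4.Idx F} (hl : E.InL l) : l ∈ E.P2 := ⟨l, hl, 1, one_mem _, by rw [mul_one]⟩

theorem R2_le_P2 : E.R2 ≤ E.P2 := fun r hr => ⟨1, by simpa using E.inL_cc 0, r, hr, by rw [one_mul]⟩

theorem U_mem_P2 {u : GL chevD4.Idx F} (hS : u ∈ E.C.S) (hU : u ∈ Um F 1) : u ∈ E.P2 := by
  obtain ⟨s, t, hs, -, h⟩ := E.C.split1 hS hU
  set w := (x 14 s * XA 2 t)⁻¹ * u with hw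
  have e : u = x 14 s * XA 2 t * w := by rw [hw]; group
  have hwS : w ∈ E.C.S :=
    mul_mem (inv_mem (mul_mem (E.C.xg_mem 14 (by simp) hs) (E.C.XA_mem t))) hS
  have hT : Um F 2 ≤ XS chevD4 F Tp2 := by
    refine (Subgroup.closure_le _).2 ?_
    rintro _ ⟨r, a, hr, hr2, rfl⟩
    have key : ∀ r : Fin 24, 2 ≤ ht chevD4 r.val → r.val ∈ rad2 := by decide +kernel
    exact xg_mem_XS hr (key ⟨r, hr⟩ hr2) a
  rw [e]
  refine mul_mem (mul_mem ?_ (E.R2_le_P2 (E.B_mem t))) (E.R2_le_P2 (Subgroup.mem_inf.2 ⟨hT h, hwS⟩))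
  rcases fix01 hs with rfl | rfl
  · rw [goodG.xg_zero]; exact one_mem _
  · exact E.inL_mem_P2 (by simpa [aa] using E.inL_aa 1)

theorem Hd_mem_P2 {h : GL chevD4.Idx F} (hh : h ∈ E.C.Hd) : h ∈ E.P2 := by
  obtain ⟨a, b, ha, hb, hbq, rfl⟩ := E.Hd_eq h hh
  rw [eq_one_of_fix hb hbq, Ctx.h14_one, one_mul, ← mul_assoc, ← Ctx.phiA_h E.C]
  exact E.inL_mem_P2 (E.inL_H ha)

theorem P2_le : E.P2 ≤ E.C.S := by
  rintro _ ⟨l, hl, r, hr, rfl⟩
  exact mul_mem (E.inL_mem hl) hr.2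

theorem n1_not_mem_P2 : E.C.n 1 ∉ E.P2 := by
  rintro ⟨l, hl, r, hr, e⟩
  have hr1 : r * x 22 1 * r⁻¹ = x 22 1 := by
    have key : ∀ r ∈ rad2, r < 24 ∧ r ≠ 14 ∧ 1 ≤ ht chevD4 r := by decide +kernel
    have hle : XS chevD4 F Tp2 ≤ Subgroup.centralizer {x 22 (1 : F)} := by
      refine (Subgroup.closure_le _).2 ?_
      rintro _ ⟨s, t, hs, hT, rfl⟩
      rw [SetLike.mem_coe, Subgroup.mem_centralizer_singleton_iff]
      exact comm22 (key s hT).1 (key s hT).2.2 (key s hT).2.1 t 1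
    rw [mul_inv_eq_iff_eq_mul]
    exact Subgroup.mem_centralizer_singleton_iff.1 (hle hr.1)
  have h1 : E.C.n 1 * x 22 1 * (E.C.n 1)⁻¹ = x 14 1 := E.nconj 1 (by norm_num) 1
  have h2 : x 14 (1 : F) ∈ Um F 2 := by
    rw [← h1, e, show l * r * x 22 1 * (l * r)⁻¹ = l * (r * x 22 1 * r⁻¹) * l⁻¹ by group, hr1]
    have hle : XS chevD4 F Tz ≤ Um F 2 := by
      refine (Subgroup.closure_le _).2 ?_
      rintro _ ⟨s, t, hs, hT, rfl⟩
      have : ∀ s ∈ ([22, 23] : List ℕ), 2 ≤ ht chevD4 s := by decide +kernel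
      exact xg_mem_Um hs (this s hT) t
    exact hle (E.inL_norm hl (Or.inr (Or.inr rfl)) (xg_mem_XS (by norm_num [nroots_eq]) (by simp [Tz]) 1))
  have hv : Vec 1 (x 14 (1 : F)) (Pi.single 14 1) :=
    (show ht chevD4 14 = 1 by decide +kernel) ▸
      vec_xg good (D := chevD4) (by norm_num [nroots_eq]) (by decide +kernel) 1
  have := congrFun (hv.unique good le_rfl (vec_of_next good h2)) 14
  simp at this

theorem exists_shape2 {g : GL chevD4.Idx F} (hg : g ∈ E.C.S) (hP : g ∉ E.P2) :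
    ∃ k ∈ E.C.S, ∃ i : Fin 3, ∃ p ∈ E.P2, k * g * k⁻¹ = p * nWord F E.C.n (core2w i) := by
  obtain ⟨u, hu, huU, W, v, hv, hvU, h, hh, rfl⟩ := E.C.bruhat g hg
  have huP := E.U_mem_P2 hu huU
  have hvP : v * h ∈ E.P2 := mul_mem (E.U_mem_P2 hv hvU) (E.Hd_mem_P2 hh)
  have hn0 : ∀ n : ℕ, E.C.n 0 ^ n ∈ E.P2 := fun n => pow_mem (E.inL_mem_P2 E.n0_inL) n
  have hrep : ∀ n : ℕ, nWord F E.C.n (List.replicate n (0 : Fin 2)) = E.C.n 0 ^ n := fun n => by
    simp [nWord]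
  have happ : ∀ A B : List (Fin 2), nWord F E.C.n (A ++ B) = nWord F E.C.n A * nWord F E.C.n B :=
    fun A B => by simp [nWord]
  obtain ⟨i, hi⟩ := exists_weylWord W
  have key : ∀ i : Fin 12, (∃ a : Fin 2, ∀ r : Fin 24, wact (weylWord i) r.val = wact (List.replicate a.val 0) r.val) ∨
      ∃ a : Fin 2, ∃ b : Fin 2, ∃ j : Fin 3, ∀ r : Fin 24, wact (weylWord i) r.val =
        wact (List.replicate a.val 0 ++ (core2w j ++ List.replicate b.val 0)) r.val := by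
    decide +kernel
  rcases key i with ⟨a, ha⟩ | ⟨a, b, j, hab⟩
  · exfalso
    obtain ⟨h', hh', e'⟩ := E.C.perm_eq W (List.replicate a.val 0) fun r hr => (hi ⟨r, hr⟩).trans (ha ⟨r, hr⟩)
    refine hP (mul_mem (mul_mem huP ?_) hvP)
    rw [e', hrep]
    exact mul_mem (hn0 _) (E.Hd_mem_P2 hh')
  · obtain ⟨h', hh', e'⟩ := E.C.perm_eq W (List.replicate a.val 0 ++ (core2w j ++ List.replicate b.val 0))
      fun r hr => (hi ⟨r, hr⟩).trans (hab ⟨r, hr⟩)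
    set m := E.C.n 0 ^ b.val * (h' * (v * h))
    have hmP : m ∈ E.P2 := mul_mem (hn0 _) (mul_mem (E.Hd_mem_P2 hh') hvP)
    refine ⟨m, E.P2_le hmP, j, m * (u * E.C.n 0 ^ a.val), mul_mem hmP (mul_mem huP (hn0 _)), ?_⟩
    rw [e', happ, happ, hrep, hrep]
    simp only [m]
    group

theorem aa_even {n : ℕ} (E : Setup F 2) (h : Even n) : (aa : GL chevD4.Idx F) ^ n = 1 := by
  obtain ⟨m, rfl⟩ := h
  rw [← two_mul, pow_mul, pow_two, show (aa * aa : GL chevD4.Idx F) = 1 from E.sq_x 14 1, one_pow]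

/-- with a parity flip one reaches the powers of the element of order three -/
theorem close_flip {W : List (Fin 2)} (hW : wact W 14 ∈ rad2)
    (h : ∀ γ : F, γ ≠ 0 → ∃ e f : ℕ, E.Reach2 W (cc ^ e * aa ^ f * E.H γ)) {l : GL chevD4.Idx F} (hl : E.InL l) :
    ∃ D, E.Reach2 W D ∧ ∃ n : ℕ, l * D = cc ^ n := by
  obtain ⟨k, j, η, hη, rfl⟩ := hl
  obtain ⟨e, f, hD⟩ := h η⁻¹ (inv_ne_zero hη)
  refine ⟨_, E.flip hW hD (f + j), k + 2 ^ j * e, ?_⟩
  have hH : E.H η⁻¹ * aa ^ (f + j) = aa ^ (f + j) * E.H η⁻¹ :=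
    (Commute.pow_right (E.H_aa (inv_ne_zero hη)) (f + j)).eq
  rw [mul_assoc (cc ^ e * aa ^ f) (E.H η⁻¹), hH, ← mul_assoc (cc ^ e * aa ^ f), mul_assoc (cc ^ e), ← pow_add,
    E.L_form_mul k j hη e _ (inv_ne_zero hη), mul_inv_cancel₀ hη, H_one, mul_one,
    E.aa_even (n := j + (f + (f + j))) ⟨f + j, by omega⟩, mul_one]

/-- each element outside the parabolic is conjugate into the cosets of the element of order three -/
theorem exists_good2 {z : F} (hz0 : z ≠ 0) (hz1 : z ≠ 1) {g : GL chevD4.Idx F} (hg : g ∈ E.C.S) (hP : g ∉ E.P2) :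
    ∃ k ∈ E.C.S, ∃ v ∈ E.Rn2, ∃ u ∈ E.R2, ∃ n : ℕ, k * g * k⁻¹ = v * cc ^ n * u := by
  obtain ⟨k, hk, i, p, ⟨l, hl, r, hr, rfl⟩, e⟩ := E.exists_shape2 hg hP
  suffices h : ∃ y ∈ E.C.S, ∃ v ∈ E.Rn2, ∃ u ∈ E.R2, ∃ n : ℕ,
      y * (l * r * nWord F E.C.n (core2w i)) * y⁻¹ = v * cc ^ n * u by
    obtain ⟨y, hy, v, hv, u, hu, n, e'⟩ := h
    refine ⟨y * k, mul_mem hy hk, v, hv, u, hu, n, ?_⟩
    rw [← e', ← e]; group
  have fin' : ∀ {W : List (Fin 2)} {l r : GL chevD4.Idx F}, E.InL l → r ∈ E.R2 →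
      (∃ D, E.Reach2 W D ∧ ∃ n : ℕ, l * D = cc ^ n) →
      ∃ y ∈ E.C.S, ∃ v ∈ E.Rn2, ∃ u ∈ E.R2, ∃ n : ℕ,
        y * (l * r * nWord F E.C.n W) * y⁻¹ = v * cc ^ n * u := by
    rintro W l r hl hr ⟨D, hD, n, hn⟩
    obtain ⟨y, hy, v, hv, u, hu, e⟩ := E.finish2 hl hD hr
    exact ⟨y, hy, v, hv, u, hu, n, hn ▸ e⟩
  match i with
  | 0 => exact fin' hl hr (E.close_flip (W := [1]) (by decide +kernel)
      (fun γ hγ => ⟨0, 0, by simpa using E.reach2_zero hγ⟩) hl)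
  | 1 => exact fin' hl hr (E.close_flip (W := [1, 0, 1]) (by decide +kernel) (fun γ hγ => E.reach2_one hγ) hl)
  | 2 =>
    obtain ⟨a, j, η, hη, rfl⟩ := hl
    obtain ⟨d, hd, hd1, m, hm, hev⟩ := E.exists_trace_value hz0 hz1 j
    have hκ : 1 + d ≠ 0 := fun h => hd1 (by linear_combination h - E.two_zero)
    have hi : d⁻¹ ≠ 0 := inv_ne_zero hd
    set γ := (1 + d) * d⁻¹
    have hγ : γ ≠ 0 := mul_ne_zero hκ hi
    set κ := ((η * γ)⁻¹) ^ 4
    have hκ0 : κ ≠ 0 := pow_ne_zero _ (inv_ne_zero (mul_ne_zero hη hγ))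
    have hsq : η * κ * κ = γ⁻¹ := by
      have h8 := E.C.per ((η * γ)⁻¹)
      rw [show κ = ((η * γ)⁻¹) ^ 4 from rfl, mul_assoc η, ← pow_add,
        show ((η * γ)⁻¹) ^ (4 + 4) = (η * γ)⁻¹ from h8]
      field_simp
    have hW : nWord F E.C.n (core2w 2) * (E.H κ)⁻¹ = E.H κ * nWord F E.C.n (core2w 2) := by
      have hki := inv_ne_zero hκ0
      rw [show nWord F E.C.n (core2w 2) = E.C.n 1 * E.C.n 0 * E.C.n 1 * E.C.n 0 * E.C.n 1 by
        simp [nWord, core2w, mul_assoc], E.H_inv hκ0]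
      calc _ = E.C.n 1 * E.C.n 0 * E.C.n 1 * E.C.n 0 * (E.C.n 1 * E.H κ⁻¹) := by group
        _ = E.C.n 1 * E.C.n 0 * E.C.n 1 * (E.H κ * E.C.n 0) * E.C.n 1 := by
            rw [E.n1_H hki, inv_inv, (E.H_n0 hκ0).eq]; group
        _ = E.C.n 1 * (E.C.n 0 * E.H κ⁻¹) * E.C.n 1 * E.C.n 0 * E.C.n 1 := by
            rw [show E.C.n 1 * E.C.n 0 * E.C.n 1 * (E.H κ * E.C.n 0) =
              E.C.n 1 * E.C.n 0 * (E.C.n 1 * E.H κ) * E.C.n 0 by group, E.n1_H hκ0]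
            group
        _ = (E.C.n 1 * E.H κ⁻¹) * E.C.n 0 * E.C.n 1 * E.C.n 0 * E.C.n 1 := by
            rw [← (E.H_n0 hki).eq]; group
        _ = _ := by rw [E.n1_H hki, inv_inv]; group
    set l := cc ^ a * aa ^ j * E.H η
    have hl' : E.InL (cc ^ a * aa ^ j * E.H γ⁻¹) := ⟨a, j, γ⁻¹, inv_ne_zero hγ, rfl⟩
    have hlk : E.H κ * l = cc ^ a * aa ^ j * E.H (η * κ) := by
      have h1 : Commute (E.H κ) (cc ^ a * aa ^ j) :=
        Commute.mul_right ((E.H_cc hκ0).pow_right a) (Commute.pow_right (E.H_aa hκ0) j)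
      rw [show E.H κ * l = E.H κ * (cc ^ a * aa ^ j) * E.H η by simp only [l]; group, h1.eq,
        mul_assoc _ (E.H κ), E.H_mul hκ0 hη, mul_comm κ η]
    obtain ⟨y, hy, v, hv, u, hu, n, e'⟩ := fin' hl' (E.R2_conj_inv (E.inL_H hκ0) hr)
      (W := core2w 2) ⟨_, E.reach2_two hd hd1, a + 2 ^ j * 2, by
        rw [hm, E.bb_eq, E.H_mul hκ hi, show cc * cc * aa * aa ^ m = cc ^ 2 * aa ^ (m + 1) by
          rw [pow_two, pow_succ' aa m]; group,
          E.L_form_mul a j (inv_ne_zero hγ) 2 (m + 1) hγ, inv_mul_cancel₀ hγ, H_one, mul_one,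
          E.aa_even (n := j + (m + 1)) (by rwa [add_comm]), mul_one]⟩
    refine ⟨y * E.H κ, mul_mem hy (E.H_mem κ), v, hv, u, hu, n, ?_⟩
    rw [← e', ← hsq, ← E.H_mul (mul_ne_zero hη hκ0) hκ0, ← mul_assoc (cc ^ a * aa ^ j), ← hlk]
    calc _ = y * (E.H κ * l * r * (nWord F E.C.n (core2w 2) * (E.H κ)⁻¹)) * y⁻¹ := by group
      _ = _ := by rw [hW]; group

/-- the members of the Levi subgroup in the class, and their products -/
theorem good_prod2 [Fintype F] {z : F} (hz0 : z ≠ 0) (hz1 : z ≠ 1) (n : ℕ) {v u : GL chevD4.Idx F}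
    (hv : v ∈ E.Rn2) (hu : u ∈ E.R2) : E.IsProd (cc * E.H z) (v * cc ^ n * u) := by
  set W := W0
  set w := nWord F E.C.n W
  have hzi : z⁻¹ ≠ 0 := inv_ne_zero hz0
  have hzi1 : z⁻¹ ≠ 1 := fun h => hz1 (inv_eq_one.1 h)
  have c2 : (cc * cc : GL chevD4.Idx F) = bb * aa := by
    have ha : (aa : GL chevD4.Idx F)⁻¹ = aa := E.inv_x 14 1
    have hb : (bb : GL chevD4.Idx F)⁻¹ = bb := E.inv_x 9 1
    rw [eq_inv_of_mul_eq_one_left E.cc_cube, show (cc : GL chevD4.Idx F) = aa * bb from rfl, _root_.mul_inv_rev,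
      ha, hb]
  have hwc : w * cc * w⁻¹ = cc * cc := by
    rw [c2, show w * cc * w⁻¹ = (w * aa * w⁻¹) * (w * bb * w⁻¹) by
      rw [show (cc : GL chevD4.Idx F) = aa * bb from rfl]; group, aa, bb, E.nWconj W (by norm_num),
      E.nWconj W (by norm_num)]
    rfl
  have hwH : ∀ η : F, η ≠ 0 → w * E.H η * w⁻¹ = E.H η⁻¹ := by
    intro η hη
    have hi := inv_ne_zero hη
    rw [mul_inv_eq_iff_eq_mul, show w = E.C.n 1 * E.C.n 0 * E.C.n 1 * E.C.n 0 * E.C.n 1 * E.C.n 0 by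
      simp [w, W, W0, nWord, mul_assoc]]
    calc _ = E.C.n 1 * E.C.n 0 * E.C.n 1 * E.C.n 0 * E.C.n 1 * (E.C.n 0 * E.H η) := by group
      _ = E.C.n 1 * E.C.n 0 * E.C.n 1 * E.C.n 0 * (E.C.n 1 * E.H η) * E.C.n 0 := by rw [← (E.H_n0 hη).eq]; group
      _ = E.C.n 1 * E.C.n 0 * E.C.n 1 * (E.C.n 0 * E.H η⁻¹) * E.C.n 1 * E.C.n 0 := by rw [E.n1_H hη]; group
      _ = E.C.n 1 * E.C.n 0 * (E.C.n 1 * E.H η⁻¹) * E.C.n 0 * E.C.n 1 * E.C.n 0 := by rw [← (E.H_n0 hi).eq]; group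
      _ = E.C.n 1 * (E.C.n 0 * E.H η) * E.C.n 1 * E.C.n 0 * E.C.n 1 * E.C.n 0 := by rw [E.n1_H hi, inv_inv]; group
      _ = (E.C.n 1 * E.H η) * E.C.n 0 * E.C.n 1 * E.C.n 0 * E.C.n 1 * E.C.n 0 := by rw [← (E.H_n0 hη).eq]; group
      _ = _ := by rw [E.n1_H hη]; group
  have hwS : w ∈ E.C.S := E.C.nW_mem W
  have ha : aa * (cc * E.H z) * aa⁻¹ = cc * cc * E.H z := by
    rw [mul_inv_eq_iff_eq_mul, ← mul_assoc, E.aa_cc]
    calc _ = cc * cc * (aa * E.H z) := by group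
      _ = _ := by rw [← E.H_aa hz0]; group
  have regR : ∀ {η : F} {c : GL chevD4.Idx F}, η ≠ 0 → η ≠ 1 → (c = cc ∨ c = cc * cc) →
      ∀ {T : GL chevD4.Idx F}, T ∈ XS chevD4 F Tp2 → (c * E.H η) * T * (c * E.H η)⁻¹ = T → T = 1 := by
    intro η c hη hη1 hc T hT hfix
    have hcH : Commute c (E.H η) := by
      rcases hc with rfl | rfl
      · exact (E.H_cc hη).symm
      · exact Commute.mul_left (E.H_cc hη).symm (E.H_cc hη).symm
    have hf : Commute (c * E.H η) T := mul_inv_eq_iff_eq_mul.1 hfix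
    have h3 : Commute (c ^ 3 * E.H η ^ 3) T := by rw [← hcH.mul_pow]; exact hf.pow_left 3
    have h7 : Commute (c ^ 7 * E.H η ^ 7) T := by rw [← hcH.mul_pow]; exact hf.pow_left 7
    have hc3 : c ^ 3 = 1 := by
      have h := E.cc_cube
      rcases hc with rfl | rfl
      · rw [← h]; simp [pow_succ]
      · calc (cc * cc) ^ 3 = (cc * cc * cc : GL chevD4.Idx F) * (cc * cc * cc) := by simp [pow_succ, mul_assoc]
          _ = 1 := by rw [h, mul_one]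
    have hpw : ∀ n : ℕ, E.H η ^ n = E.H (η ^ n) := by
      intro n
      induction n with
      | zero => rw [pow_zero, pow_zero, H_one]
      | succ n ih => rw [pow_succ, ih, E.H_mul (pow_ne_zero _ hη) hη, pow_succ]
    have h77 : η ^ 7 = 1 := by rw [← E.pow_seven hη]; exact (zpow_natCast η 7).symm
    rw [hc3, one_mul, hpw] at h3
    rw [hpw, h77, H_one, mul_one, show c ^ 7 = c by
      rw [show 7 = 3 + 3 + 1 from rfl, pow_add, pow_add, hc3, one_mul, one_mul, pow_one]] at h7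
    have hcc : Commute cc T := by
      rcases hc with rfl | rfl
      · exact h7
      · have e : (cc : GL chevD4.Idx F) = cc * cc * (cc * cc) := by
          rw [show cc * cc * (cc * cc) = cc * cc * cc * cc by group, E.cc_cube, one_mul]
        rw [e]; exact Commute.mul_left h7 h7
    refine E.regular2 (pow_ne_zero 3 hη) ?_ hT (mul_inv_eq_iff_eq_mul.2 h3.eq) (mul_inv_eq_iff_eq_mul.2 hcc.eq)
    intro h
    exact hη1 (by
      calc η = η * (η ^ 3) ^ 2 := by rw [h, one_pow, mul_one]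
        _ = η ^ 7 := by ring
        _ = 1 := h77)
  have regN : ∀ {η : F} {c : GL chevD4.Idx F}, η ≠ 0 → η ≠ 1 → (c = cc ∨ c = cc * cc) →
      ∀ {T : GL chevD4.Idx F}, T ∈ XS chevD4 F Tn2 → (c * E.H η) * T * (c * E.H η)⁻¹ = T → T = 1 := by
    intro η c hη hη1 hc T hT hfix
    have hT' : w * T * w⁻¹ ∈ XS chevD4 F Tp2 := by
      refine conj_XS (fun r hr hrT t => ?_) hT
      rw [E.nWconj W hr]
      have key : ∀ r ∈ neg2, wact W0 r ∈ rad2 := by decide +kernel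
      exact xg_mem_XS (by rw [nroots_eq]; exact lt_rad2 (key r hrT)) (key r hrT) t
    have hc' : w * c * w⁻¹ = cc ∨ w * c * w⁻¹ = cc * cc := by
      rcases hc with rfl | rfl
      · exact Or.inr hwc
      · left
        calc w * (cc * cc) * w⁻¹ = (w * cc * w⁻¹) * (w * cc * w⁻¹) := by group
          _ = (cc * cc * cc) * cc := by rw [hwc]; group
          _ = cc := by rw [E.cc_cube, one_mul]
    have e := regR (inv_ne_zero hη) (fun h => hη1 (inv_eq_one.1 h)) hc' hT' (by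
      rw [show w * c * w⁻¹ * E.H η⁻¹ = w * (c * E.H η) * w⁻¹ by rw [← hwH η hη]; group]
      conv_rhs => rw [← hfix]
      group)
    calc T = w⁻¹ * (w * T * w⁻¹) * w := by group
      _ = 1 := by rw [e]; group
  have cls : ∀ {η : F} {c : GL chevD4.Idx F}, (η = z ∨ η = z⁻¹) → (c = cc ∨ c = cc * cc) →
      E.InL (c * E.H η) ∧ ∃ k ∈ E.C.S, k * (cc * E.H z) * k⁻¹ = c * E.H η := by
    intro η c hη hc
    have hη0 : η ≠ 0 := by rcases hη with rfl | rfl <;> assumption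
    refine ⟨E.inL_mul ?_ (E.inL_H hη0), ?_⟩
    · rcases hc with rfl | rfl
      · simpa using E.inL_cc 1
      · simpa [pow_two] using E.inL_cc 2
    have hwx : w * (cc * E.H z) * w⁻¹ = cc * cc * E.H z⁻¹ := by
      calc _ = (w * cc * w⁻¹) * (w * E.H z * w⁻¹) := by group
        _ = _ := by rw [hwc, hwH z hz0]
    rcases hη with rfl | rfl <;> rcases hc with rfl | rfl
    · exact ⟨1, one_mem _, by simp⟩
    · exact ⟨aa, E.aa_mem, ha⟩
    · refine ⟨w * aa, mul_mem hwS E.aa_mem, ?_⟩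
      calc _ = w * (aa * (cc * E.H z) * aa⁻¹) * w⁻¹ := by group
        _ = (w * cc * w⁻¹) * (w * cc * w⁻¹) * (w * E.H z * w⁻¹) := by rw [ha]; group
        _ = (cc * cc * cc) * cc * E.H z⁻¹ := by rw [hwc, hwH z hz0]; group
        _ = _ := by rw [E.cc_cube, one_mul]
    · exact ⟨w, hwS, hwx⟩
  obtain ⟨a, b, hab, hA, hB⟩ : ∃ a b : GL chevD4.Idx F, a * b = cc ^ n ∧ (a = cc ∨ a = cc * cc) ∧ (b = cc ∨ b = cc * cc) := by
    have h3 : (cc : GL chevD4.Idx F) ^ 3 = 1 := by rw [← E.cc_cube]; simp [pow_succ]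
    rw [pow_eq_pow_mod n h3]
    have : n % 3 < 3 := Nat.mod_lt _ (by norm_num)
    interval_cases n % 3
    · exact ⟨cc, cc * cc, by rw [pow_zero, ← mul_assoc]; exact E.cc_cube, Or.inl rfl, Or.inr rfl⟩
    · refine ⟨cc * cc, cc * cc, ?_, Or.inr rfl, Or.inr rfl⟩
      rw [pow_one, show cc * cc * (cc * cc) = cc * cc * cc * cc by group, E.cc_cube, one_mul]
    · exact ⟨cc, cc, by rw [pow_two], Or.inl rfl, Or.inl rfl⟩
  obtain ⟨iA, k, hk, hka⟩ := cls (η := z) (c := a) (Or.inl rfl) hA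
  obtain ⟨iB, l, hl, hlb⟩ := cls (η := z⁻¹) (c := b) (Or.inr rfl) hB
  obtain ⟨y, hy, hy'⟩ := (coset_conj E.Rn2 (fun u hu => E.Rn2_conj iA hu)
    (fun T hT h => regN hz0 hz1 hA hT.1 h) hv).2
  obtain ⟨y', hy1, hy1'⟩ := (coset_conj E.R2 (fun u hu => E.R2_conj iB hu)
    (fun T hT h => regR hzi hzi1 hB hT.1 h) hu).1
  refine ⟨y * k, mul_mem hy.2 hk, y' * l, mul_mem hy1.2 hl, ?_⟩
  have hb : Commute (E.H z) b := by
    rcases hB with rfl | rfl
    · exact E.H_cc hz0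
    · exact Commute.mul_right (E.H_cc hz0) (E.H_cc hz0)
  have hM : a * E.H z * (b * E.H z⁻¹) = cc ^ n := by
    rw [show a * E.H z * (b * E.H z⁻¹) = a * (E.H z * b) * E.H z⁻¹ by group, hb.eq,
      show a * (b * E.H z) * E.H z⁻¹ = a * b * (E.H z * E.H z⁻¹) by group, E.H_mul hz0 hzi,
      mul_inv_cancel₀ hz0, H_one, mul_one, hab]
  calc v * cc ^ n * u = (v * (a * E.H z)) * ((b * E.H z⁻¹) * u) := by rw [← hM]; group
    _ = (y * (a * E.H z) * y⁻¹) * (y' * (b * E.H z⁻¹) * y'⁻¹) := by rw [hy', hy1']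
    _ = _ := by rw [← hka, ← hlb]; group

/-- the covering for `q = 2` -/
theorem cover2 [Fintype F] (hK : Fintype.card F = 2 ^ 3) :
    ∃ xx ∈ E.C.S, ¬ 2 ∣ orderOf xx ∧ ∀ g ∈ E.C.S, g ≠ 1 → E.IsProd xx g := by
  classical
  obtain ⟨z, -, hz⟩ := Finset.exists_mem_notMem_of_card_lt_card
    (s := ({0, 1} : Finset F)) (t := Finset.univ) (by
      refine lt_of_le_of_lt (Finset.card_le_two) ?_
      rw [Finset.card_univ, hK]; norm_num)
  simp only [Finset.mem_insert, Finset.mem_singleton, not_or] at hz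
  obtain ⟨hz0, hz1⟩ := hz
  refine ⟨cc * E.H z, mul_mem E.cc_mem (E.H_mem z), ?_, ?_⟩
  · intro h
    have hpw : ∀ n : ℕ, E.H z ^ n = E.H (z ^ n) := by
      intro n
      induction n with
      | zero => rw [pow_zero, pow_zero, H_one]
      | succ n ih => rw [pow_succ, ih, E.H_mul (pow_ne_zero _ hz0) hz0, pow_succ]
    have h77 : z ^ 7 = 1 := by rw [← E.pow_seven hz0]; exact (zpow_natCast z 7).symm
    have hc3 : (cc : GL chevD4.Idx F) ^ 3 = 1 := by rw [← E.cc_cube]; simp [pow_succ]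
    have h1 : (cc * E.H z) ^ 21 = 1 := by
      rw [((E.H_cc hz0).symm).mul_pow, show 21 = 3 * 7 from rfl, pow_mul cc, hc3, one_pow, one_mul, hpw,
        mul_comm 3 7, pow_mul, h77, one_pow, H_one]
    have := h.trans (orderOf_dvd_of_pow_eq_one h1)
    norm_num at this
  · intro g hg h1
    haveI hs : IsSimpleGroup ↥(twistedD4 F 2) :=
      (Twisted.TypeD4.simple (Twisted.TypeD4.frame₀ (q := 2) ⟨2, 1, Nat.prime_two.prime, one_pos, rfl⟩ hK)
        ⟨2, 1, Nat.prime_two.prime, one_pos, rfl⟩ hK).1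
    have e := E.C.S_eq
    obtain ⟨k, hk, hkP⟩ : ∃ k ∈ E.C.S, k * g * k⁻¹ ∉ E.P2 := by
      by_contra hall
      push Not at hall
      let a : ↥(twistedD4 F 2) := ⟨g, e ▸ hg⟩
      have hN : Subgroup.normalClosure ({a} : Set ↥(twistedD4 F 2)) ≤ E.P2.subgroupOf (twistedD4 F 2) := by
        rw [Subgroup.normalClosure, Subgroup.closure_le]
        intro y hy
        rw [Group.mem_conjugatesOfSet_iff] at hy
        obtain ⟨b, rfl, hb⟩ := hy
        obtain ⟨c, rfl⟩ := isConj_iff.1 hb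
        exact hall c (e.symm ▸ c.2)
      rcases hs.eq_bot_or_eq_top_of_normal _ Subgroup.normalClosure_normal with h | h
      · have : a ∈ (⊥ : Subgroup ↥(twistedD4 F 2)) :=
          (SetLike.ext_iff.1 h a).1 (Subgroup.subset_normalClosure (Set.mem_singleton a))
        exact h1 (congrArg Subtype.val (Subgroup.mem_bot.1 this))
      · have hn : (⟨E.C.n 1, e ▸ E.C.n_mem 1⟩ : ↥(twistedD4 F 2)) ∈ E.P2.subgroupOf (twistedD4 F 2) :=
          hN ((SetLike.ext_iff.1 h _).2 (Subgroup.mem_top _))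
        exact E.n1_not_mem_P2 hn
    obtain ⟨l, hl, v, hv, u, hu, n, e'⟩ :=
      E.exists_good2 hz0 hz1 (mul_mem (mul_mem hk hg) (inv_mem hk)) hkP
    refine E.isProd_conj hk (E.isProd_conj hl ?_)
    rw [e']
    exact E.good_prod2 hz0 hz1 n hv hu

end Setup

end Cfsg.Agent.Cover3D4
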